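import Cfsg.Agent.Lib.MinNonCA.ListFactsBase
import Cfsg.Agent.Lib.PSLBinary.Dihedral
import Cfsg.Agent.Lib.PSLBinary.Exceptional
import Cfsg.Agent.Lib.SelfCentNoncyclic.Psl
import Cfsg.Agent.Lib.Fusion.RankTwoCentral.ModelPSL

/-!
# Minimal non-CA groups: the facts for `PSL(2,q)`
-/

set_option autoImplicit false
set_option linter.unusedSectionVars false

namespace Cfsg.Agent.MinNonCA

open Matrix
open scoped MatrixGroups

variable {F : Type} [Field F] [Fintype F]

local notation "PG" => Matrix.ProjectiveSpecialLinearGroup (Fin 2) F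
local notation "π" => Forms.KleinPSL.pi F

theorem psl_centComm_even (h2 : (2 : F) = 0) {x : PG} (hx : x ≠ 1) : CentComm x := by
  intro a b ha hb
  obtain ⟨G, rfl⟩ := Forms.KleinPSL.pi_surjective x
  obtain ⟨A, rfl⟩ := Forms.KleinPSL.pi_surjective a
  obtain ⟨B, rfl⟩ := Forms.KleinPSL.pi_surjective b
  rw [← map_mul, ← map_mul] at ha hb
  rw [← map_mul, ← map_mul, PSLBinary.commute_of_commute hx (PSLBinary.pi_injective h2 ha).symm
    (PSLBinary.pi_injective h2 hb).symm]

theorem psl_centComm_odd {x : PG} (hx : x ≠ 1) (ho : Odd (orderOf x)) : CentComm x := by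
  obtain ⟨G, hG, hGn⟩ : ∃ G : SL(2, F), π G = x ∧ G ^ orderOf x = 1 := by
    obtain ⟨G, rfl⟩ := Forms.KleinPSL.pi_surjective x
    have h : π (G ^ orderOf (π G)) = π 1 := by rw [map_pow, pow_orderOf_eq_one, map_one]
    rcases Forms.KleinPSL.pi_eq_iff.1 h with e | e
    · exact ⟨G, rfl, e⟩
    · refine ⟨-G, Forms.KleinPSL.pi_eq_iff.2 (Or.inr rfl), ?_⟩
      rw [ho.neg_pow, e, neg_neg]
  subst hG
  have key : ∀ a : PG, a * π G = π G * a → ∃ A : SL(2, F), π A = a ∧ G * A = A * G := by
    intro a ha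
    obtain ⟨A, rfl⟩ := Forms.KleinPSL.pi_surjective a
    rw [← map_mul, ← map_mul] at ha
    refine ⟨A, rfl, ?_⟩
    rcases Forms.KleinPSL.pi_eq_iff.1 ha with e | e
    · exact e.symm
    · -- then `A` conjugates `G` to `-G`, whose odd power is `-1`
      have h : A * G * A⁻¹ = -G := by rw [e, neg_mul, mul_inv_cancel_right]
      have h1 : (-1 : SL(2, F)) = 1 := by
        have hp := congrArg (· ^ orderOf (π G)) h
        simp only [conj_pow, hGn, ho.neg_pow, mul_one, mul_inv_cancel] at hp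
        exact hp.symm
      rw [← one_mul (G * A), ← neg_mul, h1, one_mul] at e
      exact e.symm
  intro a b ha hb
  obtain ⟨A, rfl, hA⟩ := key a ha
  obtain ⟨B, rfl, hB⟩ := key b hb
  rw [← map_mul, ← map_mul, PSLBinary.commute_of_commute hx hA hB]

theorem psl_centGood {x : PG} (hx : (orderOf x).Prime) : CentGood x := by
  have hx1 : x ≠ 1 := fun e => by rw [e, orderOf_one] at hx; exact Nat.not_prime_one hx
  by_cases h2 : (2 : F) = 0
  · exact centGood_of_centComm (psl_centComm_even h2 hx1)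
  rcases hx.eq_two_or_odd' with h | h
  · exact centGood_of_invol (fun y z hy hz => PSLBinary.involutions_conj h2 hy hz) h
  · exact centGood_of_centComm (psl_centComm_odd hx1 h)

theorem psl_five (h5 : Fintype.card F = 5) {x : PG} (hx : x ≠ 1) : CentComm x := by
  have h2 : (2 : F) ≠ 0 := fun h => by
    have hc : ringChar F = 2 := CharP.ringChar_of_prime_eq_zero Nat.prime_two h
    have := FiniteField.even_card_iff_char_two.1 hc
    omega
  refine centComm_of_prime_elements (fun y hy => ?_) hx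
  have hy1 : y ≠ 1 := fun e => by rw [e, orderOf_one] at hy; exact Nat.not_prime_one hy
  rcases hy.eq_two_or_odd' with h | h
  · rcases SelfCentNoncyclic.card_cent_invol_cases h2 h with ⟨-, hc⟩ | ⟨h4, -⟩
    · exact centComm_of_prime_sq Nat.prime_two (by rw [hc, h5]; norm_num)
    · omega
  · exact psl_centComm_odd hy1 h

theorem psl_mod_eight (hodd : Fintype.card F % 2 = 1) (h : TwoComm PG) :
    Fintype.card F % 8 = 3 ∨ Fintype.card F % 8 = 5 := by
  by_contra hne
  obtain ⟨k, r, hk, hr⟩ : ∃ k r, Fintype.card F = 8 * k + r ∧ (r = 1 ∨ r = 7) :=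
    ⟨Fintype.card F / 8, Fintype.card F % 8, by omega, by omega⟩
  have h16 : 16 ∣ Fintype.card F ^ 2 - 1 := by
    rcases hr with rfl | rfl
    · exact ⟨4 * k ^ 2 + k, by rw [hk]; exact Nat.sub_eq_of_eq_add (by ring)⟩
    · exact ⟨4 * k ^ 2 + 7 * k + 3, by rw [hk]; exact Nat.sub_eq_of_eq_add (by ring)⟩
  obtain ⟨S⟩ : Nonempty (Sylow 2 PG) := inferInstance
  obtain ⟨a, ha, ⟨e⟩⟩ := Fusion.RankTwoCentral.sylow_PSL_two hodd h16 S
  have hc : ∀ u v : DihedralGroup (2 ^ a), u * v = v * u := fun u v => by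
    apply e.symm.injective
    rw [map_mul, map_mul]
    exact Subtype.ext (h S S.isPGroup' _ (e.symm u).2 _ (e.symm v).2)
  have := hc (DihedralGroup.r 1) (DihedralGroup.sr 0)
  simp only [DihedralGroup.r_mul_sr, DihedralGroup.sr_mul_r, DihedralGroup.sr.injEq, zero_sub,
    zero_add] at this
  have h0 : ((2 : ℕ) : ZMod (2 ^ a)) = 0 := by
    push_cast
    linear_combination -this
  have hd := (ZMod.natCast_eq_zero_iff 2 (2 ^ a)).1 h0 |> fun h => Nat.le_of_dvd two_pos h
  have := Nat.pow_le_pow_right two_pos ha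
  omega

theorem psl_abelianSylow (h3 : 3 < Fintype.card F) (h : TwoComm PG) :
    (∀ x : PG, x ≠ 1 → CentComm x) ∨
      (5 < Fintype.card F ∧ (Fintype.card F % 8 = 3 ∨ Fintype.card F % 8 = 5)) := by
  by_cases h2 : (2 : F) = 0
  · exact Or.inl fun x hx => psl_centComm_even h2 hx
  by_cases h5 : Fintype.card F = 5
  · exact Or.inl fun x hx => psl_five h5 hx
  have hodd : Fintype.card F % 2 = 1 := FiniteField.odd_card_of_char_ne_two fun hc => h2 (by
    haveI := ringChar.of_eq hc
    exact CharTwo.two_eq_zero)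
  have h8 := psl_mod_eight hodd h
  exact Or.inr ⟨by omega, h8⟩

end Cfsg.Agent.MinNonCA
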