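import Cfsg.Agent.Lib.MinNonCA.Defs
import Cfsg.Agent.Lib.AutPSL.Conj

/-!
# Minimal non-CA groups (S4369): automorphisms of `SL(2,F)` of prime order

An automorphism of prime order is conjugation by a matrix, whose fixed points lie in the commutative algebra
generated by it, or is conjugate to a field automorphism, which leaves the Borel subgroup invariant.
-/

set_option autoImplicit false

namespace Cfsg.Agent.MinNonCA.Outer

open Matrix Cfsg.Agent.AutPSL.Basic Cfsg.Agent.AutPSL.Main Cfsg.Agent.AutPSL.Out Cfsg.Agent.AutPSL.Conj Cfsg.Agent.AutPSL.Speiser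

variable {F : Type} [Field F]

local notation "S2" => Matrix.SpecialLinearGroup (Fin 2) F
local notation "M2" => Matrix (Fin 2) (Fin 2) F

theorem exists_sq_ne_one [Fintype F] (h : 4 ≤ Fintype.card F) : ∃ a : F, a ≠ 0 ∧ a ^ 2 ≠ 1 := by
  classical
  by_contra hc
  push Not at hc
  have hsub : (Finset.univ : Finset F) ⊆ {0, 1, -1} := by
    intro a _
    rcases eq_or_ne a 0 with rfl | ha
    · simp
    · rcases sq_eq_one_iff.1 (hc a ha) with rfl | rfl <;> simp
  have := (Finset.card_le_card hsub).trans Finset.card_le_three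
  rw [Finset.card_univ] at this
  omega

/-- A lift to `SL(2,F)` of an automorphism of `PSL(2,F)` is unique. -/
theorem descend_injective {a : F} (ha : a ≠ 0) (ha2 : a ^ 2 ≠ 1) :
    Function.Injective (descend (F := F) (n := 2)) := by
  refine (injective_iff_map_eq_one _).2 fun φ h => ?_
  have hz : ∀ s : S2, φ s * s⁻¹ ∈ Subgroup.center S2 := fun s => by
    have h1 := DFunLike.congr_fun h (QuotientGroup.mk s)
    rw [descend_mk, MulAut.one_apply] at h1
    rw [← QuotientGroup.eq_one_iff, QuotientGroup.mk_mul, QuotientGroup.mk_inv, h1, mul_inv_cancel]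
  let f : S2 →* ↥(Subgroup.center S2) := MonoidHom.mk' (fun s => ⟨φ s * s⁻¹, hz s⟩) fun s t => Subtype.ext (by
    show φ (s * t) * (s * t)⁻¹ = φ s * s⁻¹ * (φ t * t⁻¹)
    have := Subgroup.mem_center_iff.1 (hz t) s⁻¹
    rw [mul_assoc (φ s), this, map_mul, _root_.mul_inv_rev]
    simp only [mul_assoc])
  have hle : commutator S2 ≤ f.ker := by
    rw [commutator_def, Subgroup.commutator_le]
    intro x _ y _
    rw [MonoidHom.mem_ker, map_commutatorElement, commutatorElement_eq_one_iff_mul_comm]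
    exact Subtype.ext (Subgroup.mem_center_iff.1 (f y).2 _)
  refine MulEquiv.ext fun s => ?_
  have hs : s ∈ f.ker := hle (by rw [Matrix.SL2.commutator_eq_top ha ha2]; trivial)
  have hs' : φ s * s⁻¹ = 1 := congrArg Subtype.val (MonoidHom.mem_ker.1 hs)
  rw [mul_inv_eq_one] at hs'
  rw [MulAut.one_apply, hs']

/-- Two matrices commuting with a non-scalar matrix commute. -/
theorem comm_of_comm {g A B : M2} (hg : ¬ ∃ c : F, g = c • 1) (hA : A * g = g * A) (hB : B * g = g * B) :
    A * B = B * A := by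
  have hex : ∀ {X : M2}, X * g = g * X → ∃ x y : F, X = x • 1 + y • g := by
    intro X hX
    have e00 := congrFun (congrFun hX 0) 0
    have e01 := congrFun (congrFun hX 0) 1
    have e10 := congrFun (congrFun hX 1) 0
    simp only [Matrix.mul_apply, Fin.sum_univ_two] at e00 e01 e10
    by_cases h01 : g 0 1 = 0
    · by_cases h10 : g 1 0 = 0
      · have hne : g 0 0 - g 1 1 ≠ 0 := fun h => hg ⟨g 0 0, by
          ext i j; fin_cases i <;> fin_cases j <;> simp [h01, h10, (sub_eq_zero.1 h).symm]⟩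
        rw [h01] at e01
        rw [h10] at e10
        have hx01 : X 0 1 = 0 := (mul_eq_zero.1 (show (g 0 0 - g 1 1) * X 0 1 = 0 by linear_combination -e01)).resolve_left hne
        have hx10 : X 1 0 = 0 := (mul_eq_zero.1 (show (g 0 0 - g 1 1) * X 1 0 = 0 by linear_combination e10)).resolve_left hne
        refine ⟨X 0 0 - (X 0 0 - X 1 1) / (g 0 0 - g 1 1) * g 0 0, (X 0 0 - X 1 1) / (g 0 0 - g 1 1), ?_⟩
        ext i j
        fin_cases i <;> fin_cases j <;> simp [h01, h10, hx01, hx10]
        field_simp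
        ring
      · refine ⟨X 0 0 - X 1 0 / g 1 0 * g 0 0, X 1 0 / g 1 0, ?_⟩
        ext i j
        fin_cases i <;> fin_cases j <;> simp [h01, h10]
        · rw [h01] at e00
          exact (mul_eq_zero.1 (show g 1 0 * X 0 1 = 0 by linear_combination e00)).resolve_left h10
        · field_simp
          linear_combination e10
    · refine ⟨X 0 0 - X 0 1 / g 0 1 * g 0 0, X 0 1 / g 0 1, ?_⟩
      ext i j
      fin_cases i <;> fin_cases j <;> simp [h01]
      · field_simp
        linear_combination -e00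
      · field_simp
        linear_combination -e01
  obtain ⟨x, y, rfl⟩ := hex hA
  obtain ⟨u, v, rfl⟩ := hex hB
  simp only [add_mul, mul_add, Matrix.smul_mul, Matrix.mul_smul, smul_smul, Matrix.one_mul, Matrix.mul_one,
    mul_comm x u, mul_comm y v, mul_comm x v, mul_comm y u]
  abel

/-- A non-scalar invertible matrix commutes with a non-scalar matrix of determinant one. -/
theorem exists_det_one [Fintype F] (h4 : 4 ≤ Fintype.card F) {g : M2} (hd : g.det ≠ 0) (hg : ¬ ∃ c : F, g = c • 1) :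
    ∃ A : S2, (A : M2) * g = g * A ∧ ¬ ∃ c : F, (A : M2) = c • 1 := by
  classical
  have hdet : ∀ x y : F, (x • (1 : M2) + y • g).det = x ^ 2 + x * y * g.trace + y ^ 2 * g.det := fun x y => by
    simp [Matrix.det_fin_two, Matrix.trace_fin_two]
    ring
  suffices h : ∃ x y : F, y ≠ 0 ∧ x ^ 2 + x * y * g.trace + y ^ 2 * g.det = 1 by
    obtain ⟨x, y, hy, h1⟩ := h
    refine ⟨⟨x • 1 + y • g, by rw [hdet, h1]⟩, ?_, fun ⟨c, hc⟩ => hg ⟨(c - x) / y, ?_⟩⟩
    · show (x • (1 : M2) + y • g) * g = g * (x • 1 + y • g)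
      simp [add_mul, mul_add]
    · change x • (1 : M2) + y • g = c • 1 at hc
      rw [div_eq_inv_mul, mul_smul, sub_smul, ← hc, add_sub_cancel_left, smul_smul, inv_mul_cancel₀ hy, one_smul]
  rcases eq_or_ne g.trace 0 with ht | ht
  · by_cases h2 : (2 : F) = 0
    · have hinj : Function.Injective fun x : F => x ^ 2 := fun x y h => by
        refine sub_eq_zero.1 (pow_eq_zero_iff (n := 2) (by norm_num) |>.1 ?_)
        linear_combination h - (x * y - y ^ 2) * h2
      obtain ⟨s, hs⟩ := (Finite.injective_iff_surjective.1 hinj) g.det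
      have hs0 : s ≠ 0 := fun h => hd (by rw [← hs, h]; ring)
      exact ⟨0, s⁻¹, inv_ne_zero hs0, by rw [← hs]; field_simp; ring⟩
    · obtain ⟨t, ht0, hts⟩ : ∃ t : F, t ≠ 0 ∧ 1 + g.det * t ^ 2 ≠ 0 := by
        by_contra hc
        push Not at hc
        obtain ⟨t1, ht1⟩ : ∃ t : F, t ≠ 0 := ⟨1, one_ne_zero⟩
        have hsub : (Finset.univ : Finset F) ⊆ {0, t1, -t1} := by
          intro t _
          rcases eq_or_ne t 0 with rfl | h0
          · simp
          · have e : g.det * (t ^ 2 - t1 ^ 2) = 0 := by linear_combination hc t h0 - hc t1 ht1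
            rcases sq_eq_sq_iff_eq_or_eq_neg.1 (sub_eq_zero.1 ((mul_eq_zero.1 e).resolve_left hd)) with rfl | rfl <;>
              simp
        have := (Finset.card_le_card hsub).trans Finset.card_le_three
        rw [Finset.card_univ] at this
        omega
      refine ⟨(1 - g.det * t ^ 2) / (1 + g.det * t ^ 2), 2 * t / (1 + g.det * t ^ 2),
        div_ne_zero (mul_ne_zero h2 ht0) hts, ?_⟩
      rw [ht]
      field_simp
      ring
  · exact ⟨-1, g.trace * g.det⁻¹, mul_ne_zero ht (inv_ne_zero hd), by field_simp; ring⟩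

theorem conjSL_eq_iff (g : GL (Fin 2) F) (s : S2) :
    conjSL g s = s ↔ (s : M2) * (g : M2) = (g : M2) * (s : M2) := by
  refine Iff.trans ⟨fun h => congrArg (fun t : S2 => (t : M2)) h, fun h => Subtype.ext h⟩ (?_ : ((conjSL g s : S2) : M2) = (s : M2) ↔ _)
  rw [conjSL_coe]
  constructor <;> intro h
  · conv_lhs => rw [← h, mul_assoc, Units.inv_mul, mul_one]
  · rw [← h, mul_assoc, Units.mul_inv, mul_one]

theorem not_mem_center_of {A : S2} (h : ¬ ∃ c : F, (A : M2) = c • 1) : A ∉ Subgroup.center S2 := fun hA =>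
  h ((mk_eq_one_iff A).1 ((QuotientGroup.eq_one_iff A).2 hA))

/-- The Borel subgroup. -/
def borel : Subgroup S2 where
  carrier := {s | (s : M2) 1 0 = 0}
  one_mem' := by simp
  mul_mem' := fun {a b} ha hb => by
    show ((a : M2) * (b : M2)) 1 0 = 0
    rw [Matrix.mul_apply, Fin.sum_univ_two, show (a : M2) 1 0 = 0 from ha, show (b : M2) 1 0 = 0 from hb]
    ring
  inv_mem' := fun {a} ha => by
    show ((a⁻¹ : S2) : M2) 1 0 = 0
    rw [Matrix.SpecialLinearGroup.coe_inv, Matrix.adjugate_fin_two]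
    simpa using ha

theorem mem_borel {s : S2} : s ∈ borel ↔ (s : M2) 1 0 = 0 := Iff.rfl

theorem mem_borel' {m : M2} {h : m.det = 1} : (⟨m, h⟩ : S2) ∈ borel ↔ m 1 0 = 0 := Iff.rfl

theorem borel_solvable : Group.IsSolvable ↥(borel (F := F)) := by
  let f : ↥(borel (F := F)) →* F :=
    { toFun := fun s => (s.1 : M2) 0 0
      map_one' := by simp
      map_mul' := fun a b => by
        show ((a.1 : M2) * (b.1 : M2)) 0 0 = _
        rw [Matrix.mul_apply, Fin.sum_univ_two, mem_borel.1 b.2]
        ring }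
  have : Group.IsSolvable ↥f.toHomUnits.ker := Group.isSolvable_of_comm fun a b => by
    have key : ∀ s : ↥f.toHomUnits.ker, (s.1.1 : M2) 0 0 = 1 ∧ (s.1.1 : M2) 1 1 = 1 := fun s => by
      have h0 : (s.1.1 : M2) 0 0 = 1 := congrArg Units.val (MonoidHom.mem_ker.1 s.2)
      have hd := s.1.1.2
      rw [Matrix.det_fin_two, mem_borel.1 s.1.2, h0] at hd
      exact ⟨h0, by linear_combination hd⟩
    refine Subtype.ext (Subtype.ext (Subtype.ext ?_))
    show (a.1.1 : M2) * (b.1.1 : M2) = (b.1.1 : M2) * (a.1.1 : M2)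
    obtain ⟨ha, ha'⟩ := key a
    obtain ⟨hb, hb'⟩ := key b
    ext i j
    fin_cases i <;> fin_cases j <;> simp [Matrix.mul_apply, Fin.sum_univ_two, ha, ha', hb, hb',
      mem_borel.1 a.1.2, mem_borel.1 b.1.2, add_comm]
  exact Group.isSolvable_of_ker_le_range (Subgroup.subtype _) f.toHomUnits (by rw [Subgroup.range_subtype])

/-- An upper unitriangular matrix. -/
def uni (c : F) : S2 := ⟨!![1, c; 0, 1], by simp [Matrix.det_fin_two]⟩

/-- A diagonal matrix. -/
def dia (a : F) (ha : a ≠ 0) : S2 := ⟨!![a, 0; 0, a⁻¹], by simp [Matrix.det_fin_two, ha]⟩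

theorem uni_coe (c : F) : ((uni c : S2) : M2) = !![1, c; 0, 1] := rfl

theorem dia_coe (a : F) (ha : a ≠ 0) : ((dia a ha : S2) : M2) = !![a, 0; 0, a⁻¹] := rfl

theorem slTwoAutFact : SLTwoAutFact := by
  intro F _ _ h4 φ r hr hpow
  classical
  rcases eq_or_ne φ 1 with h1 | hφ
  · exact Or.inl h1
  refine Or.inr ?_
  obtain ⟨a, ha, ha2⟩ := exists_sq_ne_one h4
  have hinj := descend_injective ha ha2
  obtain ⟨g, σ, hgσ⟩ := exists_decomp_two (descend φ)
  have hg : (gAut g * fAut σ : MulAut (Matrix.ProjectiveSpecialLinearGroup (Fin 2) F)) ^ r = 1 := by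
    rw [← hgσ, ← map_pow, hpow, map_one]
  rcases eq_or_ne σ 1 with rfl | hσ
  · have e : φ = conjSL g := hinj (by rw [hgσ, map_one, mul_one]; rfl)
    have hns : ¬ ∃ c : F, (g : Matrix (Fin 2) (Fin 2) F) = c • 1 := by
      rintro ⟨c, hc⟩
      refine hφ (MulEquiv.ext fun s => ?_)
      rw [e, MulAut.one_apply, conjSL_eq_iff, hc]
      simp
    refine Or.inl ⟨fun x y hx hy => ?_, ?_⟩
    · rw [e, conjSL_eq_iff] at hx hy
      exact Subtype.ext (comm_of_comm hns hx hy)
    · obtain ⟨A, hA, hA'⟩ := exists_det_one h4 ((Matrix.GeneralLinearGroup.det g).ne_zero) hns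
      exact ⟨A, by rw [e, conjSL_eq_iff]; exact hA, not_mem_center_of hA'⟩
  · refine Or.inr ?_
    have hσr : orderOf σ = r := by
      rw [pow_gAut_fAut] at hg
      obtain ⟨h, -⟩ := mul_field_eq_one le_rfl hg
      have := Fact.mk hr
      exact orderOf_eq_prime h hσ
    obtain ⟨B, hB⟩ := exists_decomp_field σ hσr le_rfl g hg
    set α := conjSL (n := 2) B with hα
    have e : φ = α * fieldSL σ * α⁻¹ := hinj (by rw [hgσ, hB, map_mul, map_mul, map_inv]; rfl)
    have hφα : ∀ s, φ (α s) = α (fieldSL σ s) := fun s => by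
      rw [e, MulAut.mul_apply, MulAut.mul_apply, MulAut.inv_apply, MulEquiv.symm_apply_apply]
    obtain ⟨c, hc⟩ : ∃ c : F, σ c ≠ c := not_forall.1 fun h => hσ (RingEquiv.ext h)
    refine ⟨(borel (F := F)).map α.toMonoidHom, ?_, ?_, α (uni 1), ⟨uni 1, mem_borel'.2 (by simp), rfl⟩, ?_,
      ⟨α (dia a ha), ⟨dia a ha, mem_borel'.2 (by simp), rfl⟩, ?_⟩,
      α (uni c), ⟨uni c, mem_borel'.2 (by simp), rfl⟩, ?_, ?_⟩
    · have := borel_solvable (F := F)
      exact Group.isSolvable_of_surjective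
        (f := ((borel (F := F)).equivMapOfInjective α.toMonoidHom α.injective).toMonoidHom)
        ((borel (F := F)).equivMapOfInjective α.toMonoidHom α.injective).surjective
    · rintro _ ⟨s, hs, rfl⟩
      refine ⟨fieldSL σ s, ?_, (hφα s).symm⟩
      show ((fieldSL σ s : Matrix.SpecialLinearGroup (Fin 2) F) : Matrix (Fin 2) (Fin 2) F) 1 0 = 0
      rw [fieldSL_coe, Matrix.map_apply, show (s : Matrix (Fin 2) (Fin 2) F) 1 0 = 0 from hs, map_zero]
    · rw [hφα]
      refine congrArg α (Subtype.ext ?_)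
      rw [fieldSL_coe]
      ext i j
      fin_cases i <;> fin_cases j <;> simp [uni_coe]
    · rw [← map_mul, ← map_mul]
      intro h
      have h' := congrArg (fun s : Matrix.SpecialLinearGroup (Fin 2) F => (s : Matrix (Fin 2) (Fin 2) F) 0 1)
        (α.injective h)
      simp [Matrix.SpecialLinearGroup.coe_mul, uni_coe, dia_coe] at h'
      exact ha2 (by rw [sq]; nth_rewrite 2 [h']; exact mul_inv_cancel₀ ha)
    · rw [← map_mul, ← map_mul]
      refine congrArg α (Subtype.ext ?_)
      ext i j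
      fin_cases i <;> fin_cases j <;> simp [Matrix.SpecialLinearGroup.coe_mul, uni_coe, add_comm]
    · intro z hz
      rw [hφα]
      intro h
      have hz' : α z = z := Subtype.ext (by
        obtain ⟨c, hc⟩ := (mk_eq_one_iff z).1 ((QuotientGroup.eq_one_iff z).2 hz)
        rw [hα, conjSL_coe, hc, mul_smul_comm, mul_one, smul_mul_assoc, Units.mul_inv])
      rw [← hz', ← map_mul] at h
      have h' := congrArg Subtype.val (α.injective h)
      obtain ⟨d, hd⟩ := (mk_eq_one_iff z).1 ((QuotientGroup.eq_one_iff z).2 hz)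
      rw [Matrix.SpecialLinearGroup.coe_mul, hd, mul_smul_comm, mul_one, fieldSL_coe, uni_coe] at h'
      have h1 := congrFun (congrFun h' 0) 0
      have h2 := congrFun (congrFun h' 0) 1
      simp at h1 h2
      rw [← h1, one_mul] at h2
      exact hc h2

/-- Over the field with nine elements an automorphism of odd prime order is inner. -/
theorem inner_of_odd (F : Type) [Field F] [Fintype F] (h9 : Fintype.card F = 9)
    (φ : MulAut (Matrix.SpecialLinearGroup (Fin 2) F)) {r : ℕ} (hodd : Odd r) (hpow : φ ^ r = 1) :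
    ∃ u : Matrix.SpecialLinearGroup (Fin 2) F, ∀ s, φ s = u * s * u⁻¹ := by
  classical
  obtain ⟨a, ha, ha2⟩ := exists_sq_ne_one (F := F) (by omega)
  have hinj := descend_injective ha ha2
  obtain ⟨g, σ, hgσ⟩ := exists_decomp_two (descend φ)
  have hg : (gAut g * fAut σ : MulAut (Matrix.ProjectiveSpecialLinearGroup (Fin 2) F)) ^ r = 1 := by
    rw [← hgσ, ← map_pow, hpow, map_one]
  rw [pow_gAut_fAut] at hg
  obtain ⟨hσr, hgr⟩ := mul_field_eq_one le_rfl hg
  have hσ : σ = 1 := by
    have : Fact (Nat.Prime 3) := ⟨Nat.prime_three⟩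
    obtain ⟨e⟩ := exists_ringAut_equiv (F := F) (p := 3) (f := 2) (by rw [h9]; norm_num)
    have h2 : σ ^ 2 = 1 := e.injective (by
      rw [map_pow, map_one]
      exact (by decide : ∀ m : Multiplicative (ZMod 2), m ^ 2 = 1) (e σ))
    obtain ⟨k, hk⟩ := hodd
    rwa [hk, pow_add, pow_mul, h2, one_pow, one_mul, pow_one] at hσr
  subst hσ
  obtain ⟨c, hc⟩ := exists_sc (by norm_num) hgr
  have htw : ∀ i, twist (1 : F ≃+* F) g i = g ^ i := fun i => by
    induction i with
    | zero => rfl
    | succ i ih => rw [twist, ih, pow_succ']; exact congrArg (g * ·) (fieldGL_one _)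
  rw [htw] at hc
  have hcd : Matrix.GeneralLinearGroup.det g ^ r = c ^ 2 := by
    rw [← map_pow, ← hc]
    refine Units.ext ?_
    rw [Matrix.GeneralLinearGroup.val_det_apply, sc_coe, Units.val_pow_eq_pow_val, Matrix.scalar_apply,
      Matrix.det_diagonal]
    simp
  -- the determinant is a square, so the matrix may be normalised
  obtain ⟨k, hk⟩ := hodd
  set d : Fˣ := c * (Matrix.GeneralLinearGroup.det g ^ k)⁻¹ with hd
  have hd2 : d ^ 2 = Matrix.GeneralLinearGroup.det g := by
    rw [hd, mul_pow, ← hcd, inv_pow, ← pow_mul, mul_inv_eq_iff_eq_mul, hk, mul_comm k 2, pow_succ']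
  set u : GL (Fin 2) F := sc d⁻¹ * g with hu
  have hdet : (u : Matrix (Fin 2) (Fin 2) F).det = 1 := by
    rw [hu, Units.val_mul, Matrix.det_mul, sc_coe, Matrix.scalar_apply, Matrix.det_diagonal,
      ← Matrix.GeneralLinearGroup.val_det_apply, ← hd2]
    simp
  obtain ⟨w, hw⟩ : ∃ w : Matrix.SpecialLinearGroup (Fin 2) F,
      (w : Matrix (Fin 2) (Fin 2) F) = (u : Matrix (Fin 2) (Fin 2) F) := ⟨⟨_, hdet⟩, rfl⟩
  refine ⟨w, fun s => ?_⟩
  have e : φ = conjSL u := hinj (by
    rw [hgσ, map_one, mul_one, hu]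
    show gAut g = gAut (sc d⁻¹ * g)
    rw [map_mul, gAut_sc le_rfl, one_mul])
  rw [e, eq_mul_inv_iff_mul_eq]
  refine Subtype.ext ?_
  rw [Matrix.SpecialLinearGroup.coe_mul, Matrix.SpecialLinearGroup.coe_mul, conjSL_coe, hw,
    mul_assoc, Units.inv_mul, mul_one]

end Cfsg.Agent.MinNonCA.Outer
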