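import Cfsg.Agent.Lib.MinNonCA.Basic
import Cfsg.Agent.Lib.MinNonCA.Outer
import Cfsg.Agent.Lib.Transfer.Frobenius

/-!
# Minimal non-CA groups (S4369): a minimal non-CA group is perfect

Otherwise the stable derived term `P` is a perfect CA group with centraliser `Z(G)`, and a bad element `x`
acts on `SL(2,F)`; the fixed points would be an abelian self-normalising subgroup (excluded by Burnside),
or `x` would centralise a moved element of a solvable invariant subgroup.
-/

set_option autoImplicit false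
set_option linter.style.haveILetI false
set_option linter.unusedSectionVars false

namespace Cfsg.Agent.MinNonCA.NotPerfect

open Subgroup
open Cfsg.Agent.FrobeniusSystem (isSolvable_of_sylow_two_central isSolvable_normalizer_sylow_two)

universe u

/-! ## Facts on `SL(2,F)` -/

section SL

variable {F : Type} [Field F] [Fintype F]

local notation "S2" => Matrix.SpecialLinearGroup (Fin 2) F

theorem not_scalar {d : S2} (hd : d ∉ center S2) :
    ¬ ∃ c : F, (d : Matrix (Fin 2) (Fin 2) F) = c • 1 := fun h =>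
  hd ((QuotientGroup.eq_one_iff d).1 ((AutPSL.Basic.mk_eq_one_iff d).2 h))

theorem sl_comm {d a b : S2} (hd : d ∉ center S2) (ha : a * d = d * a) (hb : b * d = d * b) : a * b = b * a :=
  Subtype.ext (Outer.comm_of_comm (not_scalar hd) (congrArg Subtype.val ha) (congrArg Subtype.val hb))

theorem sl_perfect (h4 : 4 ≤ Fintype.card F) : commutator S2 = ⊤ := by
  obtain ⟨a, ha, ha2⟩ := Outer.exists_sq_ne_one h4
  exact Matrix.SL2.commutator_eq_top ha ha2

/-- An element squaring to one is central, outside characteristic two. -/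
theorem mem_center_of_sq (h2 : (2 : F) ≠ 0) {s : S2} (hs : s * s = 1) : s ∈ center S2 := by
  have e := congrArg Subtype.val (inv_eq_of_mul_eq_one_right (a := s) (b := s) hs)
  rw [Matrix.SpecialLinearGroup.coe_inv, Matrix.adjugate_fin_two] at e
  have h00 := congrFun (congrFun e 0) 0
  have h01 := congrFun (congrFun e 0) 1
  have h10 := congrFun (congrFun e 1) 0
  simp at h00 h01 h10
  have z : ∀ y : F, -y = y → y = 0 := fun y hy =>
    (mul_eq_zero.1 (show (2 : F) * y = 0 by linear_combination -hy)).resolve_left h2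
  refine (QuotientGroup.eq_one_iff s).1 ((AutPSL.Basic.mk_eq_one_iff s).2 ⟨(s : Matrix (Fin 2) (Fin 2) F) 0 0, ?_⟩)
  ext i j
  fin_cases i <;> fin_cases j <;> simp [z _ h01, z _ h10, h00]

/-- An abelian normal subgroup is central. -/
theorem le_center_of_abelian_normal (h4 : 4 ≤ Fintype.card F) {A : Subgroup S2} [A.Normal]
    (hab : ∀ a ∈ A, ∀ b ∈ A, a * b = b * a) : A ≤ center S2 := by
  haveI hsimp : IsSimpleGroup (Matrix.ProjectiveSpecialLinearGroup (Fin 2) F) :=
    Classical.Linear.isSimpleGroup_PSL_fin le_rfl fun _ => h4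
  set f : S2 →* Matrix.ProjectiveSpecialLinearGroup (Fin 2) F := QuotientGroup.mk' _ with hf
  have hsurj : Function.Surjective f := QuotientGroup.mk'_surjective _
  haveI : (A.map f).Normal := Subgroup.Normal.map inferInstance _ hsurj
  rcases Subgroup.Normal.eq_bot_or_eq_top (inferInstance : (A.map f).Normal) with h | h
  · intro a ha
    have h1 : f a ∈ A.map f := mem_map_of_mem _ ha
    rw [h, mem_bot] at h1
    exact (QuotientGroup.eq_one_iff a).1 h1
  · have hall : ∀ x y : Matrix.ProjectiveSpecialLinearGroup (Fin 2) F, x * y = y * x := fun x y => by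
      obtain ⟨a, ha, rfl⟩ := mem_map.1 (h ▸ mem_top x : x ∈ A.map f)
      obtain ⟨b, hb, rfl⟩ := mem_map.1 (h ▸ mem_top y : y ∈ A.map f)
      rw [← map_mul, hab a ha b hb, map_mul]
    have hle : commutator S2 ≤ f.ker := by
      rw [_root_.commutator_def, Subgroup.commutator_le]
      intro a _ b _
      rw [MonoidHom.mem_ker, map_commutatorElement, commutatorElement_eq_one_iff_mul_comm]
      exact hall _ _
    intro a _
    exact (QuotientGroup.eq_one_iff a).1 (hle (sl_perfect h4 ▸ mem_top a))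

/-- No abelian non-central subgroup is self-normalising. -/
theorem no_self_normalizing (h4 : 4 ≤ Fintype.card F) {A : Subgroup S2}
    (hab : ∀ a ∈ A, ∀ b ∈ A, a * b = b * a) {d : S2} (hdA : d ∈ A) (hd : d ∉ center S2)
    (hN : normalizer (A : Set S2) ≤ A) : False := by
  classical
  -- a non-central element of prime power order
  obtain ⟨p, hp, e, heA, he, hep⟩ : ∃ p, p.Prime ∧ ∃ e ∈ A, e ∉ center S2 ∧ ∃ k, orderOf e = p ^ k := by
    set m := orderOf (d : S2 ⧸ center S2) with hm
    have hm1 : m ≠ 1 := fun h => hd ((QuotientGroup.eq_one_iff d).1 (orderOf_eq_one_iff.1 h))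
    have hp := Nat.minFac_prime hm1
    have hn0 : orderOf d ≠ 0 := (orderOf_pos d).ne'
    refine ⟨m.minFac, hp, d ^ ordCompl[m.minFac] (orderOf d), pow_mem hdA _, fun hc => ?_,
      (orderOf d).factorization m.minFac, ?_⟩
    · have h1 : ((d : S2 ⧸ center S2)) ^ ordCompl[m.minFac] (orderOf d) = 1 := by
        rw [← QuotientGroup.mk_pow]; exact (QuotientGroup.eq_one_iff _).2 hc
      exact Nat.not_dvd_ordCompl hp hn0 ((Nat.minFac_dvd m).trans (orderOf_dvd_of_pow_eq_one h1))
    · rw [orderOf_pow_of_dvd (Nat.ordCompl_pos _ hn0).ne' (Nat.ordCompl_dvd _ _)]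
      exact Nat.div_div_self (Nat.ordProj_dvd _ _) hn0
  haveI := Fact.mk hp
  have hcent : ∀ c ∈ A, c ∉ center S2 → ∀ s, s * c = c * s → s ∈ A := by
    intro c hcA hc s hs
    refine hN (mem_normalizer_iff.2 fun a => ⟨fun ha => ?_, fun ha => ?_⟩)
    · rw [sl_comm hc hs (hab a ha c hcA), mul_inv_cancel_right]; exact ha
    · have h2 := sl_comm hc (hab _ ha c hcA) hs
      rw [inv_mul_cancel_right] at h2
      rwa [← mul_left_cancel h2] at ha
  have hzp : IsPGroup p (zpowers e) := by
    obtain ⟨k, hk⟩ := hep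
    exact IsPGroup.of_card (n := k) (by rw [Nat.card_zpowers, hk])
  obtain ⟨R, hR⟩ := ((hzp.comap_of_injective A.subtype A.subtype_injective) :
    IsPGroup p ((zpowers e).subgroupOf A)).exists_le_sylow
  set S := (R : Subgroup A).map A.subtype with hS
  have heS : e ∈ S := mem_map.2 ⟨⟨e, heA⟩, hR (mem_subgroupOf.2 (mem_zpowers e)), rfl⟩
  have hSA : S ≤ A := map_subtype_le _
  have hSp : IsPGroup p S := R.2.map _
  have hNS : normalizer (S : Set S2) ≤ A := by
    intro n hn
    refine hN (mem_normalizer_fintype fun a ha => hcent _ (hSA ((mem_normalizer_iff.1 hn e).1 heS)) ?_ _ ?_)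
    · intro hc
      refine he ?_
      have := Normal.conj_mem (inferInstance : (center S2).Normal) _ hc n⁻¹
      simpa [mul_assoc] using this
    · rw [conj_mul, conj_mul, hab a ha e heA]
  obtain ⟨T, hT⟩ := hSp.exists_le_sylow
  have hTS : (T : Subgroup S2) = S := by
    by_contra hne
    obtain ⟨w, ⟨hwT, hwN⟩, hwS⟩ := SetLike.exists_of_lt
      (Cfsg.Agent.Transfer.Frobenius.lt_inf_normalizer T.2 (lt_of_le_of_ne hT (Ne.symm hne)))
    have hle : S ⊔ zpowers w ≤ (T : Subgroup S2) ⊓ A :=
      sup_le (le_inf hT hSA) (zpowers_le.2 ⟨hwT, hNS hwN⟩)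
    have hp' : IsPGroup p ((S ⊔ zpowers w).subgroupOf A) :=
      (T.2.to_le (hle.trans inf_le_left)).comap_of_injective A.subtype A.subtype_injective
    have hR' : (R : Subgroup A) ≤ (S ⊔ zpowers w).subgroupOf A := fun r hr =>
      mem_subgroupOf.2 (mem_sup_left (mem_map_of_mem _ hr))
    exact hwS (mem_map.2 ⟨⟨w, hNS hwN⟩, R.3 hp' hR' ▸ mem_subgroupOf.2 (mem_sup_right (mem_zpowers w)), rfl⟩)
  have hNC : normalizer ((T : Subgroup S2) : Set S2) ≤ centralizer ((T : Subgroup S2) : Set S2) := fun n hn =>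
    mem_centralizer_iff.2 fun t ht => hab t (hSA (hTS ▸ ht)) n (hNS (by rwa [← hTS]))
  have hker : commutator S2 ≤ (MonoidHom.transferSylow T hNC).ker := by
    rw [_root_.commutator_def, Subgroup.commutator_le]
    intro a _ b _
    rw [MonoidHom.mem_ker, map_commutatorElement, commutatorElement_eq_one_iff_mul_comm]
    exact Subtype.ext (hab _ (hSA (hTS ▸ SetLike.coe_mem _)) _ (hSA (hTS ▸ SetLike.coe_mem _)))
  have h1 := MonoidHom.mem_ker.1 (hker (sl_perfect h4 ▸ mem_top e))
  have heT : e ∈ (T : Subgroup S2) := hT heS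
  rw [MonoidHom.transferSylow_eq_pow T hNC e heT] at h1
  have h2 : e ^ (T : Subgroup S2).index = 1 := congrArg Subtype.val h1
  obtain ⟨k, hk⟩ := hep
  have h3 := orderOf_dvd_of_pow_eq_one h2
  rw [hk] at h3
  rcases k with _ | k
  · rw [pow_zero, orderOf_eq_one_iff] at hk
    exact he (hk ▸ one_mem _)
  · exact T.not_dvd_index ((dvd_pow_self p k.succ_ne_zero).trans h3)

end SL

/-! ## The stable derived term -/

variable {G : Type u} [Group G] [Finite G]

theorem exists_residual (hns : ¬ Group.IsSolvable G) :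
    ∃ L : Subgroup G, ∃ _ : L.Normal, commutator L = ⊤ ∧ Nontrivial L ∧ L ≤ commutator G ∧
      Group.IsSolvable (G ⧸ L) := by
  obtain ⟨k, hk⟩ : ∃ k, derivedSeries G (k + 1) = derivedSeries G k := by
    by_contra hne
    push Not at hne
    have hdec : ∀ k, Nat.card (derivedSeries G k) + k ≤ Nat.card G := by
      intro k
      induction k with
      | zero => simp
      | succ k ih =>
        have hle : derivedSeries G (k + 1) ≤ derivedSeries G k := derivedSeries_antitone G (Nat.le_succ k)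
        have hlt : Nat.card (derivedSeries G (k + 1)) < Nat.card (derivedSeries G k) := by
          by_contra hge
          exact hne k (Subgroup.eq_of_le_of_card_ge hle (not_lt.1 hge))
        omega
    have := hdec (Nat.card G + 1)
    omega
  have hbot : derivedSeries G k ≠ ⊥ := fun hb => hns ((Group.isSolvable_def G).2 ⟨k, hb⟩)
  refine ⟨derivedSeries G k, derivedSeries_normal G k, ?_, (Subgroup.nontrivial_iff_ne_bot _).2 hbot, ?_, ?_⟩
  · refine Subgroup.map_injective (derivedSeries G k).subtype_injective ?_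
    rw [_root_.commutator_def, map_commutator, ← MonoidHom.range_eq_map, range_subtype]
    exact hk
  · rw [← hk, ← derivedSeries_one]
    exact derivedSeries_antitone G (by omega)
  · haveI := derivedSeries_normal G k
    refine (Group.isSolvable_def _).2 ⟨k, ?_⟩
    rw [← map_derivedSeries_eq (QuotientGroup.mk'_surjective (derivedSeries G k)) k, Subgroup.map_eq_bot_iff,
      QuotientGroup.ker_mk']

variable {P : Subgroup G} [P.Normal]

/-- Only central elements centralise the perfect residual. -/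
theorem mem_center_of_centralizes (hS : Setup G) (hP : commutator P = ⊤) [Nontrivial P]
    (hsol : Group.IsSolvable (G ⧸ P)) {y : G} (hy : ∀ p ∈ P, p * y = y * p) : y ∈ center G := by
  haveI : Fact (Nat.Prime 2) := ⟨Nat.prime_two⟩
  obtain ⟨T⟩ : Nonempty (Sylow 2 P) := inferInstance
  set N := normalizer (((T : Subgroup P).map P.subtype : Subgroup G) : Set G) with hN
  have hyN : y ∈ N := by
    refine mem_normalizer_fintype fun t ht => ?_
    rw [← hy t (map_subtype_le _ ht), mul_inv_cancel_right]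
    exact ht
  have hNs : Group.IsSolvable N := by
    set f : ↥N →* G ⧸ P := (QuotientGroup.mk' P).comp N.subtype with hf
    set M := normalizer ((T : Subgroup P) : Set P) with hM
    haveI := hsol
    haveI := isSolvable_normalizer_sylow_two T
    let ι : ↥M →* ↥N :=
      { toFun := fun m => ⟨((m : P) : G), mem_normalizer_fintype fun t ht => by
          obtain ⟨t', ht', rfl⟩ := mem_map.1 ht
          exact mem_map.2 ⟨(m : P) * t' * (m : P)⁻¹, (mem_normalizer_iff.1 m.2 t').1 ht', rfl⟩⟩
        map_one' := rfl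
        map_mul' := fun _ _ => rfl }
    refine Group.isSolvable_of_ker_le_range ι f fun n hn => ?_
    have hnP : (n : G) ∈ P := (QuotientGroup.eq_one_iff _).1 hn
    refine ⟨⟨⟨n, hnP⟩, mem_normalizer_fintype fun t ht => ?_⟩, rfl⟩
    obtain ⟨s, hs, hse⟩ := mem_map.1 ((mem_normalizer_iff.1 n.2 (t : G)).1 (mem_map_of_mem _ ht))
    exact (show s = (⟨n, hnP⟩ : P) * t * (⟨n, hnP⟩ : P)⁻¹ from Subtype.ext hse) ▸ hs
  have hNne := hS.ne_top_of_isSolvable hNs
  -- the normaliser in the residual is not commutative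
  obtain ⟨a, ha, b, hb, hab⟩ : ∃ a ∈ normalizer ((T : Subgroup P) : Set P), ∃ b ∈ (T : Subgroup P), a * b ≠ b * a := by
    by_contra hcon
    push Not at hcon
    have hs : Group.IsSolvable P := isSolvable_of_sylow_two_central T fun g hg =>
      mem_centralizer_iff.2 fun t ht => (hcon g hg t ht).symm
    obtain ⟨k, hk⟩ := (Group.isSolvable_def P).1 hs
    have hall : ∀ k, derivedSeries P k = ⊤ := by
      intro k
      induction k with
      | zero => rfl
      | succ k ih => rw [derivedSeries_succ, ih, ← _root_.commutator_def, hP]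
    exact bot_ne_top (hk.symm.trans (hall k))
  have haN : (a : G) ∈ N := mem_normalizer_fintype fun t ht => by
    obtain ⟨t', ht', rfl⟩ := mem_map.1 ht
    exact mem_map.2 ⟨a * t' * a⁻¹, (mem_normalizer_iff.1 ha t').1 ht', rfl⟩
  have hbN : (b : G) ∈ N := le_normalizer (mem_map_of_mem _ hb)
  refine mem_center_iff.2 fun g => ?_
  have hle : P ⊔ N ≤ centralizer ({y} : Set G) := sup_le (fun p hp => mem_cent.2 (hy p hp)) fun n hn =>
    mem_cent.2 (hS.central_of_noncomm hNne hyN haN (hy _ a.2) hbN (hy _ b.2)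
      (fun e => hab (Subtype.ext e)) hn)
  have hmem : g ∈ P ⊔ N := by rw [sup_comm, hN, Sylow.normalizer_sup_eq_top T]; exact mem_top g
  exact mem_cent.1 (hle hmem)

/-- An element inducing the identity modulo a central subgroup of `P` centralises `P`. -/
theorem comm_of_fix_mod {H : Type*} [Group H] (hP : commutator P = ⊤) (π : P →* H)
    (hker : π.ker ≤ center P) {y : G} (h : ∀ p : P, π (MulAut.conjNormal y p) = π p) :
    ∀ p ∈ P, p * y = y * p := by
  have hz : ∀ p : P, MulAut.conjNormal y p * p⁻¹ ∈ center P := fun p =>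
    hker (by rw [MonoidHom.mem_ker, map_mul, map_inv, h, mul_inv_cancel])
  let f : P →* ↥(center P) := MonoidHom.mk' (fun p => ⟨_, hz p⟩) fun s t => Subtype.ext (by
    show MulAut.conjNormal y (s * t) * (s * t)⁻¹ = MulAut.conjNormal y s * s⁻¹ * (MulAut.conjNormal y t * t⁻¹)
    have := mem_center_iff.1 (hz t) s⁻¹
    rw [mul_assoc (MulAut.conjNormal y s), this, map_mul, _root_.mul_inv_rev]
    simp only [mul_assoc])
  have hle : commutator P ≤ f.ker := by
    rw [_root_.commutator_def, Subgroup.commutator_le]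
    intro a _ b _
    rw [MonoidHom.mem_ker, map_commutatorElement, commutatorElement_eq_one_iff_mul_comm]
    exact Subtype.ext (mem_center_iff.1 (f b).2 _)
  intro p hp
  have h1 : MulAut.conjNormal y (⟨p, hp⟩ : P) * (⟨p, hp⟩ : P)⁻¹ = 1 :=
    congrArg Subtype.val (MonoidHom.mem_ker.1 (hle (hP ▸ mem_top (⟨p, hp⟩ : P))))
  rw [mul_inv_eq_one] at h1
  have h2 := congrArg Subtype.val h1
  rw [MulAut.conjNormal_apply, mul_inv_eq_iff_eq_mul] at h2
  exact h2.symm

/-- The fixed points of a bad element do not have abelian non-central image. -/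
theorem no_abelian_fix (hS : Setup G) {x : G} (hx : Bad x) {F : Type} [Field F] [Fintype F]
    (h4 : 4 ≤ Fintype.card F) {π : P →* Matrix.SpecialLinearGroup (Fin 2) F} (hπ : Function.Surjective π)
    (hRc : ∀ ρ : P, π ρ = 1 → (ρ : G) ∈ center G)
    (hab : ∀ a b : P, (a : G) * x = x * a → (b : G) * x = x * b → π a * π b = π b * π a)
    (hne : ∃ a : P, (a : G) * x = x * a ∧ π a ∉ center (Matrix.SpecialLinearGroup (Fin 2) F)) : False := by
  set C := centralizer ({x} : Set G) with hC
  set A := (C.subgroupOf P).map π with hA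
  obtain ⟨d, hdx, hd⟩ := hne
  have hdA : π d ∈ A := mem_map_of_mem _ (mem_subgroupOf.2 (mem_cent.2 hdx))
  have habA : ∀ a ∈ A, ∀ b ∈ A, a * b = b * a := by
    rintro _ ⟨a, ha, rfl⟩ _ ⟨b, hb, rfl⟩
    exact hab a b (mem_cent.1 ha) (mem_cent.1 hb)
  have hlift : ∀ a : P, π a ∈ A → (a : G) * x = x * a := by
    intro a ha
    obtain ⟨b, hb, hbe⟩ := mem_map.1 ha
    have hz := hRc (b⁻¹ * a) (by rw [map_mul, map_inv, hbe, inv_mul_cancel])
    have hb' : (b : G) ∈ C := hb
    have : (a : G) = (b : G) * ((b⁻¹ * a : P) : G) := by simp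
    rw [this, mul_assoc, ← mem_center_iff.1 hz x, ← mul_assoc, mem_cent.1 hb', mul_assoc]
  set N := normalizer ((C ⊓ P : Subgroup G) : Set G) with hNdef
  have hCN : C ≤ N := fun c hc => mem_normalizer_fintype fun a ha =>
    ⟨C.mul_mem (C.mul_mem hc ha.1) (C.inv_mem hc), (inferInstance : P.Normal).conj_mem a ha.2 c⟩
  have hNtop : N ≠ ⊤ := by
    intro htop
    have : A.Normal := ⟨by
      rintro _ ⟨a, ha, rfl⟩ s
      obtain ⟨q, rfl⟩ := hπ s
      refine ⟨q * a * q⁻¹, ?_, by simp⟩
      exact ((mem_normalizer_iff.1 (show (q : G) ∈ N from htop ▸ mem_top _) (a : G)).1 ⟨ha, a.2⟩).1⟩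
    exact hd (le_center_of_abelian_normal h4 habA hdA)
  refine no_self_normalizing h4 habA hdA hd fun n hn => ?_
  obtain ⟨q, rfl⟩ := hπ n
  refine mem_map_of_mem _ (mem_subgroupOf.2 ?_)
  rw [hC, ← hS.eq_centralizer hx hCN hNtop]
  refine mem_normalizer_fintype fun a ha => ?_
  have h1 : π (q * ⟨a, ha.2⟩ * q⁻¹) ∈ A := by
    rw [map_mul, map_mul, map_inv]
    exact (mem_normalizer_iff.1 hn _).1 (mem_map_of_mem _ (mem_subgroupOf.2 ha.1))
  exact ⟨mem_cent.2 (hlift _ h1), (q * ⟨a, ha.2⟩ * q⁻¹ : P).2⟩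

/-- The automorphism induced on the image. -/
theorem exists_induced {H K : Type*} [Group H] [Group K] [Finite K] (π : H →* K) (hπ : Function.Surjective π)
    (e : MulAut H) (he : ∀ ρ, π ρ = 1 → e ρ = ρ) :
    ∃ ψ : MulAut K, ∀ (n : ℕ) (p : H), (ψ ^ n) (π p) = π ((e ^ n) p) := by
  let ψ₀ : K →* K := π.liftOfSurjective hπ ⟨π.comp e.toMonoidHom, fun ρ hρ => by
    show π (e ρ) = 1
    rw [he ρ hρ]; exact hρ⟩
  have hψ : ∀ p, ψ₀ (π p) = π (e p) := fun p => MonoidHom.liftOfRightInverse_comp_apply π _ _ _ p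
  have hsurj : Function.Surjective ψ₀ := fun k => by
    obtain ⟨p, rfl⟩ := hπ k
    exact ⟨π (e.symm p), by rw [hψ, MulEquiv.apply_symm_apply]⟩
  refine ⟨MulEquiv.ofBijective ψ₀ (Finite.surjective_iff_bijective.1 hsurj), fun n => ?_⟩
  induction n with
  | zero => intro p; rfl
  | succ n ih =>
    intro p
    rw [pow_succ, pow_succ, MulAut.mul_apply, MulAut.mul_apply, MulEquiv.ofBijective_apply, hψ, ih]

/-- A minimal non-CA group is perfect. -/
theorem perfect_fact (hM : ModelFact.{u}) (hA : SLTwoAutFact) : PerfectFact.{u} := by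
  intro G _ _ hS
  classical
  by_contra hne
  obtain ⟨P, hPn, hP, hPnt, hPle, hsol⟩ := exists_residual hS.nonsolvable
  have hPtop : P ≠ ⊤ := fun e => hne (top_le_iff.1 (e ▸ hPle))
  obtain ⟨F, _, _, h4, π, hπ, hker, hR⟩ := hM P (hS.proper P hPtop) hP
  have hcen : ∀ y : G, (∀ p ∈ P, p * y = y * p) → y ∈ center G := fun y hy =>
    mem_center_of_centralizes hS hP hsol hy
  have hRc : ∀ ρ : P, π ρ = 1 → (ρ : G) ∈ center G := fun ρ hρ =>
    hcen _ fun p hp => congrArg Subtype.val (mem_center_iff.1 (hker hρ) ⟨p, hp⟩)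
  obtain ⟨x, hx, r, hr, hxr⟩ := hS.exists_bad_pow
  set e : MulAut P := MulAut.conjNormal x with he
  have he_iff : ∀ p : P, e p = p ↔ (p : G) * x = x * p := fun p => by
    rw [Subtype.ext_iff, he, MulAut.conjNormal_apply, mul_inv_eq_iff_eq_mul]
    exact eq_comm
  obtain ⟨ψ, hψ⟩ := exists_induced π hπ e fun ρ hρ => (he_iff ρ).2 (mem_center_iff.1 (hRc ρ hρ) x).symm
  have hψ1 : ∀ p, ψ (π p) = π (e p) := fun p => by simpa using hψ 1 p
  have her : e ^ r = 1 := MulEquiv.ext fun p => Subtype.ext (by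
    rw [he, ← map_pow, MulAut.conjNormal_apply, ← mem_center_iff.1 hxr, mul_inv_cancel_right]
    rfl)
  have hψr : ψ ^ r = 1 := MulEquiv.ext fun s => by
    obtain ⟨p, rfl⟩ := hπ s
    rw [hψ, her]
    rfl
  have hψne : ψ ≠ 1 := fun h => hx.1 (hcen x (comm_of_fix_mod hP π hker fun p => by
    rw [← he, ← hψ1, h]; rfl))
  -- inner automorphisms
  by_cases hinn : ∃ u, ∀ s, ψ s = u * s * u⁻¹
  · obtain ⟨u, hu⟩ := hinn
    have hun : u ∉ center (Matrix.SpecialLinearGroup (Fin 2) F) := fun hc => hψne (MulEquiv.ext fun s => by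
      rw [hu, ← mem_center_iff.1 hc s, mul_inv_cancel_right]; rfl)
    obtain ⟨v, rfl⟩ := hπ u
    have hy : (v : G)⁻¹ * x ∈ center G := hcen _ (comm_of_fix_mod hP π hker fun p => by
      have h1 : MulAut.conjNormal ((v : G)⁻¹ * x) p = v⁻¹ * e p * v := Subtype.ext (by
        simp [he, mul_assoc])
      rw [h1, map_mul, map_mul, map_inv, ← hψ1, hu]
      group)
    have hcomm : ∀ a : P, (a : G) * x = x * a ↔ (a : G) * v = v * a := fun a => by
      have hxv : x = (v : G) * ((v : G)⁻¹ * x) := by rw [mul_inv_cancel_left]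
      generalize (v : G)⁻¹ * x = y at hy hxv
      subst hxv
      rw [mul_assoc (v : G) y (a : G), ← mem_center_iff.1 hy (a : G), ← mul_assoc, ← mul_assoc]
      exact ⟨mul_right_cancel, fun h => by rw [h]⟩
    have hpi : ∀ a : P, (a : G) * x = x * a → π a * π v = π v * π a := fun a ha => by
      rw [← map_mul, ← map_mul, show a * v = v * a from Subtype.ext ((hcomm a).1 ha)]
    exact no_abelian_fix hS hx h4 hπ hRc (fun a b ha hb => sl_comm hun (hpi a ha) (hpi b hb))
      ⟨v, (hcomm v).2 rfl, hun⟩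
  have hr2 : ¬ Function.Injective π → r = 2 ∧ Nat.card π.ker = 3 ∧ Fintype.card F = 9 := fun hi => by
    obtain ⟨h9, hc⟩ := hR.resolve_left hi
    refine ⟨hr.eq_two_or_odd'.resolve_right fun ho => hinn ?_, hc, h9⟩
    exact Outer.inner_of_odd F h9 ψ ho hψr
  -- fixed elements lift
  have hfix : ∀ p, ψ (π p) = π p → e p = p := by
    intro p hp
    by_cases hi : Function.Injective π
    · exact hi (by rw [← hψ1, hp])
    obtain ⟨h2, hc, -⟩ := hr2 hi
    set ρ := p⁻¹ * e p with hρ
    have hρ1 : π ρ = 1 := by rw [hρ, map_mul, map_inv, ← hψ1, hp, inv_mul_cancel]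
    have hep : e p = p * ρ := by rw [hρ, mul_inv_cancel_left]
    have heρ : e ρ = ρ := (he_iff ρ).2 (mem_center_iff.1 (hRc ρ hρ1) x).symm
    have h := DFunLike.congr_fun her p
    rw [h2, pow_two, MulAut.mul_apply, MulAut.one_apply, hep, map_mul, heρ, hep, mul_assoc] at h
    have hρ2 : ρ ^ 2 = 1 := by rw [pow_two]; exact mul_eq_left.1 h
    have hρ3 : ρ ^ 3 = 1 := by
      have := pow_card_eq_one' (x := (⟨ρ, hρ1⟩ : π.ker))
      rw [hc] at this
      exact congrArg Subtype.val this
    have : ρ = 1 := by rwa [pow_succ, hρ2, one_mul] at hρ3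
    rw [hep, this, mul_one]
  rcases hA F h4 ψ r hr hψr with h | ⟨hab, a, ha, hac⟩ | ⟨K, hKs, hKψ, t, htK, htψ, ⟨k, hkK, hkt⟩, a, haK, hat, hmov⟩
  · exact hψne h
  · obtain ⟨d, rfl⟩ := hπ a
    refine no_abelian_fix hS hx h4 hπ hRc (fun p q hp hq => hab _ _ ?_ ?_) ⟨d, (he_iff d).1 (hfix d ha), hac⟩
    · rw [hψ1, (he_iff p).2 hp]
    · rw [hψ1, (he_iff q).2 hq]
  · obtain ⟨t₀, rfl⟩ := hπ t
    obtain ⟨k₀, rfl⟩ := hπ k
    obtain ⟨a₀, rfl⟩ := hπ a
    set K₀ := (K.comap π).map P.subtype with hK₀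
    have hmem : ∀ p : P, π p ∈ K → (p : G) ∈ K₀ := fun p hp => mem_map.2 ⟨p, hp, rfl⟩
    have hKsol : Group.IsSolvable K₀ := by
      haveI := hKs
      haveI : Group.IsSolvable (π.subgroupComap K).ker := Group.isSolvable_of_comm fun p q => by
        refine Subtype.ext (Subtype.ext ?_)
        exact (mem_center_iff.1 (hker (congrArg Subtype.val (MonoidHom.mem_ker.1 p.2))) _).symm
      haveI : Group.IsSolvable ↥(K.comap π) :=
        Group.isSolvable_of_ker_le_range (Subgroup.subtype _) (π.subgroupComap K) (by rw [range_subtype])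
      exact Group.isSolvable_of_surjective (f := P.subtype.subgroupMap (K.comap π))
        (P.subtype.subgroupMap_surjective _)
    have hxN : zpowers x ≤ normalizer (K₀ : Set G) := by
      rw [zpowers_le]
      refine mem_normalizer_fintype fun g hg => ?_
      obtain ⟨p, hp, rfl⟩ := mem_map.1 hg
      exact mem_map.2 ⟨e p, show π (e p) ∈ K from hψ1 p ▸ hKψ _ hp, by simp [he]⟩
    haveI : Group.IsSolvable (zpowers x) := Group.isSolvable_of_comm fun a b => mul_comm' a b
    have hL : Group.IsSolvable ↥(K₀ ⊔ zpowers x) :=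
      Cfsg.Agent.Components.Signalizer.isSolvable_sup hxN hKsol inferInstance
    have key : ∀ c : P, π c ∈ K → c * t₀ = t₀ * c → ψ (π c) = π c := fun c hc hct => by
      have hxt := (he_iff t₀).1 (hfix t₀ htψ)
      have h := hS.comm_of_noncentral (hS.ne_top_of_isSolvable hL) (mem_sup_left (hmem t₀ htK))
        (mem_sup_left (hmem k₀ hkK)) (fun e' => hkt (by rw [← map_mul, ← map_mul,
          show k₀ * t₀ = t₀ * k₀ from Subtype.ext e'.symm]))
        (mem_sup_left (hmem c hc)) (congrArg Subtype.val hct) (mem_sup_right (mem_zpowers x)) hxt.symm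
      rw [hψ1, (he_iff c).2 h]
    by_cases hi : Function.Injective π
    · refine hmov 1 (one_mem _) ?_
      rw [mul_one]
      exact key a₀ haK (hi (by rw [map_mul, map_mul, hat]))
    obtain ⟨h2, -, h9⟩ := hr2 hi
    -- the commutator of the lift with the moving element
    set ρ := t₀⁻¹ * a₀ * t₀ * a₀⁻¹ with hρ
    have hρ1 : π ρ = 1 := by
      rw [hρ, map_mul, map_mul, map_mul, map_inv, map_inv, mul_assoc _ (π a₀), hat]
      group
    have hρc := hker (MonoidHom.mem_ker.2 hρ1)
    have h3 : a₀ * t₀ = t₀ * a₀ * ρ := by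
      rw [mul_assoc, mem_center_iff.1 hρc a₀, hρ]; group
    have h4' : e a₀ * t₀ = t₀ * e a₀ * ρ := by
      have := congrArg e h3
      rwa [map_mul, map_mul, map_mul, hfix t₀ htψ,
        (he_iff ρ).2 (mem_center_iff.1 (hRc ρ hρ1) x).symm] at this
    have hb : a₀⁻¹ * e a₀ * t₀ = t₀ * (a₀⁻¹ * e a₀) := by
      rw [mul_assoc, h4', inv_mul_eq_iff_eq_mul, ← mul_assoc a₀, h3]
      rw [mul_assoc (t₀ * a₀) ρ, mem_center_iff.1 hρc, ← mem_center_iff.1 hρc]
      simp only [mul_assoc, mul_right_inj]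
      rw [← mem_center_iff.1 hρc (a₀⁻¹ * e a₀)]
      group
    have hbK : π (a₀⁻¹ * e a₀) ∈ K := by
      rw [map_mul, map_inv, ← hψ1]; exact mul_mem (inv_mem haK) (hKψ _ haK)
    have hfixb := key _ hbK hb
    set w := π (a₀⁻¹ * e a₀) with hw
    have hψa : ψ (π a₀) = π a₀ * w := by rw [hw, map_mul, map_inv, ← hψ1, mul_inv_cancel_left]
    have hw2 : w * w = 1 := by
      have h := DFunLike.congr_fun hψr (π a₀)
      rw [h2, pow_two, MulAut.mul_apply, MulAut.one_apply, hψa, map_mul, hψa, hfixb, mul_assoc] at h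
      exact mul_eq_left.1 h
    have h20 : (2 : F) ≠ 0 := by
      intro h
      have h3 := Nat.cast_card_eq_zero F
      rw [h9] at h3
      refine one_ne_zero (α := F) ?_
      linear_combination h3 - 4 * h
    exact hmov w (mem_center_of_sq h20 hw2) hψa

end Cfsg.Agent.MinNonCA.NotPerfect
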