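import Cfsg.Agent.Lib.MinNonCA.PerfectQuot
import Cfsg.Agent.Lib.GW.BenderComponentCentre
import Cfsg.Agent.Lib.Forms.KleinSL2
import Cfsg.Agent.Lib.Classical.Linear
import Cfsg.Agent.Lib.WordMaps.Classical
import Cfsg.Agent.S0252
import Cfsg.Agent.S0253
import Cfsg.Agent.S2086
import Cfsg.Agent.S2117
import Cfsg.Agent.S2118

/-!
# Perfect CA groups are `SL(2,F)` or a triple cover of `SL(2,9)`

The centre is a quotient of the multiplier; for odd `q > 5` it contains an involution, as the centraliser of an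
involution of `PSL(2,q)` is not abelian.
-/

set_option autoImplicit false
set_option linter.style.haveILetI false
set_option linter.unusedSectionVars false

namespace Cfsg.Agent.MinNonCA.Cover

open Subgroup Matrix
open scoped MatrixGroups commutatorElement
open Cfsg.Agent.Forms.KleinSL2 (cM aM jSL jSL_sq cM_mul_J aM_mul_J det_cM det_aM exists_circ)
open Cfsg.Agent.GW.ComponentCentre (card_ker_dvd central_kernel)

universe u

variable {P : Type u} [Group P] [Finite P] {F : Type} [Field F] [Fintype F]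

local notation "PSL2" => Matrix.ProjectiveSpecialLinearGroup (Fin 2) F

/-- the projection of `SL(2,F)` -/
def mkP : SL(2, F) →* PSL2 := QuotientGroup.mk' (center SL(2, F))

theorem mkP_eq_one {s : SL(2, F)} : mkP s = 1 ↔ s ∈ center SL(2, F) := QuotientGroup.eq_one_iff s

theorem mkP_surjective : Function.Surjective (mkP : SL(2, F) →* PSL2) := QuotientGroup.mk'_surjective _

theorem center_sl (hodd : Odd (Fintype.card F)) {s : SL(2, F)} (hs : s ∈ center SL(2, F)) :
    s = 1 ∨ s = -1 := by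
  have h2 : (2 : F) ≠ 0 := fun h => by
    haveI : CharP F 2 := CharTwo.of_one_ne_zero_of_two_eq_zero one_ne_zero h
    exact (Nat.not_even_iff_odd.2 hodd)
      (even_iff_two_dvd.2 ((CharP.cast_eq_zero_iff F 2 _).1 (Nat.cast_card_eq_zero F)))
  obtain ⟨r, hr, hrs⟩ := Matrix.SpecialLinearGroup.mem_center_iff.1 hs
  rw [Fintype.card_fin, pow_two] at hr
  rcases mul_self_eq_one_iff.1 hr with rfl | rfl
  · left; apply Subtype.ext; rw [← hrs, Matrix.SpecialLinearGroup.coe_one]; simp
  · right; apply Subtype.ext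
    rw [← hrs, Matrix.SpecialLinearGroup.coe_neg, Matrix.SpecialLinearGroup.coe_one]
    ext i j; fin_cases i <;> fin_cases j <;> simp

/-- In a CA group over `PSL(2,q)`, `q > 5` odd, the centre has even order. -/
theorem not_odd_center (h : CA P) (π : P →* PSL2) (hπ : Function.Surjective π) (hk : π.ker = center P)
    (hodd : Odd (Fintype.card F)) (h7 : 5 < Fintype.card F) : ¬ Odd (Nat.card (center P)) := by
  classical
  intro hZ
  have h2 : (2 : F) ≠ 0 := fun e => by
    haveI : CharP F 2 := CharTwo.of_one_ne_zero_of_two_eq_zero one_ne_zero e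
    exact (Nat.not_even_iff_odd.2 hodd)
      (even_iff_two_dvd.2 ((CharP.cast_eq_zero_iff F 2 _).1 (Nat.cast_card_eq_zero F)))
  obtain ⟨s, hs0, hs1, hs2⟩ : ∃ s : F, s ≠ 0 ∧ 1 - s * s ≠ 0 ∧ 1 + s * s ≠ 0 := by
    by_contra hc
    push Not at hc
    set f : Polynomial F := Polynomial.X * ((1 - Polynomial.X * Polynomial.X) * (1 + Polynomial.X * Polynomial.X)) with hf
    have hdeg : f.natDegree ≤ 5 := by rw [hf]; compute_degree
    have hf0 : f ≠ 0 := fun e => by
      have := congrArg (fun g => g.coeff 1) e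
      simp [hf, mul_add, sub_mul, mul_sub] at this
    have hroots : ∀ s : F, f.eval s = 0 := fun s => by
      simp only [hf, Polynomial.eval_mul, Polynomial.eval_sub, Polynomial.eval_add, Polynomial.eval_one,
        Polynomial.eval_X, mul_eq_zero]
      rcases eq_or_ne s 0 with hs | hs
      · exact Or.inl hs
      · rcases eq_or_ne (1 - s * s) 0 with h1 | h1
        · exact Or.inr (Or.inl h1)
        · exact Or.inr (Or.inr (hc s hs h1))
    refine hf0 (Polynomial.eq_zero_of_natDegree_lt_card_of_eval_eq_zero' f Finset.univ (fun i _ => hroots i) ?_)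
    rw [Finset.card_univ]; omega
  -- a point of the unit circle off the axes
  set a : F := (1 - s * s) / (1 + s * s) with ha
  set b : F := 2 * s / (1 + s * s) with hb
  have hab : a * a + b * b = 1 := by
    rw [ha, hb, div_mul_div_comm, div_mul_div_comm, ← add_div, div_eq_one_iff_eq (mul_ne_zero hs2 hs2)]
    ring
  have ha0 : a ≠ 0 := div_ne_zero hs1 hs2
  have hb0 : b ≠ 0 := div_ne_zero (mul_ne_zero h2 hs0) hs2
  clear_value a b
  obtain ⟨c, d, hcd⟩ := exists_circ h2 (-1)
  set A : SL(2, F) := ⟨cM a b, by rw [det_cM]; exact hab⟩ with hA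
  set B : SL(2, F) := ⟨aM c d, by rw [det_aM, hcd, neg_neg]⟩ with hB
  have hAJ : mkP A * mkP jSL = mkP jSL * mkP A := by
    rw [← map_mul, ← map_mul]; congr 1; exact Subtype.ext (cM_mul_J a b)
  have hneg : (-1 : SL(2, F)) ∈ center SL(2, F) := Subgroup.mem_center_iff.2 fun g => by simp
  have hBJ : mkP B * mkP jSL = mkP jSL * mkP B := by
    have e : B * jSL = -1 * (jSL * B) := by
      rw [neg_one_mul]
      exact Subtype.ext (by rw [Matrix.SpecialLinearGroup.coe_neg]; exact aM_mul_J c d)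
    rw [← map_mul, e, map_mul, mkP_eq_one.2 hneg, one_mul, map_mul]
  have hAB : mkP A * mkP B ≠ mkP B * mkP A := by
    intro e
    rw [← map_mul, ← map_mul] at e
    have e' : (A * B)⁻¹ * (B * A) ∈ center SL(2, F) :=
      mkP_eq_one.1 (by rw [map_mul, map_inv, e, inv_mul_cancel])
    have key : aM c d * cM a b = cM a b * aM c d ∨ aM c d * cM a b = -(cM a b * aM c d) := by
      rcases center_sl hodd e' with h1 | h1
      · left
        have h3 : B * A = A * B := by rw [← mul_inv_cancel_left (A * B) (B * A), h1, mul_one]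
        exact congrArg Subtype.val h3
      · right
        have h3 : B * A = -(A * B) := by
          rw [← mul_inv_cancel_left (A * B) (B * A), h1, mul_neg, mul_one]
        have h4 := congrArg Subtype.val h3
        rw [Matrix.SpecialLinearGroup.coe_neg] at h4
        exact h4
    have hd0 : c ≠ 0 ∨ d ≠ 0 := by
      by_contra hh
      push Not at hh
      rw [hh.1, hh.2] at hcd
      simp at hcd
    rcases key with k | k <;>
      (have k1 := congrFun (congrFun k 0) 0
       have k2 := congrFun (congrFun k 0) 1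
       simp [cM, aM, Matrix.mul_apply, Fin.sum_univ_two] at k1 k2)
    · rcases hd0 with h0 | h0
      · exact mul_ne_zero (mul_ne_zero h2 hb0) h0 (by linear_combination -k2)
      · exact mul_ne_zero (mul_ne_zero h2 hb0) h0 (by linear_combination k1)
    · rcases hd0 with h0 | h0
      · exact mul_ne_zero (mul_ne_zero h2 ha0) h0 (by linear_combination k1)
      · exact mul_ne_zero (mul_ne_zero h2 ha0) h0 (by linear_combination k2)
  -- lift the involution
  have hj1 : mkP (jSL : SL(2, F)) * mkP jSL = 1 := by rw [← map_mul, jSL_sq]; exact mkP_eq_one.2 hneg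
  have hj : mkP (jSL : SL(2, F)) ≠ 1 := fun e => by
    rcases center_sl hodd (mkP_eq_one.1 e) with e' | e' <;>
      · have := congrArg (fun g : SL(2, F) => (g : Matrix (Fin 2) (Fin 2) F) 1 0) e'
        simp [jSL, cM] at this
  obtain ⟨x₀, hx₀⟩ := hπ (mkP jSL)
  have hz₀ : x₀ * x₀ ∈ center P := by rw [← hk, MonoidHom.mem_ker, map_mul, hx₀, hj1]
  obtain ⟨w, hwc, hw⟩ : ∃ w ∈ center P, w * w = (x₀ * x₀)⁻¹ := by
    obtain ⟨k, hk'⟩ := hZ
    refine ⟨((x₀ * x₀)⁻¹) ^ (k + 1), pow_mem (inv_mem hz₀) _, ?_⟩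
    rw [← pow_add, show k + 1 + (k + 1) = (2 * k + 1) + 1 by omega, pow_succ, ← hk',
      show ((x₀ * x₀)⁻¹) ^ Nat.card (center P) = 1 from
        congrArg Subtype.val (pow_card_eq_one' (x := (⟨(x₀ * x₀)⁻¹, inv_mem hz₀⟩ : center P))),
      one_mul]
  set x := x₀ * w with hx
  have hxx : x * x = 1 := by
    rw [hx, mul_assoc x₀ w, ← mul_assoc w x₀ w, ← mem_center_iff.1 hwc x₀, mul_assoc x₀ w w, ← mul_assoc,
      hw, mul_inv_cancel]
  have hπx : π x = mkP jSL := by
    rw [hx, map_mul, hx₀, show π w = 1 from MonoidHom.mem_ker.1 (hk ▸ hwc), mul_one]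
  have hxc : x ∉ center P := fun e => hj (by rw [← hπx]; exact MonoidHom.mem_ker.1 (hk ▸ e))
  have hlift : ∀ S : SL(2, F), mkP S * mkP jSL = mkP jSL * mkP S →
      ∃ g : P, π g = mkP S ∧ g * x = x * g := by
    intro S hS
    obtain ⟨g, hg⟩ := hπ (mkP S)
    refine ⟨g, hg, ?_⟩
    set z := g * x * g⁻¹ * x⁻¹ with hz
    have hzc : z ∈ center P := by
      rw [← hk, MonoidHom.mem_ker, hz, map_mul, map_mul, map_mul, map_inv, map_inv, hg, hπx, hS,
        mul_inv_cancel_right, mul_inv_cancel]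
    have hgx : g * x * g⁻¹ = z * x := by rw [hz, inv_mul_cancel_right]
    have hz2 : z * z = 1 := by
      have e : (g * x * g⁻¹) * (g * x * g⁻¹) = 1 := by rw [conj_mul, hxx, mul_one, mul_inv_cancel]
      rw [hgx, mul_assoc z x (z * x), ← mul_assoc x z x, mem_center_iff.1 hzc x, mul_assoc z x x, hxx,
        mul_one] at e
      exact e
    have hz1 : z = 1 := by
      obtain ⟨k, hk'⟩ := hZ
      have e : z ^ Nat.card (center P) = 1 :=
        congrArg Subtype.val (pow_card_eq_one' (x := (⟨z, hzc⟩ : center P)))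
      rw [hk', pow_succ, pow_mul, pow_two, hz2, one_pow, one_mul] at e
      exact e
    rw [hz1, one_mul] at hgx
    rw [← mul_inv_eq_iff_eq_mul.1 hgx]
  obtain ⟨gA, hgA, hgAx⟩ := hlift A hAJ
  obtain ⟨gB, hgB, hgBx⟩ := hlift B hBJ
  apply hAB
  rw [← hgA, ← hgB, ← map_mul, ← map_mul,
    isMulCommutative_iff'.1 (h x hxc) gA (mem_cent.2 hgAx) gB (mem_cent.2 hgBx)]

/-- A perfect group with an odd or trivial kernel: `P ≅ PSL(2,F) ≅ SL(2,F)` for even `q`. -/
theorem model_even (π : P →* PSL2) (hπ : Function.Surjective π) (hker : π.ker = ⊥)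
    (h4 : 4 ≤ Fintype.card F) (hev : Even (Fintype.card F)) : Model P := by
  have hc : center SL(2, F) = ⊥ := by
    rw [← Subgroup.card_eq_one, Cfsg.Agent.Classical.Linear.natCard_center_SL, Fintype.card_fin]
    refine (Nat.prime_two.coprime_iff_not_dvd).2 fun h => ?_
    obtain ⟨k, hk⟩ := hev
    omega
  have hinj : Function.Injective (mkP : SL(2, F) →* PSL2) := by
    rw [← MonoidHom.ker_eq_bot_iff, mkP, QuotientGroup.ker_mk', hc]
  set e := MulEquiv.ofBijective mkP ⟨hinj, mkP_surjective⟩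
  have hinj' : Function.Injective (e.symm.toMonoidHom.comp π) :=
    e.symm.injective.comp ((MonoidHom.ker_eq_bot_iff π).1 hker)
  refine ⟨F, inferInstance, inferInstance, h4, e.symm.toMonoidHom.comp π, e.symm.surjective.comp hπ, ?_,
    Or.inl hinj'⟩
  rw [(MonoidHom.ker_eq_bot_iff _).2 hinj']
  exact bot_le

/-- The case of an even centre, `q` odd. -/
theorem model_odd (hperf : commutator P = ⊤) (π : P →* PSL2) (hπ : Function.Surjective π)
    (hk : π.ker = center P) (h5 : 5 ≤ Fintype.card F) (hodd : Odd (Fintype.card F))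
    (hev : ¬ Odd (Nat.card (center P))) : Model P := by
  classical
  obtain ⟨n, hnodd, hn9, hmult⟩ : ∃ n, Odd n ∧ (n = 1 ∨ Fintype.card F = 9 ∧ n = 3) ∧
      Cfsg.HasCyclicSchurMultiplier SL(2, F) n := by
    by_cases h9 : Fintype.card F = 9
    · exact ⟨3, by decide, Or.inr ⟨h9, rfl⟩, Cfsg.Agent.S2118.result h9⟩
    · exact ⟨1, odd_one, Or.inl rfl, Cfsg.Agent.S2117.result (by omega) h9⟩
  let E : Subgroup (P × SL(2, F)) :=
    MonoidHom.eqLocus (π.comp (MonoidHom.fst P SL(2, F))) (mkP.comp (MonoidHom.snd P SL(2, F)))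
  have hE : ∀ {w}, w ∈ E ↔ π w.1 = mkP w.2 := Iff.rfl
  set E' : Subgroup (P × SL(2, F)) := ⁅E, E⁆ with hE'
  have hE'E : E' ≤ E := commutator_le.2 fun a ha b hb =>
    by rw [commutatorElement_def]; exact mul_mem (mul_mem (mul_mem ha hb) (inv_mem ha)) (inv_mem hb)
  have hfst : E.map (MonoidHom.fst P SL(2, F)) = ⊤ := eq_top_iff.2 fun p _ => by
    obtain ⟨s, hs⟩ := mkP_surjective (π p)
    exact ⟨(p, s), hE.2 hs.symm, rfl⟩
  have hsnd : E.map (MonoidHom.snd P SL(2, F)) = ⊤ := eq_top_iff.2 fun s _ => by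
    obtain ⟨p, hp⟩ := hπ (mkP s)
    exact ⟨(p, s), hE.2 hp, rfl⟩
  have hfst' : E'.map (MonoidHom.fst P SL(2, F)) = ⊤ := by
    rw [hE', map_commutator, hfst, ← _root_.commutator_def, hperf]
  have hslperf := Cfsg.Agent.WordMaps.Classical.SL2_perfect F (by omega)
  have hsnd' : E'.map (MonoidHom.snd P SL(2, F)) = ⊤ := by
    rw [hE', map_commutator, hsnd, ← _root_.commutator_def, hslperf]
  -- `E` is `E'` times a central subgroup
  have hdec : ∀ w ∈ E, ∃ e ∈ E', e⁻¹ * w ∈ center (P × SL(2, F)) := by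
    intro w hw
    obtain ⟨e, he, hes⟩ := hsnd'.ge (mem_top w.2)
    refine ⟨e, he, ?_⟩
    have h2 : (e⁻¹ * w).2 = 1 := by
      rw [Prod.snd_mul, Prod.snd_inv, show e.2 = w.2 from hes, inv_mul_cancel]
    have h1 : (e⁻¹ * w).1 ∈ center P := by
      rw [← hk, MonoidHom.mem_ker, hE.1 (mul_mem (inv_mem (hE'E he)) hw), h2, map_one]
    refine mem_center_iff.2 fun g => Prod.ext ?_ ?_
    · rw [Prod.fst_mul, Prod.fst_mul]
      exact mem_center_iff.1 h1 g.1
    · rw [Prod.snd_mul g, Prod.snd_mul _ g, h2, mul_one, one_mul]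
  have hperf' : E' ≤ ⁅E', E'⁆ := by
    refine commutator_le.2 fun a ha b hb => ?_
    obtain ⟨a', ha', hza⟩ := hdec a ha
    obtain ⟨b', hb', hzb⟩ := hdec b hb
    obtain ⟨za, rfl⟩ : ∃ za, a = a' * za := ⟨_, (mul_inv_cancel_left a' a).symm⟩
    obtain ⟨zb, rfl⟩ : ∃ zb, b = b' * zb := ⟨_, (mul_inv_cancel_left b' b).symm⟩
    rw [inv_mul_cancel_left] at hza hzb
    have ca := mem_center_iff.1 hza
    have cb := mem_center_iff.1 hzb
    have e : ⁅a' * za, b' * zb⁆ = ⁅a', b'⁆ := by
      rw [commutatorElement_def, commutatorElement_def]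
      calc a' * za * (b' * zb) * (a' * za)⁻¹ * (b' * zb)⁻¹
          = a' * (za * b') * (zb * za⁻¹) * a'⁻¹ * zb⁻¹ * b'⁻¹ := by group
        _ = a' * (b' * za) * (za⁻¹ * zb) * a'⁻¹ * zb⁻¹ * b'⁻¹ := by rw [ca b', cb za⁻¹]
        _ = a' * b' * (zb * a'⁻¹) * zb⁻¹ * b'⁻¹ := by group
        _ = a' * b' * (a'⁻¹ * zb) * zb⁻¹ * b'⁻¹ := by rw [cb a'⁻¹]
        _ = _ := by group
    rw [e]
    exact commutator_mem_commutator ha' hb'
  have hcE' : commutator E' = ⊤ := by
    apply Subgroup.map_injective E'.subtype_injective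
    rw [map_subtype_commutator, ← MonoidHom.range_eq_map, range_subtype]
    exact le_antisymm (commutator_le.2 fun a ha b hb =>
      by rw [commutatorElement_def]; exact mul_mem (mul_mem (mul_mem ha hb) (inv_mem ha)) (inv_mem hb)) hperf'
  set σ : E' →* SL(2, F) := (MonoidHom.snd P SL(2, F)).comp E'.subtype with hσ
  set f : E' →* P := (MonoidHom.fst P SL(2, F)).comp E'.subtype with hf
  have hσs : Function.Surjective σ := fun s => by
    obtain ⟨e, he, hes⟩ := hsnd'.ge (mem_top s)
    exact ⟨⟨e, he⟩, hes⟩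
  have hfs : Function.Surjective f := fun p => by
    obtain ⟨e, he, hes⟩ := hfst'.ge (mem_top p)
    exact ⟨⟨e, he⟩, hes⟩
  have hσc : σ.ker ≤ center E' := by
    intro e he
    have h2 : (e : P × SL(2, F)).2 = 1 := he
    have h1 : (e : P × SL(2, F)).1 ∈ center P := by
      rw [← hk, MonoidHom.mem_ker, hE.1 (hE'E e.2), h2, map_one]
    refine mem_center_iff.2 fun g => Subtype.ext (Prod.ext ?_ ?_)
    · exact mem_center_iff.1 h1 _
    · show (g : P × SL(2, F)).2 * (e : P × SL(2, F)).2 = (e : P × SL(2, F)).2 * (g : P × SL(2, F)).2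
      rw [h2, mul_one, one_mul]
  have hdvd : Nat.card σ.ker ∣ n := card_ker_dvd hmult σ ⟨hσs, hσc, hcE' ▸ le_top⟩
  -- the first projection is injective, as the centre is even
  have hfi : Function.Injective f := by
    rw [← MonoidHom.ker_eq_bot_iff, eq_bot_iff]
    intro e he
    have h1 : (e : P × SL(2, F)).1 = 1 := he
    have h2 : (e : P × SL(2, F)).2 ∈ center SL(2, F) :=
      mkP_eq_one.1 (by rw [← hE.1 (hE'E e.2), h1, map_one])
    rcases center_sl hodd h2 with h2 | h2
    · exact mem_bot.2 (Subtype.ext (Prod.ext h1 h2))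
    exfalso
    obtain ⟨z, hz⟩ := exists_prime_orderOf_dvd_card' (G := center P) 2
      (even_iff_two_dvd.1 (Nat.not_odd_iff_even.1 hev))
    have hzc : (z : P) ∈ center P := z.2
    obtain ⟨d, hd⟩ := hfs z
    have hd1 : (d : P × SL(2, F)).1 = z := hd
    have hd2 : (d : P × SL(2, F)).2 ∈ center SL(2, F) :=
      mkP_eq_one.1 (by rw [← hE.1 (hE'E d.2), hd1]; rw [← MonoidHom.mem_ker, hk]; exact hzc)
    obtain ⟨d', hd', hd'2⟩ : ∃ d' : E', f d' = z ∧ σ d' = 1 := by
      rcases center_sl hodd hd2 with hs | hs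
      · exact ⟨d, hd, hs⟩
      · refine ⟨d * e, by rw [map_mul, hd, show f e = 1 from he, mul_one], ?_⟩
        show (d : P × SL(2, F)).2 * (e : P × SL(2, F)).2 = 1
        rw [hs, h2, neg_mul_neg, one_mul]
    have ho : orderOf (z : P) ∣ Nat.card σ.ker := by
      refine dvd_trans ?_ (orderOf_dvd_natCard (G := σ.ker) ⟨d', hd'2⟩)
      rw [← hd']
      exact orderOf_map_dvd (f.comp σ.ker.subtype) ⟨d', hd'2⟩
    rw [orderOf_coe, hz] at ho
    exact (Nat.not_even_iff_odd.2 hnodd) (even_iff_two_dvd.2 (ho.trans hdvd))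
  set e := MulEquiv.ofBijective f ⟨hfi, hfs⟩
  have hker : (σ.comp e.symm.toMonoidHom).ker = σ.ker.comap e.symm.toMonoidHom := rfl
  refine ⟨F, inferInstance, inferInstance, by omega, σ.comp e.symm.toMonoidHom, hσs.comp e.symm.surjective,
    fun p hp => mem_center_iff.2 fun g => e.symm.injective ?_, ?_⟩
  · rw [map_mul, map_mul]
    exact mem_center_iff.1 (hσc (show e.symm p ∈ σ.ker from hp)) _
  have hcard : Nat.card (σ.comp e.symm.toMonoidHom).ker ∣ n := by
    refine dvd_trans (Dvd.intro 1 ?_) hdvd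
    rw [mul_one]
    exact Nat.card_congr (e.symm.toEquiv.subtypeEquiv fun p => Iff.rfl)
  rcases hn9 with rfl | ⟨h9, rfl⟩
  · exact Or.inl ((MonoidHom.ker_eq_bot_iff _).1 (card_eq_one.1 (Nat.dvd_one.1 hcard)))
  · rcases (Nat.dvd_prime Nat.prime_three).1 hcard with h1 | h1
    · exact Or.inl ((MonoidHom.ker_eq_bot_iff _).1 (card_eq_one.1 h1))
    · exact Or.inr ⟨h9, h1⟩

theorem model_of_odd_card (h : CA P) (hperf : commutator P = ⊤) (π : P →* PSL2)
    (hπ : Function.Surjective π) (hk : π.ker = center P) (h5 : 5 ≤ Fintype.card F)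
    (hodd : Odd (Fintype.card F)) : Model P := by
  by_cases hZ : Odd (Nat.card (center P))
  · rcases Nat.lt_or_ge 5 (Fintype.card F) with h7 | h7
    · exact absurd hZ (not_odd_center h π hπ hk hodd h7)
    have hq : Fintype.card F = 5 := by omega
    rcases central_kernel hodd (by omega) hperf π hπ hk.le (hk ▸ hZ) with hb | ⟨h9, -⟩
    swap; · omega
    haveI : Fact (Nat.Prime 2) := ⟨Nat.prime_two⟩
    letI : Fintype (GaloisField 2 2) := Fintype.ofFinite _
    have h4 : Fintype.card (GaloisField 2 2) = 4 := by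
      rw [← Nat.card_eq_fintype_card, GaloisField.card 2 2 two_ne_zero]; norm_num
    obtain ⟨e5⟩ := Cfsg.Agent.S0253.result (F := F) hq
    obtain ⟨e4⟩ := Cfsg.Agent.S0252.result (F := GaloisField 2 2) h4
    refine model_even ((e5.trans e4.symm).toMonoidHom.comp π)
      ((e5.trans e4.symm).surjective.comp hπ) ?_ h4.ge (h4 ▸ by decide)
    exact (MonoidHom.ker_mulEquiv_comp π (e5.trans e4.symm)).trans hb
  · exact model_odd hperf π hπ hk h5 hodd hZ

end Cfsg.Agent.MinNonCA.Cover

namespace Cfsg.Agent.MinNonCA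

open Subgroup

universe u

/-- The piece `Cover` of S4369. -/
theorem model_fact : ModelFact.{u} := by
  classical
  intro P _ _ _ h hperf
  obtain ⟨F, iF, iF', h4, ⟨e⟩⟩ := PerfectQuot.main h hperf
  set π := e.toMonoidHom.comp (QuotientGroup.mk' (center P)) with hπd
  have hπ : Function.Surjective π := e.surjective.comp (QuotientGroup.mk'_surjective _)
  have hk : π.ker = center P := (MonoidHom.ker_mulEquiv_comp _ e).trans (QuotientGroup.ker_mk' _)
  rcases Nat.even_or_odd (Fintype.card F) with hev | hodd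
  · rcases Nat.lt_or_ge 4 (Fintype.card F) with h8 | h8
    · have hg : Nat.gcd 2 (Fintype.card F - 1) = 1 := by
        refine (Nat.prime_two.coprime_iff_not_dvd).2 fun hd => ?_
        obtain ⟨k, hk'⟩ := hev
        omega
      have hd := GW.ComponentCentre.card_ker_dvd (Cfsg.Agent.S2086.result (F := F) rfl 2 le_rfl
        (fun _ => h4) (by
          simp only [Set.mem_insert_iff, Set.mem_singleton_iff, Prod.mk.injEq]
          obtain ⟨k, hk'⟩ := hev
          omega)) π ⟨hπ, hk.le, hperf ▸ le_top⟩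
      rw [hg, Nat.dvd_one, card_eq_one] at hd
      exact Cover.model_even π hπ hd h4 hev
    · have hq : Fintype.card F = 4 := by omega
      haveI : Fact (Nat.Prime 5) := ⟨by norm_num⟩
      obtain ⟨e4⟩ := Cfsg.Agent.S0252.result (F := F) hq
      obtain ⟨e5⟩ := Cfsg.Agent.S0253.result (F := ZMod 5) (ZMod.card 5)
      refine Cover.model_of_odd_card h hperf ((e4.trans e5.symm).toMonoidHom.comp π)
        ((e4.trans e5.symm).surjective.comp hπ) ?_ (by simp) (by simp; decide)
      exact (MonoidHom.ker_mulEquiv_comp π (e4.trans e5.symm)).trans hk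
  · refine Cover.model_of_odd_card h hperf π hπ hk ?_ hodd
    obtain ⟨k, hk'⟩ := hodd
    omega

end Cfsg.Agent.MinNonCA
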