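import Cfsg.Agent.Lib.MinNonCA.Defs
import Cfsg.Agent.Lib.FrobeniusSystem.Basic
import Cfsg.Agent.Lib.Components.Signalizer

/-!
# Minimal non-CA groups: generalities

The fundamental trick: a bad element `x` lying in a proper subgroup `H` together with two non-commuting
elements of its centraliser is central in `H`.  Hence bad elements have maximal centralisers and centralise
every solvable normal subgroup.
-/

set_option autoImplicit false
set_option linter.unusedSectionVars false
set_option linter.style.haveILetI false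
set_option linter.unusedVariables false

namespace Cfsg.Agent.MinNonCA

open Subgroup
open Cfsg.Agent.FrobeniusSystem (isSolvable_of_le isSolvable_sup_normal isSolvable_of_sylow_two_central
  isSolvable_normalizer_sylow_two)

universe u

variable {G : Type u} [Group G]

theorem mem_cent {x g : G} : g ∈ centralizer ({x} : Set G) ↔ g * x = x * g :=
  mem_centralizer_singleton_iff

theorem isMulCommutative_iff' {H : Subgroup G} :
    IsMulCommutative H ↔ ∀ a ∈ H, ∀ b ∈ H, a * b = b * a :=
  ⟨fun h a ha b hb => congrArg Subtype.val (h.is_comm.comm ⟨a, ha⟩ ⟨b, hb⟩),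
    fun h => ⟨⟨fun a b => Subtype.ext (h a a.2 b b.2)⟩⟩⟩

/-- A CA group has commuting centralisers, spelled on elements. -/
theorem CA.comm (h : CA G) {x y a b : G} (hxy : x * y ≠ y * x) (ha : a * x = x * a) (hb : b * x = x * b) :
    a * b = b * a :=
  isMulCommutative_iff'.1 (h x fun hx => hxy (mem_center_iff.1 hx y).symm) a (mem_cent.2 ha) b (mem_cent.2 hb)

theorem ca_of_comm (h : ∀ x y a b : G, x * y ≠ y * x → a * x = x * a → b * x = x * b → a * b = b * a) : CA G :=
  fun x hx => isMulCommutative_iff'.2 fun a ha b hb => by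
    rw [mem_center_iff, not_forall] at hx
    obtain ⟨y, hy⟩ := hx
    exact h x y a b (fun e => hy e.symm) (mem_cent.1 ha) (mem_cent.1 hb)

theorem CA.subgroup (h : CA G) (H : Subgroup G) : CA H :=
  ca_of_comm fun x y a b hxy ha hb => Subtype.ext
    (h.comm (fun e => hxy (Subtype.ext e)) (congrArg Subtype.val ha) (congrArg Subtype.val hb))

theorem CA.of_mulEquiv {G' : Type*} [Group G'] (h : CA G) (e : G ≃* G') : CA G' :=
  ca_of_comm fun x y a b hxy ha hb => by
    apply e.symm.injective
    simp only [map_mul]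
    refine h.comm (x := e.symm x) (y := e.symm y) (fun e' => hxy ?_) ?_ ?_
    · apply e.symm.injective; simpa only [map_mul] using e'
    · simp only [← map_mul, ha]
    · simp only [← map_mul, hb]

theorem Setup.of_mulEquiv {G' : Type*} [Group G'] (h : Setup G) (e : G ≃* G') : Setup G' := by
  refine ⟨fun hs => h.nonsolvable ?_, fun hc => h.not_ca (hc.of_mulEquiv e.symm), fun H hH => ?_⟩
  · haveI := hs
    exact Group.isSolvable_of_isSolvable_injective (f := e.toMonoidHom) e.injective
  · have h' : H.comap e.toMonoidHom ≠ ⊤ := fun e' => hH (eq_top_iff.2 fun g _ => by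
      have : e.symm g ∈ H.comap e.toMonoidHom := e' ▸ mem_top _
      simpa using this)
    exact (h.proper _ h').of_mulEquiv
      { toFun := fun x => ⟨e x, x.2⟩
        invFun := fun x => ⟨e.symm x, show e (e.symm x) ∈ H by rw [e.apply_symm_apply]; exact x.2⟩
        left_inv := fun x => Subtype.ext (e.symm_apply_apply x)
        right_inv := fun x => Subtype.ext (e.apply_symm_apply x)
        map_mul' := fun x y => Subtype.ext (map_mul e (x : G) (y : G)) }

/-- An element outside the centre with a non-abelian centraliser. -/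
def Bad (x : G) : Prop := x ∉ center G ∧ ¬ IsMulCommutative (centralizer ({x} : Set G))

namespace Setup

variable (hS : Setup G)
include hS

/-- The fundamental trick. -/
theorem comm_of_noncentral {H : Subgroup G} (hH : H ≠ ⊤) {x y a b : G} (hx : x ∈ H) (hy : y ∈ H)
    (hxy : x * y ≠ y * x) (ha : a ∈ H) (hax : a * x = x * a) (hb : b ∈ H) (hbx : b * x = x * b) :
    a * b = b * a :=
  congrArg Subtype.val ((hS.proper H hH).comm (x := ⟨x, hx⟩) (y := ⟨y, hy⟩) (a := ⟨a, ha⟩) (b := ⟨b, hb⟩)
    (fun e => hxy (congrArg Subtype.val e)) (Subtype.ext hax) (Subtype.ext hbx))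

theorem central_of_noncomm {H : Subgroup G} (hH : H ≠ ⊤) {x a b : G} (hx : x ∈ H) (ha : a ∈ H)
    (hax : a * x = x * a) (hb : b ∈ H) (hbx : b * x = x * b) (hab : a * b ≠ b * a) {y : G} (hy : y ∈ H) :
    y * x = x * y :=
  Classical.byContradiction fun h => hab (hS.comm_of_noncentral hH hx hy (Ne.symm h) ha hax hb hbx)

theorem ne_top_of_isSolvable {H : Subgroup G} (hH : Group.IsSolvable H) : H ≠ ⊤ := by
  rintro rfl
  haveI := hH
  exact hS.nonsolvable (Group.isSolvable_of_surjective (f := (Subgroup.topEquiv (G := G)).toMonoidHom)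
    (Subgroup.topEquiv (G := G)).surjective)

theorem exists_bad : ∃ x : G, Bad x := by
  by_contra h
  push Not at h
  exact hS.not_ca fun x hx => Classical.byContradiction fun hc => h x ⟨hx, hc⟩

theorem centralizer_ne_top {x : G} (hx : x ∉ center G) : centralizer ({x} : Set G) ≠ ⊤ := fun e =>
  hx (mem_center_iff.2 fun g => mem_cent.1 (e ▸ mem_top g))

/-- The centraliser of a bad element is maximal. -/
theorem isCoatom_of_bad {x : G} (hx : Bad x) : IsCoatom (centralizer ({x} : Set G)) := by
  refine ⟨hS.centralizer_ne_top hx.1, fun H hlt => Classical.byContradiction fun hH => ?_⟩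
  obtain ⟨a, ha, b, hb, hab⟩ : ∃ a ∈ centralizer ({x} : Set G), ∃ b ∈ centralizer ({x} : Set G),
      a * b ≠ b * a := by
    have h2 := hx.2
    rw [isMulCommutative_iff'] at h2
    push Not at h2
    exact h2
  refine hlt.not_ge fun y hy => mem_cent.2 ?_
  exact hS.central_of_noncomm hH (hlt.le (mem_cent.2 rfl)) (hlt.le ha) (mem_cent.1 ha) (hlt.le hb)
    (mem_cent.1 hb) hab hy

/-- A proper subgroup containing the centraliser of a bad element is that centraliser. -/
theorem eq_centralizer {x : G} (hx : Bad x) {H : Subgroup G} (hle : centralizer ({x} : Set G) ≤ H)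
    (hH : H ≠ ⊤) : H = centralizer ({x} : Set G) :=
  ((hS.isCoatom_of_bad hx).le_iff.1 hle).resolve_left hH

/-- A bad element may be chosen with a prime power in the centre. -/
theorem exists_bad_pow [Finite G] : ∃ x : G, Bad x ∧ ∃ r : ℕ, r.Prime ∧ x ^ r ∈ center G := by
  classical
  obtain ⟨x₀, hx₀⟩ := hS.exists_bad
  obtain ⟨x, hx, hmin⟩ := exists_minimal_order x₀ hx₀
  have h1 : orderOf x ≠ 1 := fun e => hx.1 (by rw [orderOf_eq_one_iff.1 e]; exact one_mem _)
  refine ⟨x, hx, _, Nat.minFac_prime h1, ?_⟩
  by_contra hc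
  have hr := Nat.minFac_prime h1
  have hlt : orderOf (x ^ (orderOf x).minFac) < orderOf x := by
    rw [orderOf_pow_of_dvd hr.ne_zero (Nat.minFac_dvd _)]
    exact Nat.div_lt_self (orderOf_pos x) hr.one_lt
  refine (hmin _ ⟨hc, fun hcomm => hx.2 ?_⟩).not_gt hlt
  rw [isMulCommutative_iff'] at hcomm ⊢
  intro a ha b hb
  exact hcomm a (mem_cent.2 ((show Commute a x from mem_cent.1 ha).pow_right _).eq) b
    (mem_cent.2 ((show Commute b x from mem_cent.1 hb).pow_right _).eq)
where
  exists_minimal_order (x₀ : G) (hx₀ : Bad x₀) : ∃ x, Bad x ∧ ∀ y, Bad y → orderOf x ≤ orderOf y := by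
    classical
    have h : ∃ n, ∃ x : G, Bad x ∧ orderOf x = n := ⟨_, x₀, hx₀, rfl⟩
    obtain ⟨x, hx, hn⟩ := Nat.find_spec h
    exact ⟨x, hx, fun y hy => hn ▸ Nat.find_min' h ⟨y, hy, rfl⟩⟩

end Setup

/-- A non-abelian finite group has a non-abelian solvable subgroup. -/
theorem exists_noncomm_solvable [Finite G] {K : Subgroup G} (hK : ¬ IsMulCommutative K) :
    ∃ H : Subgroup G, H ≤ K ∧ Group.IsSolvable H ∧ ∃ a ∈ H, ∃ b ∈ H, a * b ≠ b * a := by
  by_cases hs : Group.IsSolvable K
  · refine ⟨K, le_rfl, hs, ?_⟩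
    rw [isMulCommutative_iff'] at hK
    push Not at hK
    exact hK
  · haveI : Fact (Nat.Prime 2) := ⟨Nat.prime_two⟩
    obtain ⟨T⟩ : Nonempty (Sylow 2 K) := inferInstance
    set N := normalizer ((T : Subgroup K) : Set K) with hN
    refine ⟨N.map K.subtype, map_subtype_le _, ?_, ?_⟩
    · haveI := isSolvable_normalizer_sylow_two T
      exact Group.isSolvable_of_surjective (f := K.subtype.subgroupMap N) (K.subtype.subgroupMap_surjective N)
    · by_contra hcon
      push Not at hcon
      refine hs (isSolvable_of_sylow_two_central T fun g hg => mem_centralizer_iff.2 fun t ht => ?_)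
      exact Subtype.ext (hcon _ (mem_map_of_mem _ (le_normalizer ht)) _ (mem_map_of_mem _ hg))

/-- Every solvable normal subgroup centralises every bad element. -/
theorem Setup.le_centralizer_of_normal [Finite G] (hS : Setup G) {x : G} (hx : Bad x) {N : Subgroup G}
    [N.Normal] (hN : Group.IsSolvable N) : N ≤ centralizer ({x} : Set G) := by
  obtain ⟨H, hHC, hHs, a, ha, b, hb, hab⟩ := exists_noncomm_solvable hx.2
  -- `H` and `x` generate a solvable group
  have hnz : zpowers x ≤ normalizer (H : Set G) := by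
    rw [zpowers_le]
    refine mem_normalizer_iff.2 fun h => ⟨fun hh => ?_, fun hh => ?_⟩
    · rwa [← mem_cent.1 (hHC hh), mul_inv_cancel_right]
    · have h2 := mem_cent.1 (hHC hh)
      rw [inv_mul_cancel_right] at h2
      rw [← mul_left_cancel h2] at hh
      exact hh
  haveI hzs : Group.IsSolvable (zpowers x) := Group.isSolvable_of_comm fun a b => mul_comm' a b
  have hL : Group.IsSolvable ↥(H ⊔ zpowers x) :=
    Cfsg.Agent.Components.Signalizer.isSolvable_sup hnz hHs hzs
  have hK : Group.IsSolvable ↥((H ⊔ zpowers x) ⊔ N) := isSolvable_sup_normal hL hN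
  intro n hn
  refine mem_cent.2 (hS.central_of_noncomm (hS.ne_top_of_isSolvable hK)
    (mem_sup_left (mem_sup_right (mem_zpowers x))) (mem_sup_left (mem_sup_left ha)) (mem_cent.1 (hHC ha))
    (mem_sup_left (mem_sup_left hb)) (mem_cent.1 (hHC hb)) hab (mem_sup_right hn))

end Cfsg.Agent.MinNonCA
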