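import Mathlib
import Cfsg.Prelude.Def_Transfer
import Cfsg.Prelude.Def_Sz

/-!
# Minimal non-CA groups (S4369): definitions and the interfaces of the model pieces

See `notes/s4369-h9.md`.
-/

set_option autoImplicit false

namespace Cfsg.Agent.MinNonCA

universe u

/-- The centraliser of every non-central element is abelian. -/
def CA (G : Type*) [Group G] : Prop :=
  ∀ x : G, x ∉ Subgroup.center G → IsMulCommutative (Subgroup.centralizer ({x} : Set G))

/-- A non-solvable group which is not CA and has all proper subgroups CA. -/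
structure Setup (G : Type u) [Group G] : Prop where
  nonsolvable : ¬ Group.IsSolvable G
  not_ca : ¬ CA G
  proper : ∀ H : Subgroup G, H ≠ ⊤ → CA H

/-- The groups of S3214: the simple groups with 2-nilpotent involution centralisers. -/
def Listed (G : Type u) [Group G] : Prop :=
  (∃ (F : Type) (_ : Field F) (_ : Fintype F), 3 < Fintype.card F ∧
      Nonempty (G ≃* Matrix.ProjectiveSpecialLinearGroup (Fin 2) F)) ∨
    Cfsg.Lie.IsoSuzuki G ∨ Nonempty (G ≃* ↥(alternatingGroup (Fin 7))) ∨
    (∃ (F : Type) (_ : Field F) (_ : Fintype F), Fintype.card F = 4 ∧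
      Nonempty (G ≃* Matrix.ProjectiveSpecialLinearGroup (Fin 3) F))

/-- Piece `ListFacts`: if the centraliser of an element of prime order of a listed group is a non-abelian
maximal subgroup, then the element is an involution centralised by a Sylow 2-subgroup. -/
def MaxCentFact : Prop :=
  ∀ (G : Type u) [Group G] [Finite G], Listed G → ∀ x : G, (orderOf x).Prime →
    IsCoatom (Subgroup.centralizer ({x} : Set G)) →
    ¬ IsMulCommutative (Subgroup.centralizer ({x} : Set G)) →
    orderOf x = 2 ∧ ∃ T : Sylow 2 G, (T : Subgroup G) ≤ Subgroup.centralizer ({x} : Set G)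

/-- Piece `ListFacts`: a listed group with abelian Sylow 2-subgroups is `PSL(2,q)`, either with `q` even and
all centralisers of non-identity elements abelian, or with `q` odd and `q = 3, 5 mod 8`. -/
def AbelianSylowFact : Prop :=
  ∀ (G : Type u) [Group G] [Finite G], Listed G → ∀ T : Sylow 2 G, IsMulCommutative (T : Subgroup G) →
    (∀ x : G, x ≠ 1 → IsMulCommutative (Subgroup.centralizer ({x} : Set G))) ∨
      ∃ (F : Type) (_ : Field F) (_ : Fintype F), 5 < Fintype.card F ∧
        (Fintype.card F % 8 = 3 ∨ Fintype.card F % 8 = 5) ∧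
        Nonempty (G ≃* Matrix.ProjectiveSpecialLinearGroup (Fin 2) F)

/-- Piece `Outer`: an automorphism of `SL(2,F)` of prime order is trivial, or has abelian fixed
points not all central, or has an invariant solvable subgroup `K` with a fixed element `t`, not central in
`K`, commuting with an element of `K` which is moved, even modulo the centre. -/
def SLTwoAutFact : Prop :=
  ∀ (F : Type) [Field F] [Fintype F], 4 ≤ Fintype.card F →
    ∀ (φ : MulAut (Matrix.SpecialLinearGroup (Fin 2) F)) (r : ℕ), r.Prime → φ ^ r = 1 →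
      φ = 1 ∨
      ((∀ a b : Matrix.SpecialLinearGroup (Fin 2) F, φ a = a → φ b = b → a * b = b * a) ∧
        ∃ a, φ a = a ∧ a ∉ Subgroup.center (Matrix.SpecialLinearGroup (Fin 2) F)) ∨
      ∃ K : Subgroup (Matrix.SpecialLinearGroup (Fin 2) F), Group.IsSolvable K ∧
        (∀ k ∈ K, φ k ∈ K) ∧ ∃ t ∈ K, φ t = t ∧ (∃ k ∈ K, k * t ≠ t * k) ∧
          ∃ a ∈ K, a * t = t * a ∧
            ∀ z ∈ Subgroup.center (Matrix.SpecialLinearGroup (Fin 2) F), φ a ≠ a * z

/-- The shape of a perfect CA group: `SL(2,F)`, or `6.A₆` over `SL(2,9)`. -/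
def Model (P : Type u) [Group P] : Prop :=
  ∃ (F : Type) (_ : Field F) (_ : Fintype F), 4 ≤ Fintype.card F ∧
    ∃ π : P →* Matrix.SpecialLinearGroup (Fin 2) F, Function.Surjective π ∧ π.ker ≤ Subgroup.center P ∧
      (Function.Injective π ∨ (Fintype.card F = 9 ∧ Nat.card π.ker = 3))

/-- Piece `Cover`. -/
def ModelFact : Prop :=
  ∀ (P : Type u) [Group P] [Finite P] [Nontrivial P], CA P → commutator P = ⊤ → Model P

/-- Piece `NotPerfect` (from `ModelFact` and `SLTwoAutFact`): a minimal non-CA group is perfect. -/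
def PerfectFact : Prop :=
  ∀ (G : Type u) [Group G] [Finite G], Setup G → commutator G = ⊤

/-- Piece `Radical`: a perfect minimal non-CA group is quasisimple. -/
def QuasiSimpleFact : Prop :=
  ∀ (G : Type u) [Group G] [Finite G], Setup G → commutator G = ⊤ →
    ∀ N : Subgroup G, N.Normal → N ≠ ⊤ → N ≤ Subgroup.center G

/-- Piece `Quasi` (from `MaxCentFact` and `AbelianSylowFact`): a quasisimple minimal non-CA group is a
`PSL(2,q)` with `q = 3, 5 mod 8`. -/
def QuasiFact : Prop :=
  ∀ (G : Type u) [Group G] [Finite G], Setup G → commutator G = ⊤ →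
    (∀ N : Subgroup G, N.Normal → N ≠ ⊤ → N ≤ Subgroup.center G) →
    ∃ (F : Type) (_ : Field F) (_ : Fintype F), 5 < Fintype.card F ∧
      (Fintype.card F % 8 = 3 ∨ Fintype.card F % 8 = 5) ∧
      Nonempty (G ≃* Matrix.ProjectiveSpecialLinearGroup (Fin 2) F)

/-- The field condition of S4369. -/
def Good (F : Type) [Field F] [Fintype F] : Prop :=
  ((Fintype.card F).Prime ∧ 5 < Fintype.card F ∧ ¬ 16 ∣ Fintype.card F ^ 2 - 1) ∨
    (∃ p : ℕ, p.Prime ∧ p ≠ 2 ∧ (Fintype.card F = 3 ^ p ∨ Fintype.card F = 5 ^ p))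

/-- Piece `Converse`: the good groups are minimal non-CA. -/
def ConverseFact : Prop :=
  ∀ (F : Type) [Field F] [Fintype F], Good F → Setup (Matrix.ProjectiveSpecialLinearGroup (Fin 2) F)

/-- Piece `Converse`: a minimal non-CA `PSL(2,F)` has a good field. -/
def FieldFact : Prop :=
  ∀ (F : Type) [Field F] [Fintype F], 5 < Fintype.card F →
    (Fintype.card F % 8 = 3 ∨ Fintype.card F % 8 = 5) →
    Setup (Matrix.ProjectiveSpecialLinearGroup (Fin 2) F) → Good F

end Cfsg.Agent.MinNonCA
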