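import Mathlib
import Cfsg.Agent.Lib.MinNonCA.Defs
import Cfsg.Agent.Lib.Forms.DicksonList
import Cfsg.Agent.Lib.Forms.DicksonCor
import Cfsg.Agent.Lib.Forms.DicksonDihedral
import Cfsg.Agent.Lib.Classical.Linear
import Cfsg.Agent.Lib.Classical.SmallIso
import Cfsg.Agent.S0251
import Cfsg.Agent.S0253
import Cfsg.Agent.S0803
import Cfsg.Agent.S0805
import Cfsg.Agent.S0811
import Cfsg.Agent.S0812

/-!
# Minimal non-CA groups: the converse direction (piece `Converse` of S4369)

`PSL(2,q)`, `q = 3, 5 mod 8`, is not CA; its proper subgroups are CA exactly when it has no proper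
subfield group over more than five elements.
-/

set_option autoImplicit false
set_option linter.unusedSectionVars false

namespace Cfsg.Agent.MinNonCA.Converse

open Matrix
open scoped MatrixGroups
open Cfsg.Agent.Forms

universe u v

/-! ### Generalities -/

theorem ca_of {G : Type u} [Group G]
    (h : ∀ x : G, x ∉ Subgroup.center G → ∀ y z : G, y * x = x * y → z * x = x * z → y * z = z * y) :
    CA G := by
  intro x hx
  refine ⟨⟨fun a b => Subtype.ext (h x hx a b ?_ ?_)⟩⟩
  · exact Subgroup.mem_centralizer_singleton_iff.1 a.2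
  · exact Subgroup.mem_centralizer_singleton_iff.1 b.2

theorem CA.comm {G : Type u} [Group G] (h : CA G) {x y z : G} (hx : x ∉ Subgroup.center G)
    (hy : y * x = x * y) (hz : z * x = x * z) : y * z = z * y := by
  have := (h x hx).is_comm.comm ⟨y, Subgroup.mem_centralizer_singleton_iff.2 hy⟩
    ⟨z, Subgroup.mem_centralizer_singleton_iff.2 hz⟩
  exact congrArg Subtype.val this

theorem ca_of_equiv {G : Type u} {H : Type v} [Group G] [Group H] (e : G ≃* H) (h : CA G) : CA H := by
  refine ca_of fun x hx y z hy hz => ?_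
  have hx' : e.symm x ∉ Subgroup.center G := fun hc => hx (Subgroup.mem_center_iff.2 fun g => by
    simpa using congrArg e (Subgroup.mem_center_iff.1 hc (e.symm g)))
  have := congrArg e (CA.comm h hx' (y := e.symm y) (z := e.symm z)
    (by rw [← map_mul, hy, map_mul]) (by rw [← map_mul, hz, map_mul]))
  simpa using this

theorem ca_of_comm {G : Type u} [Group G] (h : ∀ y z : G, y * z = z * y) : CA G :=
  ca_of fun _ _ y z _ _ => h y z

theorem dihedral_ca (n : ℕ) : CA (DihedralGroup n) := by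
  refine ca_of fun x hx y z hy hz => ?_
  cases x with
  | r i =>
    have hi : i + i ≠ 0 := fun h => hx (Subgroup.mem_center_iff.2 fun g => by
      cases g with
      | r j => simp [add_comm]
      | sr j =>
        simp only [DihedralGroup.r_mul_sr, DihedralGroup.sr_mul_r, DihedralGroup.sr.injEq]
        linear_combination h)
    cases y with
    | r j =>
      cases z with
      | r k => simp [add_comm]
      | sr k =>
        simp only [DihedralGroup.r_mul_sr, DihedralGroup.sr_mul_r, DihedralGroup.sr.injEq] at hz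
        exact absurd (by linear_combination hz) hi
    | sr j =>
      simp only [DihedralGroup.r_mul_sr, DihedralGroup.sr_mul_r, DihedralGroup.sr.injEq] at hy
      exact absurd (by linear_combination hy) hi
  | sr i =>
    cases y with
    | r j =>
      simp only [DihedralGroup.r_mul_sr, DihedralGroup.sr_mul_r, DihedralGroup.sr.injEq] at hy
      cases z with
      | r k => simp [add_comm]
      | sr k =>
        simp only [DihedralGroup.r_mul_sr, DihedralGroup.sr_mul_r, DihedralGroup.sr.injEq]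
        linear_combination hy
    | sr j =>
      simp only [DihedralGroup.sr_mul_sr, DihedralGroup.r.injEq] at hy
      cases z with
      | r k =>
        simp only [DihedralGroup.r_mul_sr, DihedralGroup.sr_mul_r, DihedralGroup.sr.injEq] at hz ⊢
        linear_combination -hz
      | sr k =>
        simp only [DihedralGroup.sr_mul_sr, DihedralGroup.r.injEq] at hz ⊢
        linear_combination hy - hz

/-! ### Two by two matrices -/

variable {F : Type} [Field F]

theorem mat_comm {A B C : Matrix (Fin 2) (Fin 2) F}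
    (hA : ¬ (A 0 1 = 0 ∧ A 1 0 = 0 ∧ A 0 0 = A 1 1)) (hB : A * B = B * A) (hC : A * C = C * A) :
    B * C = C * B := by
  have key : ∀ X : Matrix (Fin 2) (Fin 2) F, A * X = X * A →
      A 0 1 * X 1 0 = X 0 1 * A 1 0 ∧ (A 0 0 - A 1 1) * X 0 1 = A 0 1 * (X 0 0 - X 1 1) ∧
        (A 0 0 - A 1 1) * X 1 0 = A 1 0 * (X 0 0 - X 1 1) := by
    intro X h
    have e00 := congrFun (congrFun h 0) 0
    have e01 := congrFun (congrFun h 0) 1
    have e10 := congrFun (congrFun h 1) 0
    simp [Matrix.mul_apply, Fin.sum_univ_two] at e00 e01 e10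
    exact ⟨by linear_combination e00, by linear_combination e01, by linear_combination -e10⟩
  obtain ⟨b1, b2, b3⟩ := key B hB
  obtain ⟨c1, c2, c3⟩ := key C hC
  obtain ⟨k1, k2, k3⟩ : B 0 1 * C 1 0 = C 0 1 * B 1 0 ∧
      (B 0 0 - B 1 1) * C 0 1 = B 0 1 * (C 0 0 - C 1 1) ∧
      (B 0 0 - B 1 1) * C 1 0 = B 1 0 * (C 0 0 - C 1 1) := by
    by_cases hb : A 0 1 = 0
    · by_cases hc : A 1 0 = 0
      · have hd : A 0 0 - A 1 1 ≠ 0 := fun h => hA ⟨hb, hc, sub_eq_zero.1 h⟩
        simp only [hb, hc, zero_mul, mul_eq_zero, hd, false_or] at b2 b3 c2 c3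
        simp [b2, b3, c2, c3]
      · refine ⟨mul_left_cancel₀ hc ?_, mul_left_cancel₀ hc ?_, mul_left_cancel₀ hc ?_⟩
        · linear_combination (C 1 0) * (-b1) + (B 1 0) * c1
        · linear_combination (-(C 0 1)) * b3 + (A 0 0 - A 1 1) * (0 : F) + (C 0 0 - C 1 1) * b1 +
            (B 1 0) * c2 - (C 0 0 - C 1 1) * (0 : F)
        · linear_combination (-(C 1 0)) * b3 + (B 1 0) * c3
    · refine ⟨mul_left_cancel₀ hb ?_, mul_left_cancel₀ hb ?_, mul_left_cancel₀ hb ?_⟩
      · linear_combination (-(B 0 1)) * (-c1) - (C 0 1) * b1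
      · linear_combination (-(C 0 1)) * b2 + (B 0 1) * c2
      · linear_combination (-(C 1 0)) * b2 + (B 0 1) * c3 - (C 0 0 - C 1 1) * b1
  ext i j
  fin_cases i <;> fin_cases j <;> simp [Matrix.mul_apply, Fin.sum_univ_two]
  · linear_combination k1
  · linear_combination k2
  · linear_combination -k3
  · linear_combination -k1

variable [Fintype F]

theorem lift_comm {A B C : SL(2, F)} (hA : KleinPSL.pi F A ≠ 1) (hB : A * B = B * A)
    (hC : A * C = C * A) :
    KleinPSL.pi F B * KleinPSL.pi F C = KleinPSL.pi F C * KleinPSL.pi F B := by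
  have hns : ¬ ((A : Matrix (Fin 2) (Fin 2) F) 0 1 = 0 ∧ (A : Matrix (Fin 2) (Fin 2) F) 1 0 = 0 ∧
      (A : Matrix (Fin 2) (Fin 2) F) 0 0 = (A : Matrix (Fin 2) (Fin 2) F) 1 1) := by
    rintro ⟨h01, h10, hd⟩
    refine hA (KleinPSL.pi_eq_one.2 ?_)
    have hdet : Matrix.det (A : Matrix (Fin 2) (Fin 2) F) = 1 := A.2
    rw [det_fin_two, h01, zero_mul, sub_zero, ← hd] at hdet
    rcases mul_self_eq_one_iff.1 hdet with h | h
    · left
      ext i j
      fin_cases i <;> fin_cases j <;> simp [h01, h10, ← hd, h]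
    · right
      ext i j
      fin_cases i <;> fin_cases j <;> simp [h01, h10, ← hd, h]
  rw [← map_mul, ← map_mul, show B * C = C * B from Subtype.ext (by
    simpa using mat_comm hns (congrArg Subtype.val hB) (congrArg Subtype.val hC))]

local notation "PG" => Matrix.ProjectiveSpecialLinearGroup (Fin 2) F

/-- Centralisers of elements which are not involutions are abelian. -/
theorem cent_comm (h2 : (2 : F) ≠ 0) {x y z : PG} (hx : x * x ≠ 1) (hy : y * x = x * y)
    (hz : z * x = x * z) : y * z = z * y := by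
  obtain ⟨A, rfl⟩ := KleinPSL.pi_surjective x
  obtain ⟨B, rfl⟩ := KleinPSL.pi_surjective y
  obtain ⟨C, rfl⟩ := KleinPSL.pi_surjective z
  have key : ∀ D : SL(2, F), KleinPSL.pi F D * KleinPSL.pi F A = KleinPSL.pi F A * KleinPSL.pi F D →
      A * D = D * A := by
    intro D h
    refine (KleinPSL.comm_cases (show Commute (KleinPSL.pi F A) (KleinPSL.pi F D) from h.symm)).resolve_right
      fun e => hx ?_
    have e' : (A : Matrix (Fin 2) (Fin 2) F) * D = -((D : Matrix (Fin 2) (Fin 2) F) * A) := by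
      simpa using congrArg Subtype.val e
    have hd : Matrix.det (D : Matrix (Fin 2) (Fin 2) F) = 1 := D.2
    have hda : Matrix.det (A : Matrix (Fin 2) (Fin 2) F) = 1 := A.2
    rw [det_fin_two] at hd hda
    have e00 := congrFun (congrFun e' 0) 0
    have e01 := congrFun (congrFun e' 0) 1
    have e10 := congrFun (congrFun e' 1) 0
    have e11 := congrFun (congrFun e' 1) 1
    simp [Matrix.mul_apply, Fin.sum_univ_two] at e00 e01 e10 e11
    have ht : (A : Matrix (Fin 2) (Fin 2) F) 0 0 + (A : Matrix (Fin 2) (Fin 2) F) 1 1 = 0 := by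
      refine mul_left_cancel₀ h2 ?_
      rw [mul_zero]
      linear_combination (D : Matrix (Fin 2) (Fin 2) F) 1 1 * e00 - (D : Matrix (Fin 2) (Fin 2) F) 1 0 * e01 -
        (D : Matrix (Fin 2) (Fin 2) F) 0 1 * e10 + (D : Matrix (Fin 2) (Fin 2) F) 0 0 * e11 -
        2 * ((A : Matrix (Fin 2) (Fin 2) F) 0 0 + (A : Matrix (Fin 2) (Fin 2) F) 1 1) * hd
    rw [← map_mul]
    refine KleinPSL.pi_eq_one.2 (Or.inr ?_)
    ext i j
    fin_cases i <;> fin_cases j <;> simp [Matrix.mul_apply, Fin.sum_univ_two]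
    · linear_combination (A : Matrix (Fin 2) (Fin 2) F) 0 0 * ht - hda
    · linear_combination (A : Matrix (Fin 2) (Fin 2) F) 0 1 * ht
    · linear_combination (A : Matrix (Fin 2) (Fin 2) F) 1 0 * ht
    · linear_combination (A : Matrix (Fin 2) (Fin 2) F) 1 1 * ht - hda
  refine lift_comm (fun e => hx ?_) (key B hy) (key C hz)
  rw [e, one_mul]

theorem eigen_neg (w : OnePoint (AlgebraicClosure F)) (X : SL(2, F)) :
    DicksonAction.eigen w (-X) = -DicksonAction.eigen w X := by
  cases w with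
  | infty => simp [DicksonAction.eigen]
  | coe c => simp [DicksonAction.eigen]; ring

/-- A group fixing a point is CA. -/
theorem fix_ca (h2 : (2 : F) ≠ 0) {H : Subgroup PG} {w : OnePoint (AlgebraicClosure F)}
    (hfix : ∀ g ∈ H, g • w = w) : CA H := by
  refine ca_of fun x hx y z hy hz => Subtype.ext ?_
  obtain ⟨A, hA⟩ := KleinPSL.pi_surjective (x : PG)
  obtain ⟨B, hB⟩ := KleinPSL.pi_surjective (y : PG)
  obtain ⟨C, hC⟩ := KleinPSL.pi_surjective (z : PG)
  have hfA : KleinPSL.pi F A • w = w := by rw [hA]; exact hfix _ x.2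
  have key : ∀ D : SL(2, F), KleinPSL.pi F D • w = w →
      Commute (KleinPSL.pi F A) (KleinPSL.pi F D) → A * D = D * A := by
    intro D hD h
    refine (KleinPSL.comm_cases h).resolve_right fun e => ?_
    have h1 := congrArg (DicksonAction.eigen w) e
    rw [eigen_neg, DicksonAction.eigen_mul hfA hD, DicksonAction.eigen_mul hD hfA] at h1
    have h0 : ∀ W : SL(2, F), KleinPSL.pi F W • w = w → DicksonAction.eigen w W ≠ 0 := fun W hW e0 => by
      have := DicksonAction.eigen_root hW
      rw [e0] at this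
      simp at this
    have h2' : (2 : AlgebraicClosure F) ≠ 0 := by
      rw [← map_ofNat (algebraMap F (AlgebraicClosure F)) 2]
      exact (map_ne_zero _).2 h2
    exact mul_ne_zero h2' (mul_ne_zero (h0 A hfA) (h0 D hD)) (by linear_combination h1)
  show (y : PG) * z = z * y
  rw [← hB, ← hC]
  refine lift_comm ?_ (key B (by rw [hB]; exact hfix _ y.2) ?_) (key C (by rw [hC]; exact hfix _ z.2) ?_)
  · rw [hA]
    intro e
    exact hx (Subgroup.mem_center_iff.2 fun g => by simp [show x = 1 from Subtype.ext e])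
  · rw [hA, hB]
    exact (congrArg Subtype.val hy).symm
  · rw [hA, hC]
    exact (congrArg Subtype.val hz).symm

/-- A group with all orders among `2, 3, 5` is CA. -/
theorem exp_ca (h2 : (2 : F) ≠ 0) {H : Subgroup PG}
    (hexp : ∀ g : H, g ^ 2 = 1 ∨ g ^ 3 = 1 ∨ g ^ 5 = 1) : CA H := by
  refine ca_of fun x hx y z hy hz => ?_
  by_cases h : (x : PG) * x = 1
  · have hx1 : x ≠ 1 := fun e => hx (e ▸ Subgroup.one_mem _)
    have hxx : x * x = 1 := Subtype.ext h
    have key : ∀ g : H, g * x = x * g → g * g = 1 := by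
      intro g hg
      by_contra hne
      have hpow : ∀ k, (x * g) ^ k = x ^ k * g ^ k :=
        fun k => (show Commute x g from hg.symm).mul_pow k
      have hg' : g ^ 3 = 1 ∨ g ^ 5 = 1 :=
        (hexp g).resolve_left fun e => hne (by rwa [← pow_two])
      have hx3 : x ^ 3 = x := by rw [pow_succ, pow_two, hxx, one_mul]
      have hx5 : x ^ 5 = x := by rw [show (5 : ℕ) = 2 + 3 from rfl, pow_add, pow_two, hxx, one_mul, hx3]
      rcases hexp (x * g) with e | e | e <;> rw [hpow] at e
      · rw [pow_two x, hxx, one_mul, pow_two] at e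
        exact hne e
      · rw [hx3] at e
        rcases hg' with e' | e'
        · rw [e', mul_one] at e
          exact hx1 e
        · apply hx1
          have h15 := congrArg (· ^ 5) (show g ^ 3 = x⁻¹ from eq_inv_of_mul_eq_one_right e)
          simp only [← pow_mul, inv_pow, hx5] at h15
          rw [pow_mul', e', one_pow] at h15
          exact inv_eq_one.1 h15.symm
      · rw [hx5] at e
        rcases hg' with e' | e'
        · apply hx1
          have h15 := congrArg (· ^ 3) (show g ^ 5 = x⁻¹ from eq_inv_of_mul_eq_one_right e)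
          simp only [← pow_mul, inv_pow, hx3] at h15
          rw [pow_mul', e', one_pow] at h15
          exact inv_eq_one.1 h15.symm
        · rw [e', mul_one] at e
          exact hx1 e
    have hyy := key y hy
    have hzz := key z hz
    have hyz := key (y * z) (by rw [mul_assoc, hz, ← mul_assoc, hy, mul_assoc])
    calc y * z = (y * z)⁻¹ := eq_inv_of_mul_eq_one_left hyz
      _ = z * y := by rw [_root_.mul_inv_rev, inv_eq_of_mul_eq_one_left hzz, inv_eq_of_mul_eq_one_left hyy]
  · exact Subtype.ext (cent_comm h2 h (congrArg Subtype.val hy) (congrArg Subtype.val hz))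

/-! ### The ambient group -/

theorem odd_card {F : Type} [Field F] [Fintype F]
    (h8 : Fintype.card F % 8 = 3 ∨ Fintype.card F % 8 = 5) : Odd (Fintype.card F) :=
  Nat.odd_iff.2 (by omega)

theorem exists_witness (h5 : 5 < Fintype.card F)
    (h8 : Fintype.card F % 8 = 3 ∨ Fintype.card F % 8 = 5) :
    ∃ x y z : PG, x ≠ 1 ∧ y * x = x * y ∧ z * x = x * z ∧ y * z ≠ z * y := by
  have hg : Nat.gcd 2 (Fintype.card F - 1) = 2 :=
    Nat.gcd_eq_left (Nat.dvd_of_mod_eq_zero (by omega))
  obtain ⟨H, n, ⟨e⟩, hn3, hev⟩ : ∃ (H : Subgroup PG) (n : ℕ),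
      Nonempty (H ≃* DihedralGroup n) ∧ 3 ≤ n ∧ n % 2 = 0 := by
    rcases h8 with h | h
    · obtain ⟨H, -, he⟩ := S0811.result (F := F) (q := Fintype.card F) rfl
        (by simp only [Finset.mem_insert, Finset.mem_singleton]; omega)
      exact ⟨H, _, he, by rw [hg]; omega, by rw [hg]; omega⟩
    · obtain ⟨H, -, he⟩ := S0812.result (F := F) (q := Fintype.card F) rfl
        (by simp only [Finset.mem_insert, Finset.mem_singleton]; omega)
      exact ⟨H, _, he, by rw [hg]; omega, by rw [hg]; omega⟩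
  obtain ⟨k, rfl⟩ : ∃ k, n = 2 * k := ⟨n / 2, by omega⟩
  have hkk : ((k : ℕ) : ZMod (2 * k)) + ((k : ℕ) : ZMod (2 * k)) = 0 := by
    rw [← Nat.cast_add, ← two_mul, ZMod.natCast_self]
  let f : DihedralGroup (2 * k) →* PG := H.subtype.comp e.symm.toMonoidHom
  have hinj : Function.Injective f := fun a b h => e.symm.injective (Subtype.ext h)
  refine ⟨f (.r (k : ℕ)), f (.r 1), f (.sr 0), ?_, ?_, ?_, ?_⟩
  · rw [← map_one f, Ne, hinj.eq_iff]
    intro h
    have h1 : ((k : ℕ) : ZMod (2 * k)) = 0 := DihedralGroup.r.inj h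
    rw [ZMod.natCast_eq_zero_iff] at h1
    have := Nat.le_of_dvd (by omega) h1
    omega
  · rw [← map_mul, ← map_mul]
    simp [add_comm]
  · rw [← map_mul, ← map_mul]
    congr 1
    simp only [DihedralGroup.r_mul_sr, DihedralGroup.sr_mul_r, DihedralGroup.sr.injEq]
    linear_combination hkk
  · rw [← map_mul, ← map_mul, Ne, hinj.eq_iff]
    simp only [DihedralGroup.r_mul_sr, DihedralGroup.sr_mul_r, DihedralGroup.sr.injEq]
    intro h
    have h1 : ((2 : ℕ) : ZMod (2 * k)) = 0 := by push_cast; linear_combination -h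
    rw [ZMod.natCast_eq_zero_iff] at h1
    have := Nat.le_of_dvd (by omega) h1
    omega

theorem nonsolvable_not_ca (h5 : 5 < Fintype.card F)
    (h8 : Fintype.card F % 8 = 3 ∨ Fintype.card F % 8 = 5) : ¬ Group.IsSolvable PG ∧ ¬ CA PG := by
  haveI hS : IsSimpleGroup PG := Classical.Linear.isSimpleGroup_PSL_fin le_rfl fun _ => by omega
  obtain ⟨x, y, z, hx1, hy, hz, hne⟩ := exists_witness h5 h8
  refine ⟨fun hs => hne ((IsSimpleGroup.comm_iff_isSolvable.2 hs) y z), fun hca => ?_⟩
  refine hne (CA.comm hca (fun hc => ?_) hy hz)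
  rcases IsSimpleGroup.eq_bot_or_eq_top_of_normal (Subgroup.center PG) inferInstance with h | h
  · rw [h, Subgroup.mem_bot] at hc
    exact hx1 hc
  · exact hne (Subgroup.mem_center_iff.1 (h ▸ Subgroup.mem_top z : z ∈ Subgroup.center PG) y)

theorem two_ne_zero' (h8 : Fintype.card F % 8 = 3 ∨ Fintype.card F % 8 = 5) : (2 : F) ≠ 0 :=
  Classical.SylowSL2.two_ne_zero_of_odd (odd_card h8)

theorem pow_odd_mod (a : ℕ) (ha : a % 2 = 1) (k : ℕ) : a ^ (2 * k + 1) % 8 = a % 8 := by
  have h1 : a ^ 2 % 8 = 1 := by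
    rw [Nat.pow_mod]
    obtain h | h | h | h : a % 8 = 1 ∨ a % 8 = 3 ∨ a % 8 = 5 ∨ a % 8 = 7 := by omega
    all_goals simp [h]
  rw [pow_succ, pow_mul, Nat.mul_mod, Nat.pow_mod, h1, one_pow]
  simp

theorem good_facts (h : Good F) :
    5 < Fintype.card F ∧ (Fintype.card F % 8 = 3 ∨ Fintype.card F % 8 = 5) := by
  rcases h with ⟨hp, h5, h16⟩ | ⟨r, hr, hr2, hq⟩
  · refine ⟨h5, ?_⟩
    have hodd : Fintype.card F % 2 = 1 := Nat.odd_iff.1 (hp.odd_of_ne_two (by omega))
    by_contra hc
    apply h16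
    obtain ⟨k, hk⟩ : ∃ k, Fintype.card F = 8 * k + 1 ∨ Fintype.card F = 8 * k + 7 :=
      ⟨Fintype.card F / 8, by omega⟩
    rcases hk with hk | hk <;> rw [hk]
    · exact ⟨4 * k ^ 2 + k, by rw [show (8 * k + 1) ^ 2 = 16 * (4 * k ^ 2 + k) + 1 by ring]; omega⟩
    · exact ⟨4 * k ^ 2 + 7 * k + 3,
        by rw [show (8 * k + 7) ^ 2 = 16 * (4 * k ^ 2 + 7 * k + 3) + 1 by ring]; omega⟩
  · obtain ⟨j, rfl⟩ := hr.odd_of_ne_two hr2
    have h1 := pow_odd_mod 3 rfl j
    have h2 := pow_odd_mod 5 rfl j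
    have hj : 3 ≤ 2 * j + 1 := by have := hr.two_le; omega
    have h3 : 3 ^ 3 ≤ 3 ^ (2 * j + 1) := Nat.pow_le_pow_right (by norm_num) hj
    have h4 : 5 ^ 3 ≤ 5 ^ (2 * j + 1) := Nat.pow_le_pow_right (by norm_num) hj
    norm_num at h3 h4
    rcases hq with hq | hq <;> rw [hq]
    · generalize 3 ^ (2 * j + 1) = Q at h1 h3 ⊢
      exact ⟨by omega, Or.inl (by omega)⟩
    · generalize 5 ^ (2 * j + 1) = Q at h2 h4 ⊢
      exact ⟨by omega, Or.inr (by omega)⟩

theorem subgroup_ca (hF : Good F) (H : Subgroup PG) (hH : H ≠ ⊤) : CA H := by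
  obtain ⟨h5, h8⟩ := good_facts hF
  have h2 := two_ne_zero' h8
  obtain ⟨p, hp⟩ := CharP.exists F
  obtain ⟨n, hpp, hn⟩ := FiniteField.card F p
  haveI : Fact p.Prime := ⟨hpp⟩
  rcases DicksonList.classify p H with
    ⟨g, -, -, ⟨hc, -⟩ | ⟨⟨e⟩⟩⟩ | ⟨w, -, hfix⟩ | ⟨⟨e⟩⟩ | ⟨⟨e⟩⟩ | ⟨⟨e⟩⟩ | ⟨K, _, _, m, hm, h⟩
  · obtain ⟨c, hgen⟩ := hc.exists_generator
    refine ca_of_comm fun y z => ?_
    obtain ⟨i, rfl⟩ := Subgroup.mem_zpowers_iff.1 (hgen y)
    obtain ⟨j, rfl⟩ := Subgroup.mem_zpowers_iff.1 (hgen z)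
    rw [← _root_.zpow_add, ← _root_.zpow_add, add_comm]
  · exact ca_of_equiv e.symm (dihedral_ca _)
  · exact fix_ca h2 hfix
  · exact exp_ca h2 fun g => by
      rcases DicksonDihedral.alt4_inv (e g) with h | h
      · exact Or.inl (e.injective (by rw [map_pow, h, map_one]))
      · exact Or.inr (Or.inl (e.injective (by rw [map_pow, h, map_one])))
  · exfalso
    have h1 := (S0803.result (F := F) (q := Fintype.card F) rfl).1 ⟨H, ⟨e⟩⟩
    obtain ⟨k, hk⟩ : ∃ k, Fintype.card F = 8 * k + 3 ∨ Fintype.card F = 8 * k + 5 :=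
      ⟨Fintype.card F / 8, by omega⟩
    rcases hk with hk | hk <;> rw [hk] at h1
    · rw [show (8 * k + 3) ^ 2 = 16 * (4 * k ^ 2 + 3 * k) + 9 by ring] at h1
      omega
    · rw [show (8 * k + 5) ^ 2 = 16 * (4 * k ^ 2 + 5 * k + 1) + 9 by ring] at h1
      omega
  · exact exp_ca h2 fun g => by
      rcases DicksonDihedral.alt5_exp (e g) with h | h | h
      · exact Or.inl (e.injective (by rw [map_pow, h, map_one]))
      · exact Or.inr (Or.inl (e.injective (by rw [map_pow, h, map_one])))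
      · exact Or.inr (Or.inr (e.injective (by rw [map_pow, h, map_one])))
  · obtain ⟨hm2, -⟩ := DicksonCor.subfield_bound H hH K m hm h
    rcases hF with ⟨hq, -, -⟩ | ⟨r, hr, hr2, hq⟩
    · rw [← hm] at hq
      exact absurd (Nat.Prime.eq_one_of_pow hq) (by omega)
    obtain ⟨p₀, hp₀, hKc, hmr⟩ : ∃ p₀, (p₀ = 3 ∨ p₀ = 5) ∧ Fintype.card K = p₀ ∧ m = r := by
      obtain ⟨p₀, hp₀, hq₀⟩ : ∃ p₀, (p₀ = 3 ∨ p₀ = 5) ∧ Fintype.card F = p₀ ^ r := by
        rcases hq with hq | hq
        · exact ⟨3, Or.inl rfl, hq⟩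
        · exact ⟨5, Or.inr rfl, hq⟩
      have hp₀' : p₀.Prime := by rcases hp₀ with rfl | rfl <;> norm_num
      have hdvd : Fintype.card K ∣ p₀ ^ r := by
        rw [← hq₀, ← hm]
        exact dvd_pow_self _ (by omega)
      obtain ⟨j, -, hj⟩ := (Nat.dvd_prime_pow hp₀').1 hdvd
      have hjr : j * m = r := by
        have h1 : p₀ ^ (j * m) = p₀ ^ r := by rw [pow_mul, ← hj, hm, hq₀]
        exact Nat.pow_right_injective hp₀'.two_le h1
      rcases (Nat.dvd_prime hr).1 (hjr ▸ dvd_mul_left m j) with h1 | h1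
      · omega
      · refine ⟨p₀, hp₀, ?_, h1⟩
        have hj1 : j = 1 := by
          rw [h1] at hjr
          exact Nat.eq_of_mul_eq_mul_right hr.pos (hjr.trans (one_mul r).symm)
        rw [hj, hj1, pow_one]
    rcases h with ⟨⟨e⟩⟩ | h
    · rcases hp₀ with rfl | rfl
      · obtain ⟨ψ⟩ := S0251.result (F := K) hKc
        exact exp_ca h2 fun g => by
          rcases DicksonDihedral.alt4_inv (ψ (e g)) with h | h
          · exact Or.inl ((e.trans ψ).injective (by rw [map_pow, MulEquiv.trans_apply, h, map_one]))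
          · exact Or.inr (Or.inl ((e.trans ψ).injective (by rw [map_pow, MulEquiv.trans_apply, h, map_one])))
      · obtain ⟨ψ⟩ := S0253.result (F := K) hKc
        exact exp_ca h2 fun g => by
          rcases DicksonDihedral.alt5_exp (ψ (e g)) with h | h | h
          · exact Or.inl ((e.trans ψ).injective (by rw [map_pow, MulEquiv.trans_apply, h, map_one]))
          · exact Or.inr (Or.inl ((e.trans ψ).injective (by rw [map_pow, MulEquiv.trans_apply, h, map_one])))
          · exact Or.inr (Or.inr ((e.trans ψ).injective (by rw [map_pow, MulEquiv.trans_apply, h, map_one])))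
    · have hev := ((S0805.result (F := F) (K := K) (q := Fintype.card F) rfl (odd_card h8) m (by omega) hm).2).1 ⟨H, h⟩
      exact absurd hev (Nat.not_even_iff_odd.2 (hmr ▸ hr.odd_of_ne_two hr2))

theorem converse_fact : ConverseFact := by
  intro F _ _ hF
  obtain ⟨h5, h8⟩ := good_facts hF
  obtain ⟨h1, h2⟩ := nonsolvable_not_ca h5 h8
  exact ⟨h1, h2, subgroup_ca hF⟩

theorem field_fact : FieldFact := by
  intro F _ _ h5 h8 hS
  obtain ⟨p, hp⟩ := CharP.exists F
  obtain ⟨n, hpp, hn⟩ := FiniteField.card F p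
  haveI : Fact p.Prime := ⟨hpp⟩
  have hpodd : p % 2 = 1 := by
    have h := odd_card h8
    rw [hn, Nat.odd_pow_iff n.ne_zero] at h
    exact Nat.odd_iff.1 h
  have hnodd : Odd (n : ℕ) := by
    by_contra hc
    obtain ⟨k, hk⟩ := Nat.not_odd_iff_even.1 hc
    have : Fintype.card F % 8 = 1 := by
      rw [hn, hk, ← two_mul, pow_mul, Nat.pow_mod, Nat.pow_mod p]
      obtain h | h | h | h : p % 8 = 1 ∨ p % 8 = 3 ∨ p % 8 = 5 ∨ p % 8 = 7 := by omega
      all_goals simp [h]
    omega
  obtain ⟨j₀, hj₀⟩ := hnodd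
  by_cases hn1 : (n : ℕ) = 1
  · left
    refine ⟨by rw [hn, hn1, pow_one]; exact hpp, h5, ?_⟩
    obtain ⟨k, hk⟩ : ∃ k, Fintype.card F = 8 * k + 3 ∨ Fintype.card F = 8 * k + 5 :=
      ⟨Fintype.card F / 8, by omega⟩
    rintro ⟨c, hc⟩
    rcases hk with hk | hk <;> rw [hk] at hc
    · rw [show (8 * k + 3) ^ 2 = 16 * (4 * k ^ 2 + 3 * k) + 9 by ring] at hc
      omega
    · rw [show (8 * k + 5) ^ 2 = 16 * (4 * k ^ 2 + 5 * k + 1) + 9 by ring] at hc
      omega
  obtain ⟨r, hr, d, hd⟩ := Nat.exists_prime_and_dvd hn1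
  have hr2 : r ≠ 2 := by rintro rfl; omega
  have hd0 : d ≠ 0 := by rintro rfl; simp at hd
  have hdodd : d % 2 = 1 := by
    rcases Nat.mod_two_eq_zero_or_one d with h | h
    · have := Nat.mul_mod r d 2
      rw [h, mul_zero, Nat.zero_mod, ← hd] at this
      omega
    · exact h
  have hsmall : p ^ d ≤ 5 := by
    by_contra hc
    letI : Fintype (GaloisField p d) := Fintype.ofFinite _
    have hKc : Fintype.card (GaloisField p d) = p ^ d := by
      rw [← Nat.card_eq_fintype_card, GaloisField.card p d hd0]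
    have hm : Fintype.card (GaloisField p d) ^ r = Fintype.card F := by
      rw [hKc, ← pow_mul, mul_comm, ← hd, hn]
    obtain ⟨⟨H, ⟨e⟩⟩, -⟩ := S0805.result (F := F) (K := GaloisField p d) (q := Fintype.card F) rfl
      (odd_card h8) r hr.one_le hm
    have hK8 : Fintype.card (GaloisField p d) % 8 = 3 ∨ Fintype.card (GaloisField p d) % 8 = 5 := by
      obtain ⟨i, rfl⟩ : ∃ i, d = 2 * i + 1 := ⟨d / 2, by omega⟩
      rw [hn, hj₀, pow_odd_mod p hpodd] at h8
      rw [hKc, pow_odd_mod p hpodd]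
      exact h8
    obtain ⟨-, hnca⟩ := nonsolvable_not_ca (F := GaloisField p d) (by omega) hK8
    refine hnca (ca_of_equiv e (hS.proper H fun hT => ?_))
    subst hT
    have hcard := Nat.card_congr e.toEquiv
    rw [Subgroup.card_top] at hcard
    have hgK := Classical.SmallIso.natCard_pslTwo (GaloisField p d)
    have hgF := Classical.SmallIso.natCard_pslTwo F
    rw [Classical.GL2.natCard_SL_two] at hgK hgF
    rw [Nat.gcd_eq_left (Nat.dvd_of_mod_eq_zero (by omega)), ← hcard] at hgK
    rw [Nat.gcd_eq_left (Nat.dvd_of_mod_eq_zero (by omega)), hgK] at hgF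
    have hlt : Fintype.card (GaloisField p d) < Fintype.card F := by
      rw [← hm]
      exact lt_self_pow₀ (Fintype.one_lt_card) hr.one_lt
    have : Fintype.card (GaloisField p d) * ((Fintype.card (GaloisField p d) - 1) * (Fintype.card (GaloisField p d) + 1)) <
        Fintype.card F * ((Fintype.card F - 1) * (Fintype.card F + 1)) :=
      Nat.mul_lt_mul'' hlt (Nat.mul_lt_mul'' (by omega) (by omega))
    omega
  right
  have hp35 : (p = 3 ∨ p = 5) ∧ d = 1 := by
    have hp3 : 3 ≤ p := by have := hpp.two_le; omega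
    have hd1 : d = 1 := by
      by_contra hne
      have : p ^ 3 ≤ p ^ d := Nat.pow_le_pow_right (by omega) (by omega)
      have : 3 ^ 3 ≤ p ^ 3 := Nat.pow_le_pow_left hp3 3
      omega
    rw [hd1, pow_one] at hsmall
    exact ⟨by omega, hd1⟩
  refine ⟨r, hr, hr2, ?_⟩
  obtain ⟨hp', rfl⟩ := hp35
  rw [hn, hd, mul_one]
  rcases hp' with rfl | rfl
  · exact Or.inl rfl
  · exact Or.inr rfl

end Cfsg.Agent.MinNonCA.Converse
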