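import Cfsg.Agent.Lib.MinNonCA.Basic
import Cfsg.Agent.Lib.Transfer.Frobenius

/-!
# Central elements of a non-abelian Sylow subgroup are weakly closed

In a group all of whose proper subgroups are CA and whose normal `p`-subgroups are central, an element of
the centre of a non-abelian Sylow `p`-subgroup has no other conjugate in that subgroup.  (No fusion theorem
is needed: if `y` is another one and `D` is a Sylow subgroup of the abelian group `C(z) ∩ C(y)`, the normaliser
of `D` contains a `p`-element centralising `z` but not `y` and one centralising `y` but not `z`.)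
-/

set_option autoImplicit false
set_option linter.unusedSectionVars false
set_option linter.style.haveILetI false

namespace Cfsg.Agent.MinNonCA

open Subgroup

universe u

variable {G : Type u} [Group G] [Finite G] {p : ℕ} [hp : Fact p.Prime]

/-- In the centraliser of `z`, an abelian `p`-group containing `z` and not Sylow is normalised by a
`p`-element of the centraliser outside it. -/
theorem exists_moving {z y : G} {D : Subgroup G} (T : Sylow p G)
    (hT : ∀ t ∈ (T : Subgroup G), t * z = z * t) (hTna : ¬ IsMulCommutative (T : Subgroup G))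
    (hDp : IsPGroup p D) (hDz : ∀ d ∈ D, d * z = z * d) (hDy : ∀ d ∈ D, d * y = y * d)
    (hDab : ∀ a ∈ D, ∀ b ∈ D, a * b = b * a)
    (hmax : ∀ E : Subgroup G, IsPGroup p E → D ≤ E → (∀ e ∈ E, e * z = z * e ∧ e * y = y * e) → E ≤ D) :
    ∃ w ∈ normalizer (D : Set G), w * z = z * w ∧ w * y ≠ y * w := by
  set C := centralizer ({z} : Set G) with hC
  have hTC : (T : Subgroup G) ≤ C := fun t ht => mem_cent.2 (hT t ht)
  obtain ⟨Q, hQ⟩ := ((hDp.comap_of_injective C.subtype C.subtype_injective) :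
    IsPGroup p (D.subgroupOf C)).exists_le_sylow
  set T₀ : Sylow p C := T.subtype hTC
  obtain ⟨c, hc⟩ := MulAction.exists_smul_eq C T₀ Q
  -- the image of `Q` in `G`
  set P : Subgroup G := (Q : Subgroup C).map C.subtype with hP
  have hPp : IsPGroup p P := Q.2.map _
  have hDP : D ≤ P := fun d hd =>
    mem_map.2 ⟨⟨d, mem_cent.2 (hDz d hd)⟩, hQ (mem_subgroupOf.2 hd), rfl⟩
  have hPna : ¬ ∀ a ∈ P, ∀ b ∈ P, a * b = b * a := by
    intro h
    refine hTna (isMulCommutative_iff'.2 fun a ha b hb => ?_)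
    have hm : ∀ t, (ht : t ∈ (T : Subgroup G)) → (c : G) * t * (c : G)⁻¹ ∈ P := fun t ht => by
      refine mem_map.2 ⟨c * ⟨t, hTC ht⟩ * c⁻¹, ?_, by simp⟩
      rw [← hc, Sylow.coe_subgroup_smul]
      exact ⟨⟨t, hTC ht⟩, mem_subgroupOf.2 ht, rfl⟩
    have h2 := h _ (hm a ha) _ (hm b hb)
    rw [conj_mul, conj_mul] at h2
    exact mul_left_cancel (mul_right_cancel h2)
  have hlt : D < P := lt_of_le_of_ne hDP fun e => hPna (e ▸ hDab)
  obtain ⟨w, ⟨hwP, hwN⟩, hwD⟩ := SetLike.exists_of_lt (Cfsg.Agent.Transfer.Frobenius.lt_inf_normalizer hPp hlt)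
  have hwz : w * z = z * w := mem_cent.1 (map_subtype_le _ hwP)
  refine ⟨w, hwN, hwz, fun hwy => hwD (hmax (D ⊔ zpowers w) (hPp.to_le (sup_le hDP (zpowers_le.2 hwP)))
    le_sup_left ?_ (mem_sup_right (mem_zpowers w)))⟩
  intro e he
  have hle : D ⊔ zpowers w ≤ centralizer ({z} : Set G) ⊓ centralizer ({y} : Set G) :=
    sup_le (fun d hd => ⟨mem_cent.2 (hDz d hd), mem_cent.2 (hDy d hd)⟩)
      (zpowers_le.2 ⟨mem_cent.2 hwz, mem_cent.2 hwy⟩)
  exact ⟨mem_cent.1 (hle he).1, mem_cent.1 (hle he).2⟩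

/-- A central element of a non-abelian Sylow subgroup is weakly closed in it. -/
theorem eq_of_conj_mem_sylow (hCA : ∀ H : Subgroup G, H ≠ ⊤ → CA H)
    (hN : ∀ N : Subgroup G, N.Normal → IsPGroup p N → N ≤ center G) (T : Sylow p G)
    (hTna : ¬ IsMulCommutative (T : Subgroup G)) {z : G} (hzT : z ∈ (T : Subgroup G))
    (hz : ∀ t ∈ (T : Subgroup G), t * z = z * t) {g : G} (hg : g * z * g⁻¹ ∈ (T : Subgroup G)) :
    g * z * g⁻¹ = z := by
  by_cases hzc : z ∈ center G
  · rw [mem_center_iff.1 hzc g, mul_inv_cancel_right]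
  have key : ∀ {H : Subgroup G}, H ≠ ⊤ → ∀ {x w a b : G}, x ∈ H → w ∈ H → w * x ≠ x * w →
      a ∈ H → a * x = x * a → b ∈ H → b * x = x * b → a * b = b * a := fun {H} hH {x w a b} hx hw hwx ha hax hb hbx =>
    congrArg Subtype.val ((hCA H hH).comm (x := ⟨x, hx⟩) (y := ⟨w, hw⟩) (a := ⟨a, ha⟩) (b := ⟨b, hb⟩)
      (fun e => hwx (congrArg Subtype.val e).symm) (Subtype.ext hax) (Subtype.ext hbx))
  set y := g * z * g⁻¹ with hy
  by_contra hne
  have hNne : ∀ D : Subgroup G, IsPGroup p D → (∃ d ∈ D, d ∉ center G) →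
      normalizer (D : Set G) ≠ ⊤ := fun D hD ⟨d, hd, hdc⟩ htop =>
    hdc (hN D (normalizer_eq_top_iff.1 htop) hD hd)
  have hCz : centralizer ({z} : Set G) ≠ ⊤ := fun e =>
    hzc (mem_center_iff.2 fun k => mem_cent.1 (e ▸ mem_top k))
  by_cases hyT : ∀ t ∈ (T : Subgroup G), t * y = y * t
  · -- fusion in the normaliser of the Sylow subgroup
    obtain ⟨n, hn, he⟩ := T.conj_eq_normalizer_conj_of_mem_centralizer z g⁻¹ (mem_centralizer_iff.2 hz)
      (mem_centralizer_iff.2 fun t ht => by rw [inv_inv]; exact hyT t ht)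
    rw [inv_inv] at he
    obtain ⟨a, ha, b, hb, hab⟩ : ∃ a ∈ (T : Subgroup G), ∃ b ∈ (T : Subgroup G), a * b ≠ b * a := by
      rw [isMulCommutative_iff'] at hTna
      push Not at hTna
      exact hTna
    have hNT := hNne _ T.2 ⟨z, hzT, hzc⟩
    have hc : n * z = z * n := Classical.byContradiction fun hnz =>
      hab (key hNT (le_normalizer hzT) hn hnz (le_normalizer ha) (hz a ha) (le_normalizer hb) (hz b hb))
    refine hne ?_
    rw [hy, he, mul_assoc, ← hc, inv_mul_cancel_left]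
  · push Not at hyT
    obtain ⟨t, ht, hty⟩ := hyT
    -- the abelian group `C(z) ∩ C(y)`
    set B := centralizer ({z} : Set G) ⊓ centralizer ({y} : Set G) with hB
    have hBab : ∀ a ∈ B, ∀ b ∈ B, a * b = b * a := fun a ha b hb =>
      key hCz (mem_cent.2 (hz y hg)) (mem_cent.2 (hz t ht)) hty ha.1 (mem_cent.1 ha.2) hb.1 (mem_cent.1 hb.2)
    obtain ⟨R, hR⟩ := ((T.2.to_le inf_le_left).comap_of_injective B.subtype B.subtype_injective :
      IsPGroup p (((T : Subgroup G) ⊓ B).subgroupOf B)).exists_le_sylow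
    set D := (R : Subgroup B).map B.subtype with hD
    have hDB : D ≤ B := map_subtype_le _
    have hmem : ∀ d ∈ (T : Subgroup G), d ∈ B → d ∈ D := fun d hdT hdB =>
      mem_map.2 ⟨⟨d, hdB⟩, hR (mem_subgroupOf.2 ⟨hdT, hdB⟩), rfl⟩
    have hzD : z ∈ D := hmem z hzT ⟨mem_cent.2 rfl, mem_cent.2 (hz y hg).symm⟩
    have hmax : ∀ E : Subgroup G, IsPGroup p E → D ≤ E →
        (∀ e ∈ E, e * z = z * e ∧ e * y = y * e) → E ≤ D := by
      intro E hE hDE hEB e he
      have hEB' : E ≤ B := fun e he => ⟨mem_cent.2 (hEB e he).1, mem_cent.2 (hEB e he).2⟩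
      have h1 : (R : Subgroup B) ≤ E.subgroupOf B := fun r hr =>
        mem_subgroupOf.2 (hDE (mem_map_of_mem _ hr))
      have h2 : E.subgroupOf B = R := R.3 (hE.comap_of_injective B.subtype B.subtype_injective) h1
      exact mem_map.2 ⟨⟨e, hEB' he⟩, h2 ▸ mem_subgroupOf.2 he, rfl⟩
    have hDab : ∀ a ∈ D, ∀ b ∈ D, a * b = b * a := fun a ha b hb => hBab a (hDB ha) b (hDB hb)
    obtain ⟨w, hwN, hwz, hwy⟩ := exists_moving T hz hTna (R.2.map _)
      (fun d hd => mem_cent.1 (hDB hd).1) (fun d hd => mem_cent.1 (hDB hd).2) hDab hmax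
    have hT' : ∀ s ∈ ((g • T : Sylow p G) : Subgroup G), s * y = y * s := by
      intro s hs
      rw [Sylow.coe_subgroup_smul] at hs
      obtain ⟨s, hs, rfl⟩ := hs
      simp only [MulDistribMulAction.toMonoidEnd_apply, MulDistribMulAction.toMonoidHom_apply,
        MulAut.smul_def, MulAut.conj_apply]
      rw [hy, conj_mul, conj_mul, hz s hs]
    have hT'na : ¬ IsMulCommutative ((g • T : Sylow p G) : Subgroup G) := by
      intro h
      refine hTna (isMulCommutative_iff'.2 fun a ha b hb => ?_)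
      have hm : ∀ s ∈ (T : Subgroup G), g * s * g⁻¹ ∈ ((g • T : Sylow p G) : Subgroup G) := fun s hs => by
        rw [Sylow.coe_subgroup_smul]; exact ⟨s, hs, rfl⟩
      have h2 := isMulCommutative_iff'.1 h _ (hm a ha) _ (hm b hb)
      rw [conj_mul, conj_mul] at h2
      exact mul_left_cancel (mul_right_cancel h2)
    obtain ⟨w', hw'N, hw'y, hw'z⟩ := exists_moving (g • T) hT' hT'na (R.2.map _)
      (fun d hd => mem_cent.1 (hDB hd).2) (fun d hd => mem_cent.1 (hDB hd).1) hDab
      (fun E hE hDE h => hmax E hE hDE fun e he => ⟨(h e he).2, (h e he).1⟩)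
    refine hwy (key (hNne D (R.2.map _) ⟨z, hzD, hzc⟩) (le_normalizer hzD) hw'N hw'z hwN hwz
      (le_normalizer (hmem y hg ?_)) (hz y hg))
    exact ⟨mem_cent.2 (hz y hg), mem_cent.2 rfl⟩

end Cfsg.Agent.MinNonCA
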