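import Cfsg.Agent.Lib.MinNonCA.ListFactsBase

/-!
# Minimal non-CA groups: the facts for the alternating group of degree seven
-/

set_option autoImplicit false
set_option linter.unusedSectionVars false

namespace Cfsg.Agent.MinNonCA.AltSeven

open Equiv Equiv.Perm

abbrev A7 := ↥(alternatingGroup (Fin 7))

def inv0 : Perm (Fin 7) := swap 0 1 * swap 2 3
def cyc3 : Perm (Fin 7) := swap 0 1 * swap 1 2
def cyc3' : Perm (Fin 7) := swap 3 4 * swap 4 5
def cyc33 : Perm (Fin 7) := cyc3 * cyc3'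
def blockSwap : Perm (Fin 7) := swap 0 3 * swap 1 4 * swap 2 5
def cyc5 : Perm (Fin 7) := swap 0 1 * swap 1 2 * swap 2 3 * swap 3 4
def cyc7 : Perm (Fin 7) := swap 0 1 * swap 1 2 * swap 2 3 * swap 3 4 * swap 4 5 * swap 5 6

theorem cycleTypes : inv0.cycleType = {2, 2} ∧ cyc3.cycleType = {3} ∧ cyc33.cycleType = {3, 3} ∧
    cyc5.cycleType = {5} ∧ cyc7.cycleType = {7} := by decide +kernel

theorem signs : sign inv0 = 1 ∧ sign cyc3 = 1 ∧ sign cyc33 = 1 ∧ sign cyc5 = 1 ∧ sign cyc7 = 1 ∧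
    sign cyc3' = 1 ∧ sign blockSwap = -1 ∧ sign (swap 0 1 * swap 3 4 : Perm (Fin 7)) = 1 := by
  decide +kernel

theorem cases_prime {x : Perm (Fin 7)} (hs : sign x = 1) (hp : (orderOf x).Prime) :
    IsConj inv0 x ∨ IsConj cyc3 x ∨ IsConj cyc33 x ∨ IsConj cyc5 x ∨ IsConj cyc7 x := by
  obtain ⟨n, hn⟩ := cycleType_prime_order hp
  have hsum : (n + 1) * orderOf x ≤ 7 := by
    have h := x.support.card_le_univ
    rw [← sum_cycleType, hn, Multiset.sum_replicate, smul_eq_mul, Fintype.card_fin] at h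
    exact h
  rw [sign_of_cycleType, hn, Multiset.sum_replicate, Multiset.card_replicate, smul_eq_mul] at hs
  obtain ⟨h2, h3, h33, h5, h7⟩ := cycleTypes
  simp only [isConj_iff_cycleType_eq, h2, h3, h33, h5, h7, hn]
  generalize orderOf x = p at hp hsum hs ⊢
  have hp2 := hp.two_le
  have hn3 : n ≤ 2 := by nlinarith
  have hp7 : p ≤ 7 := by nlinarith
  interval_cases n <;> interval_cases p <;>
    first
    | decide
    | (exfalso; omega)
    | (exfalso; revert hs; decide)
    | (exfalso; norm_num at hp)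

theorem orderOf_of_conj (c s : Perm (Fin 7)) : orderOf (c * s * c⁻¹) = orderOf s :=
  (MulAut.conj c).orderOf_eq s

theorem commute_apply {g s : Perm (Fin 7)} (h : g * s = s * g) (i : Fin 7) : g (s i) = s (g i) :=
  DFunLike.congr_fun h i

theorem apply_pow {g s : Perm (Fin 7)} (h : g * s = s * g) (n : ℕ) (i : Fin 7) :
    g ((s ^ n) i) = (s ^ n) (g i) :=
  DFunLike.congr_fun ((show Commute g s from h).pow_right n).eq i

/-- The centraliser of a seven-cycle is abelian. -/
theorem comm_seven {g h : Perm (Fin 7)} (hg : g * cyc7 = cyc7 * g) (hh : h * cyc7 = cyc7 * h) :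
    g * h = h * g := by
  have horb : ∀ i : Fin 7, ∃ k : Fin 7, (cyc7 ^ (k : ℕ)) 0 = i := by decide +kernel
  refine Equiv.ext fun i => ?_
  obtain ⟨k, rfl⟩ := horb i
  obtain ⟨a, ha⟩ := horb (g 0)
  obtain ⟨b, hb⟩ := horb (h 0)
  simp only [Perm.coe_mul, Function.comp_apply, apply_pow hg, apply_pow hh]
  rw [← ha, ← hb, apply_pow hg, apply_pow hh, ← ha, ← hb]
  have e := DFunLike.congr_fun (pow_mul_comm cyc7 (b : ℕ) (a : ℕ)) 0
  exact congrArg _ e

/-- The centraliser of a five-cycle is abelian. -/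
theorem comm_five {g h : Perm (Fin 7)} (hg : g * cyc5 = cyc5 * g) (hh : h * cyc5 = cyc5 * h) :
    g * h = h * g := by
  have horb : ∀ i : Fin 7, cyc5 i ≠ i → ∃ k : Fin 5, (cyc5 ^ (k : ℕ)) 0 = i := by decide +kernel
  have hout : ∀ i : Fin 7, cyc5 i = i → i = 5 ∨ i = 6 := by decide +kernel
  have move : ∀ {g : Perm (Fin 7)}, g * cyc5 = cyc5 * g → ∀ i, cyc5 (g i) = g i ↔ cyc5 i = i :=
    fun {g} hg i => by rw [← commute_apply hg, g.injective.eq_iff]
  refine Equiv.ext fun i => ?_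
  by_cases hi : cyc5 i = i
  · have hg5 : cyc5 5 = 5 := by decide +kernel
    have hg6 : cyc5 6 = 6 := by decide +kernel
    have two : ∀ {g : Perm (Fin 7)}, g * cyc5 = cyc5 * g → g 5 = 5 ∧ g 6 = 6 ∨ g 5 = 6 ∧ g 6 = 5 := by
      intro g hg
      rcases hout _ ((move hg 5).2 hg5) with a | a <;> rcases hout _ ((move hg 6).2 hg6) with b | b
      · exact absurd (g.injective (a.trans b.symm)) (by decide)
      · exact Or.inl ⟨a, b⟩
      · exact Or.inr ⟨a, b⟩
      · exact absurd (g.injective (a.trans b.symm)) (by decide)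
    rcases hout i hi with rfl | rfl <;> rcases two hg with ⟨a, b⟩ | ⟨a, b⟩ <;>
      rcases two hh with ⟨c, d⟩ | ⟨c, d⟩ <;> simp [a, b, c, d]
  · obtain ⟨k, rfl⟩ := horb i hi
    have h0 : cyc5 0 ≠ 0 := by decide +kernel
    obtain ⟨a, ha⟩ := horb (g 0) (fun e => h0 ((move hg 0).1 e))
    obtain ⟨b, hb⟩ := horb (h 0) (fun e => h0 ((move hh 0).1 e))
    simp only [Perm.coe_mul, Function.comp_apply, apply_pow hg, apply_pow hh]
    rw [← ha, ← hb, apply_pow hg, apply_pow hh, ← ha, ← hb]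
    have e := DFunLike.congr_fun (pow_mul_comm cyc5 (b : ℕ) (a : ℕ)) 0
    exact congrArg _ e

/-- The values of a map commuting with the product of two three-cycles. -/
def tab (a b : Fin 7) : Fin 7 → Fin 7 :=
  ![a, cyc33 a, cyc33 (cyc33 a), b, cyc33 b, cyc33 (cyc33 b), 6]

theorem tab_block : ∀ a b : Fin 7, a.val < 3 → Function.Injective (tab a b) →
    ∃ i j : Fin 3, ∀ k, tab a b k = (cyc3 ^ (i : ℕ) * cyc3' ^ (j : ℕ)) k := by
  decide +kernel

theorem cent_block {g : Perm (Fin 7)} (hg : g * cyc33 = cyc33 * g) (h0 : (g 0).val < 3) :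
    ∃ i j : ℕ, g = cyc3 ^ i * cyc3' ^ j := by
  have e1 : cyc33 0 = 1 ∧ cyc33 1 = 2 ∧ cyc33 3 = 4 ∧ cyc33 4 = 5 ∧ cyc33 6 = 6 ∧
      ∀ i, cyc33 i = i → i = 6 := by decide +kernel
  obtain ⟨a1, a2, a4, a5, a6, hfix⟩ := e1
  have h6 : g 6 = 6 := hfix _ (by rw [← commute_apply hg, a6])
  have heq : (g : Fin 7 → Fin 7) = tab (g 0) (g 3) := by
    funext i
    fin_cases i
    · rfl
    · show g 1 = cyc33 (g 0)
      rw [← commute_apply hg, a1]
    · show g 2 = cyc33 (cyc33 (g 0))
      rw [← commute_apply hg, a1, ← commute_apply hg, a2]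
    · rfl
    · show g 4 = cyc33 (g 3)
      rw [← commute_apply hg, a4]
    · show g 5 = cyc33 (cyc33 (g 3))
      rw [← commute_apply hg, a4, ← commute_apply hg, a5]
    · exact h6
  obtain ⟨i, j, hij⟩ := tab_block (g 0) (g 3) h0 (heq ▸ g.injective)
  exact ⟨i, j, Equiv.ext fun k => by rw [congrFun heq k, hij]⟩

theorem cent_double {g : Perm (Fin 7)} (hg : g * cyc33 = cyc33 * g) (hs : sign g = 1) :
    ∃ i j : ℕ, g = cyc3 ^ i * cyc3' ^ j := by
  by_cases h0 : (g 0).val < 3
  · exact cent_block hg h0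
  exfalso
  have hw : blockSwap * cyc33 = cyc33 * blockSwap := by decide +kernel
  have hne : g 0 ≠ 6 := fun e => by
    have h := commute_apply hg 0
    have h6 : cyc33 6 = 6 := by decide +kernel
    have h01 : cyc33 0 ≠ 0 := by decide +kernel
    rw [e, h6] at h
    exact h01 (g.injective (h.trans e.symm))
  have hb : ∀ i : Fin 7, ¬ i.val < 3 → i ≠ 6 → (blockSwap i).val < 3 := by decide +kernel
  have hwg : (blockSwap * g) * cyc33 = cyc33 * (blockSwap * g) := by
    rw [mul_assoc, hg, ← mul_assoc, hw, mul_assoc]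
  obtain ⟨i, j, hij⟩ := cent_block hwg (hb _ h0 hne)
  obtain ⟨-, h3, -, -, -, h3', hbs, -⟩ := signs
  have := congrArg sign hij
  rw [map_mul, map_mul, map_pow, map_pow, h3, h3', hbs, hs, one_pow, one_pow, mul_one] at this
  exact absurd this (by decide)

theorem comm_double {g h : Perm (Fin 7)} (hg : g * cyc33 = cyc33 * g) (hgs : sign g = 1)
    (hh : h * cyc33 = cyc33 * h) (hhs : sign h = 1) : g * h = h * g := by
  obtain ⟨i, j, rfl⟩ := cent_double hg hgs
  obtain ⟨k, l, rfl⟩ := cent_double hh hhs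
  have hc : Commute cyc3 cyc3' := show cyc3 * cyc3' = cyc3' * cyc3 by decide +kernel
  exact (((Commute.refl cyc3).pow_pow i k).mul_right (hc.pow_pow i l)).mul_left
    ((hc.symm.pow_pow j k).mul_right ((Commute.refl cyc3').pow_pow j l)) |>.eq

theorem not_coatom_three (x : A7) (hx : (x : Perm (Fin 7)) = cyc3) :
    ¬ IsCoatom (Subgroup.centralizer ({x} : Set A7)) := by
  let H : Subgroup A7 :=
    { carrier := {g | ∀ i, cyc3 ((g : Perm (Fin 7)) i) = (g : Perm (Fin 7)) i ↔ cyc3 i = i}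
      one_mem' := fun i => Iff.rfl
      mul_mem' := fun {a b} ha hb i => (ha _).trans (hb i)
      inv_mem' := fun {a} ha i => by
        have h := ha ((a : Perm (Fin 7))⁻¹ i)
        rw [show (a : Perm (Fin 7)) ((a : Perm (Fin 7))⁻¹ i) = i from Equiv.apply_symm_apply _ _] at h
        exact h.symm }
  intro hc
  have hle : Subgroup.centralizer ({x} : Set A7) ≤ H := fun g hg i => by
    have h := congrArg (fun y : A7 => (y : Perm (Fin 7))) (Subgroup.mem_centralizer_singleton_iff.1 hg)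
    simp only [Subgroup.coe_mul, hx] at h
    rw [← commute_apply h, (g : Perm (Fin 7)).injective.eq_iff]
  let a : A7 := ⟨swap 0 1 * swap 3 4, mem_alternatingGroup.2 signs.2.2.2.2.2.2.2⟩
  let b : A7 := ⟨swap 2 3 * swap 3 4, mem_alternatingGroup.2 (by decide +kernel)⟩
  have haH : a ∈ H := by
    show ∀ i, cyc3 ((swap 0 1 * swap 3 4 : Perm (Fin 7)) i) = (swap 0 1 * swap 3 4 : Perm (Fin 7)) i ↔
      cyc3 i = i
    decide +kernel
  have haC : a ∉ Subgroup.centralizer ({x} : Set A7) := fun h => by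
    have h' := congrArg (fun y : A7 => (y : Perm (Fin 7))) (Subgroup.mem_centralizer_singleton_iff.1 h)
    simp only [Subgroup.coe_mul, hx] at h'
    exact absurd h' (by decide +kernel)
  have hbH : b ∉ H := by
    show ¬ ∀ i, cyc3 ((swap 2 3 * swap 3 4 : Perm (Fin 7)) i) = (swap 2 3 * swap 3 4 : Perm (Fin 7)) i ↔
      cyc3 i = i
    decide +kernel
  exact hbH (hc.2 H (lt_of_le_of_ne hle (fun e => haC (e ▸ haH))) ▸ Subgroup.mem_top b)

theorem centComm_of {x : A7} {s : Perm (Fin 7)} (hx : (x : Perm (Fin 7)) = s)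
    (h : ∀ g k : Perm (Fin 7), g * s = s * g → sign g = 1 → k * s = s * k → sign k = 1 → g * k = k * g) :
    CentComm x := fun a b ha hb => by
  have ha' := congrArg (fun y : A7 => (y : Perm (Fin 7))) ha
  have hb' := congrArg (fun y : A7 => (y : Perm (Fin 7))) hb
  simp only [Subgroup.coe_mul, hx] at ha' hb'
  exact Subtype.ext (h _ _ ha' (mem_alternatingGroup.1 a.2) hb' (mem_alternatingGroup.1 b.2))

theorem isConj_invol {y : A7} (hy : orderOf y = 2) :
    IsConj (⟨inv0, mem_alternatingGroup.2 signs.1⟩ : A7) y := by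
  have hs : sign (y : Perm (Fin 7)) = 1 := mem_alternatingGroup.1 y.2
  have ho : orderOf (y : Perm (Fin 7)) = 2 := (Subgroup.orderOf_coe y).trans hy
  obtain ⟨h2, h3, h33, h5, h7⟩ := cycleTypes
  have hne : ∀ s : Perm (Fin 7), orderOf s ≠ 2 → ¬ IsConj s (y : Perm (Fin 7)) := fun s hs' hc => by
    obtain ⟨c, hc⟩ := isConj_iff.1 hc
    exact hs' (by rw [← ho, ← hc, orderOf_of_conj])
  have hord : orderOf cyc3 ≠ 2 ∧ orderOf cyc33 ≠ 2 ∧ orderOf cyc5 ≠ 2 ∧ orderOf cyc7 ≠ 2 := by
    refine ⟨?_, ?_, ?_, ?_⟩ <;> rw [← lcm_cycleType] <;> simp [h3, h33, h5, h7]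
  have hc : IsConj inv0 (y : Perm (Fin 7)) := by
    rcases cases_prime hs (ho ▸ Nat.prime_two) with h | h | h | h | h
    · exact h
    all_goals exact absurd h (hne _ (by first
      | exact hord.1 | exact hord.2.1 | exact hord.2.2.1 | exact hord.2.2.2))
  obtain ⟨c, hc⟩ := isConj_iff.1 hc
  obtain ⟨d, hd, hdc⟩ : ∃ d : Perm (Fin 7), sign d = 1 ∧ d * inv0 * d⁻¹ = (y : Perm (Fin 7)) := by
    rcases Int.units_eq_one_or (sign c) with h | h
    · exact ⟨c, h, hc⟩
    · refine ⟨c * swap 0 1, by rw [map_mul, h, sign_swap (by decide)]; decide, ?_⟩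
      rw [mul_inv_rev, swap_inv, ← hc]
      have e : swap (0 : Fin 7) 1 * inv0 * swap 0 1 = inv0 := by decide +kernel
      calc c * swap 0 1 * inv0 * (swap 0 1 * c⁻¹) = c * (swap 0 1 * inv0 * swap 0 1) * c⁻¹ := by
            simp only [mul_assoc]
        _ = c * inv0 * c⁻¹ := by rw [e]
  exact isConj_iff.2 ⟨⟨d, mem_alternatingGroup.2 hd⟩, Subtype.ext (by simpa using hdc)⟩

theorem centGood {x : A7} (hp : (orderOf x).Prime) : CentGood x := by
  have hs : sign (x : Perm (Fin 7)) = 1 := mem_alternatingGroup.1 x.2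
  by_cases h2 : orderOf x = 2
  · exact centGood_of_invol (fun y z hy hz => (isConj_invol hy).symm.trans (isConj_invol hz)) h2
  have key : ∀ {s : Perm (Fin 7)}, IsConj s (x : Perm (Fin 7)) →
      ∃ (e : A7 ≃* A7), ((e x : A7) : Perm (Fin 7)) = s := by
    intro s h
    obtain ⟨c, hc⟩ := isConj_iff.1 h
    refine ⟨(MulAut.conjNormal (H := alternatingGroup (Fin 7)) c⁻¹), ?_⟩
    rw [MulAut.conjNormal_apply, ← hc, inv_inv]
    group
  rcases cases_prime hs (by rw [Subgroup.orderOf_coe]; exact hp) with h | h | h | h | h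
  · exfalso
    obtain ⟨c, hc⟩ := isConj_iff.1 h
    exact h2 (by rw [← Subgroup.orderOf_coe, ← hc, orderOf_of_conj, ← lcm_cycleType, cycleTypes.1]; simp)
  · obtain ⟨e, he⟩ := key h
    exact CentGood.of_equiv e fun hc => absurd hc (not_coatom_three _ he)
  · obtain ⟨e, he⟩ := key h
    exact CentGood.of_equiv e (centGood_of_centComm (centComm_of he fun g k a b c d => comm_double a b c d))
  · obtain ⟨e, he⟩ := key h
    exact CentGood.of_equiv e (centGood_of_centComm (centComm_of he fun g k a _ c _ => comm_five a c))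
  · obtain ⟨e, he⟩ := key h
    exact CentGood.of_equiv e (centGood_of_centComm (centComm_of he fun g k a _ c _ => comm_seven a c))

theorem not_twoComm : ¬ TwoComm A7 := by
  refine MinNonCA.not_twoComm (a := ⟨inv0, mem_alternatingGroup.2 signs.1⟩)
    (b := ⟨swap 1 2 * swap 4 5, mem_alternatingGroup.2 (by decide +kernel)⟩) (k := 2) ?_ ?_ ?_ ?_
  · exact Subtype.ext (show inv0 * inv0 = 1 by decide +kernel)
  · exact Subtype.ext (show (swap 1 2 * swap 4 5 : Perm (Fin 7)) * (swap 1 2 * swap 4 5) = 1 by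
      decide +kernel)
  · exact Subtype.ext (show (inv0 * (swap 1 2 * swap 4 5)) ^ 2 ^ 2 = 1 by decide +kernel)
  · intro h
    have h' := congrArg (fun y : A7 => (y : Perm (Fin 7))) h
    simp only [Subgroup.coe_mul] at h'
    exact absurd h' (by decide +kernel)

end Cfsg.Agent.MinNonCA.AltSeven
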