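import Cfsg.Agent.Lib.MinNonCA.ListFactsBase
import Cfsg.Agent.Lib.SuzukiLocal.PlaneModel

/-!
# Minimal non-CA groups: the facts for `PSL(3,4)`
-/

set_option autoImplicit false
set_option linter.unusedSectionVars false

namespace Cfsg.Agent.MinNonCA

open Matrix Cfsg.Agent.SuzukiLocal

variable {F : Type} [Field F] [Fintype F]

local notation "P3" => Matrix.ProjectiveSpecialLinearGroup (Fin 3) F

theorem plane_centComm_three (h4 : Fintype.card F = 4) {x : P3} (hx : orderOf x = 3) : CentComm x := by
  haveI : Fact (Nat.Prime 3) := ⟨Nat.prime_three⟩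
  have h20 : Nat.card P3 = 20160 := PlaneModel.card_eq h4 (MulEquiv.refl _)
  set C := Subgroup.centralizer ({x} : Set P3)
  have hd : Nat.card C ∣ 20160 := h20 ▸ C.card_subgroup_dvd_card
  have hC : IsPGroup 3 C := by
    refine IsPGroup.of_card (n := (Nat.card C).primeFactorsList.length)
      (Nat.eq_prime_pow_of_unique_prime_dvd Nat.card_pos.ne' ?_)
    intro q hq hqC
    haveI := Fact.mk hq
    obtain ⟨g, hg⟩ := exists_prime_orderOf_dvd_card' q hqC
    by_contra hne
    have hcomm : Commute (g : P3) x := Subgroup.mem_centralizer_singleton_iff.1 g.2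
    have hgq : orderOf (g : P3) = q := (Subgroup.orderOf_coe g).trans hg
    have ho : orderOf ((g : P3) * x) = q * 3 := by
      rw [hcomm.orderOf_mul_eq_mul_orderOf_of_coprime, hgq, hx]
      rw [hgq, hx]
      exact (Nat.coprime_primes hq Nat.prime_three).2 hne
    have hmem := PlaneModel.psl_order_mem h4 ((g : P3) * x)
    have h2 := hq.two_le
    rw [ho] at hmem
    simp only [List.mem_cons, List.not_mem_nil, or_false] at hmem
    omega
  obtain ⟨n, hn⟩ := IsPGroup.iff_card.1 hC
  rw [hn] at hd
  have hn2 : n ≤ 2 := by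
    by_contra h
    exact absurd ((pow_dvd_pow 3 (show 3 ≤ n by omega)).trans hd) (by norm_num)
  interval_cases n
  · haveI : Subsingleton C := (Nat.card_eq_one_iff_unique.1 (by simpa using hn)).1
    exact centComm_of_cyclic isCyclic_of_subsingleton
  · exact centComm_of_prime Nat.prime_three (by simpa using hn)
  · exact centComm_of_prime_sq Nat.prime_three hn

theorem plane_centGood (h4 : Fintype.card F = 4) {x : P3} (hp : (orderOf x).Prime) : CentGood x := by
  have hmem := PlaneModel.psl_order_mem h4 x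
  simp only [List.mem_cons, List.not_mem_nil, or_false] at hmem
  rcases hmem with h | h | h | h | h | h
  · exact absurd (h ▸ hp) Nat.not_prime_one
  · exact centGood_of_invol (fun y z hy hz => PlaneModel.involutions_conj h4 (MulEquiv.refl _) hy hz) h
  · exact centGood_of_centComm (plane_centComm_three h4 h)
  · exact absurd (h ▸ hp) (by norm_num)
  all_goals
    refine centGood_of_centComm (centComm_of_prime hp ?_)
    exact PlaneModel.card_centralizer h4 (MulEquiv.refl _) (by omega)

theorem plane_not_twoComm (h4 : Fintype.card F = 4) : ¬ TwoComm P3 := by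
  haveI : CharP F 2 :=
    CharTwo.of_one_ne_zero_of_two_eq_zero one_ne_zero (CIT.Gen.two_eq_zero_four h4)
  have h2 : (2 : F) = 0 := CharTwo.two_eq_zero
  let A : SpecialLinearGroup (Fin 3) F := ⟨!![1, 1, 0; 0, 1, 0; 0, 0, 1], by simp [det_fin_three]⟩
  let B : SpecialLinearGroup (Fin 3) F := ⟨!![1, 0, 0; 0, 1, 1; 0, 0, 1], by simp [det_fin_three]⟩
  let p : SpecialLinearGroup (Fin 3) F →* P3 := QuotientGroup.mk' _
  have h11 : (1 : F) + 1 = 0 := CharTwo.add_self_eq_zero 1
  have hA' : (A : Matrix (Fin 3) (Fin 3) F) = !![1, 1, 0; 0, 1, 0; 0, 0, 1] := rfl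
  have hB' : (B : Matrix (Fin 3) (Fin 3) F) = !![1, 0, 0; 0, 1, 1; 0, 0, 1] := rfl
  have hA : A * A = 1 := by
    apply Subtype.ext
    rw [Matrix.SpecialLinearGroup.coe_mul, Matrix.SpecialLinearGroup.coe_one, hA']
    ext i j
    fin_cases i <;> fin_cases j <;> simp [Matrix.mul_apply, Fin.sum_univ_three, h11]
  have hB : B * B = 1 := by
    apply Subtype.ext
    rw [Matrix.SpecialLinearGroup.coe_mul, Matrix.SpecialLinearGroup.coe_one, hB']
    ext i j
    fin_cases i <;> fin_cases j <;> simp [Matrix.mul_apply, Fin.sum_univ_three, h11]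
  have hAB : (A * B) ^ 2 ^ 2 = 1 := by
    apply Subtype.ext
    rw [Matrix.SpecialLinearGroup.coe_pow, Matrix.SpecialLinearGroup.coe_mul,
      Matrix.SpecialLinearGroup.coe_one, hA', hB']
    ext i j
    fin_cases i <;> fin_cases j <;> simp [pow_succ, Matrix.mul_apply, Fin.sum_univ_three, h11]
  refine not_twoComm (a := p A) (b := p B) (k := 2) (by rw [← map_mul, hA, map_one])
    (by rw [← map_mul, hB, map_one]) (by rw [← map_mul, ← map_pow, hAB, map_one]) ?_
  rw [← map_mul, ← map_mul]
  intro e
  have hc : (A * B)⁻¹ * (B * A) ∈ Subgroup.center (SpecialLinearGroup (Fin 3) F) := QuotientGroup.eq.1 e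
  obtain ⟨r, -, hr⟩ := Matrix.SpecialLinearGroup.mem_center_iff.1 hc
  have h : ((B * A : SpecialLinearGroup (Fin 3) F) : Matrix (Fin 3) (Fin 3) F) =
      ((A * B : SpecialLinearGroup (Fin 3) F) : Matrix (Fin 3) (Fin 3) F) * Matrix.scalar (Fin 3) r := by
    rw [hr, ← Matrix.SpecialLinearGroup.coe_mul, mul_inv_cancel_left]
  rw [Matrix.SpecialLinearGroup.coe_mul, Matrix.SpecialLinearGroup.coe_mul, hA', hB'] at h
  have h00 := congrFun (congrFun h 0) 0
  have h02 := congrFun (congrFun h 0) 2
  simp [Matrix.mul_apply, Fin.sum_univ_three, Matrix.scalar_apply] at h00 h02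
  rw [← h00] at h02
  exact one_ne_zero h02.symm

end Cfsg.Agent.MinNonCA
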