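import Cfsg.Agent.Lib.MinNonCA.ListFactsBase
import Cfsg.Agent.Lib.Suzuki.Binary.Products
import Cfsg.Agent.Lib.Suzuki.Partition
import Cfsg.Agent.Lib.Suzuki.LieEquiv

/-!
# Minimal non-CA groups: the facts for the Suzuki groups
-/

set_option autoImplicit false
set_option linter.unusedSectionVars false

namespace Cfsg.Agent.MinNonCA

open Cfsg.Agent.Suzuki

variable {F : Type} [Field F] [Fintype F] [CharP F 2] {m : ℕ}
variable (hm : 1 ≤ m) (hF : Fintype.card F = 2 ^ (2 * m + 1))

include hm hF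

theorem sz_centComm_odd {g : Cfsg.Sz F m} (hg : g ≠ 1) (ho : Odd (orderOf g)) : CentComm g := by
  rcases element_cases hm hF hg with hf | ⟨h, a, b, -, he⟩ | ⟨h, s, hs, he⟩
  · exact centComm_of_cyclic (fpf_torus hm hF hf).1
  · exfalso
    haveI : Fact (Nat.Prime 2) := ⟨Nat.prime_two⟩
    have hU : IsPGroup 2 (U (m := m) hF) := IsPGroup.of_card (n := 2 * (2 * m + 1))
      (by rw [card_U hF, hF, ← pow_mul, mul_comm])
    obtain ⟨k, hk⟩ := IsPGroup.iff_orderOf.1 hU (⟨tr hF a b, a, b, rfl⟩ : U (m := m) hF)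
    rw [← Subgroup.orderOf_coe] at hk
    simp only at hk
    rw [← he, orderOf_conj_eq] at hk
    rw [hk, Nat.odd_pow_iff (fun e => hg (orderOf_eq_one_iff.1 (by rw [hk, e, pow_zero])))] at ho
    exact absurd ho (by decide)
  · have hc : CentComm (h * g * h⁻¹) := by
      rw [he]
      exact centComm_of_cyclic (centralizer_tor hm hF hs ▸ torusSubgroup_cyclic hF)
    have := hc.map_equiv (MulAut.conj h).symm
    rwa [← MulAut.conj_apply, MulEquiv.symm_apply_apply] at this

theorem sz_centGood {g : Cfsg.Sz F m} (hp : (orderOf g).Prime) : CentGood g := by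
  have hg : g ≠ 1 := fun e => by rw [e, orderOf_one] at hp; exact Nat.not_prime_one hp
  rcases hp.eq_two_or_odd' with h | h
  · exact centGood_of_invol (fun y z hy hz => Suzuki.Binary.isConj_involutions hm hF hy hz) h
  · exact centGood_of_centComm (sz_centComm_odd hm hF hg h)

theorem sz_not_twoComm : ¬ TwoComm (Cfsg.Sz F m) := by
  intro h
  obtain ⟨P⟩ : Nonempty (Sylow 2 (Cfsg.Sz F m)) := inferInstance
  obtain ⟨hc, -, -, hz⟩ := sylow_structure hm hF P
  have htop : Subgroup.center P = ⊤ := eq_top_iff.2 fun x _ => Subgroup.mem_center_iff.2 fun y =>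
    Subtype.ext (h P P.isPGroup' _ y.2 _ x.2)
  rw [htop, Subgroup.card_top, hc] at hz
  have := Fintype.one_lt_card (α := F)
  rw [sq] at hz
  nlinarith

omit [CharP F 2] hm hF in
theorem charP_two (h : Fintype.card F = 2 ^ (2 * m + 1)) : CharP F 2 := by
  haveI : Fact (Nat.Prime 2) := ⟨Nat.prime_two⟩
  exact charP_of_card_eq_prime_pow h

end Cfsg.Agent.MinNonCA
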