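import Cfsg.Agent.Lib.MinNonCA.Defs
import Cfsg.Agent.Lib.MinNonCA.ListFactsLinear
import Cfsg.Agent.Lib.MinNonCA.ListFactsSuzuki
import Cfsg.Agent.Lib.MinNonCA.ListFactsPlane
import Cfsg.Agent.Lib.MinNonCA.ListFactsAlt

/-!
# Minimal non-CA groups: the two facts on the listed groups
-/

set_option autoImplicit false

namespace Cfsg.Agent.MinNonCA

universe u

theorem maxCentFact : MaxCentFact.{u} := by
  intro G _ _ hL x hp hc hn
  suffices h : CentGood x from h hc hn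
  rcases hL with ⟨F, _, _, -, ⟨e⟩⟩ | ⟨F, _, _, m, hm, hF, ⟨e⟩⟩ | ⟨⟨e⟩⟩ | ⟨F, _, _, h4, ⟨e⟩⟩
  · exact CentGood.of_equiv e (psl_centGood (by rw [MulEquiv.orderOf_eq]; exact hp))
  · haveI := charP_two hF
    obtain ⟨f⟩ := Suzuki.lieEquiv hm hF
    exact CentGood.of_equiv (e.trans f.symm)
      (sz_centGood hm hF (by rw [MulEquiv.orderOf_eq]; exact hp))
  · exact CentGood.of_equiv e (AltSeven.centGood (by rw [MulEquiv.orderOf_eq]; exact hp))
  · exact CentGood.of_equiv e (plane_centGood h4 (by rw [MulEquiv.orderOf_eq]; exact hp))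

theorem abelianSylowFact : AbelianSylowFact.{u} := by
  intro G _ _ hL T hT
  have hG := TwoComm.of_sylow T hT
  rcases hL with ⟨F, iF, iT, h3, ⟨e⟩⟩ | ⟨F, _, _, m, hm, hF, ⟨e⟩⟩ | ⟨⟨e⟩⟩ | ⟨F, _, _, h4, ⟨e⟩⟩
  · rcases psl_abelianSylow h3 (hG.map_equiv e) with h | ⟨h5, h8⟩
    · refine Or.inl fun x hx => CentComm.isMulCommutative ?_
      have := (h (e x) (fun h1 => hx (e.injective (by rw [h1, map_one])))).map_equiv e.symm
      rwa [MulEquiv.symm_apply_apply] at this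
    · exact Or.inr ⟨F, iF, iT, h5, h8, ⟨e⟩⟩
  · haveI := charP_two hF
    obtain ⟨f⟩ := Suzuki.lieEquiv hm hF
    exact absurd (hG.map_equiv (e.trans f.symm)) (sz_not_twoComm hm hF)
  · exact absurd (hG.map_equiv e) AltSeven.not_twoComm
  · exact absurd (hG.map_equiv e) (plane_not_twoComm h4)

end Cfsg.Agent.MinNonCA
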