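import Mathlib

/-!
# Minimal non-CA groups: general lemmas for the facts on the listed groups
-/

set_option autoImplicit false

namespace Cfsg.Agent.MinNonCA

universe u v

open Subgroup

/-- The centraliser of `x` is abelian, said on elements. -/
def CentComm {G : Type*} [Group G] (x : G) : Prop :=
  ∀ a b : G, a * x = x * a → b * x = x * b → a * b = b * a

/-- The conclusion of `MaxCentFact` at one element. -/
def CentGood {G : Type*} [Group G] (x : G) : Prop :=
  IsCoatom (centralizer ({x} : Set G)) → ¬ IsMulCommutative (centralizer ({x} : Set G)) →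
    orderOf x = 2 ∧ ∃ T : Sylow 2 G, (T : Subgroup G) ≤ centralizer ({x} : Set G)

/-- All two-subgroups are abelian, said on elements. -/
def TwoComm (G : Type*) [Group G] : Prop :=
  ∀ (P : Subgroup G), IsPGroup 2 P → ∀ a ∈ P, ∀ b ∈ P, a * b = b * a

variable {G : Type u} [Group G] {M : Type v} [Group M]

theorem CentComm.isMulCommutative {x : G} (h : CentComm x) :
    IsMulCommutative (centralizer ({x} : Set G)) :=
  ⟨⟨fun a b => Subtype.ext (h a b (mem_centralizer_singleton_iff.1 a.2)
    (mem_centralizer_singleton_iff.1 b.2))⟩⟩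

theorem centComm_of_isMulCommutative {x : G} (h : IsMulCommutative (centralizer ({x} : Set G))) :
    CentComm x := fun a b ha hb => by
  exact congrArg Subtype.val (h.1.1 ⟨a, mem_centralizer_singleton_iff.2 ha⟩
    ⟨b, mem_centralizer_singleton_iff.2 hb⟩)

theorem centGood_of_centComm {x : G} (h : CentComm x) : CentGood x :=
  fun _ hn => absurd h.isMulCommutative hn

theorem CentComm.map_equiv {x : G} (e : G ≃* M) (h : CentComm x) : CentComm (e x) := by
  intro a b ha hb
  apply e.symm.injective
  rw [map_mul, map_mul]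
  refine h _ _ ?_ ?_ <;> apply e.injective <;> simpa

theorem map_centralizer_singleton (e : G ≃* M) (x : G) :
    (centralizer ({x} : Set G)).map e.toMonoidHom = centralizer ({e x} : Set M) := by
  ext m
  rw [mem_map_equiv, mem_centralizer_singleton_iff, mem_centralizer_singleton_iff]
  exact ⟨fun h => by simpa using congrArg e h, fun h => e.injective (by simpa using h)⟩

theorem isCoatom_centralizer_equiv (e : G ≃* M) (x : G) :
    IsCoatom (centralizer ({x} : Set G)) ↔ IsCoatom (centralizer ({e x} : Set M)) := by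
  rw [← map_centralizer_singleton e x]
  exact ((OrderIso.isCoatom_iff e.mapSubgroup _)).symm

theorem CentGood.of_equiv {x : G} (e : G ≃* M) (h : CentGood (e x)) : CentGood x := by
  intro hc hn
  have hn' : ¬ IsMulCommutative (centralizer ({e x} : Set M)) := fun hm => hn (by
    have := (centComm_of_isMulCommutative hm).map_equiv e.symm
    rw [MulEquiv.symm_apply_apply] at this
    exact this.isMulCommutative)
  obtain ⟨h2, T, hT⟩ := h ((isCoatom_centralizer_equiv e x).1 hc) hn'
  refine ⟨by rw [← MulEquiv.orderOf_eq e x]; exact h2,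
    T.comapOfInjective e.toMonoidHom e.injective ?_, ?_⟩
  · intro y _
    exact ⟨e.symm y, e.apply_symm_apply y⟩
  · intro y hy
    have h' := hT (show e y ∈ (T : Subgroup M) from hy)
    rw [mem_centralizer_singleton_iff, ← map_mul, ← map_mul] at h'
    exact mem_centralizer_singleton_iff.2 (e.injective h')

theorem TwoComm.of_sylow [Finite G] (T : Sylow 2 G) (h : IsMulCommutative (T : Subgroup G)) :
    TwoComm G := by
  intro P hP a ha b hb
  obtain ⟨Q, hQ⟩ := hP.exists_le_sylow
  haveI : Fact (Nat.Prime 2) := ⟨Nat.prime_two⟩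
  have e := T.equiv Q
  have hcomm := h.1.1 (e.symm ⟨a, hQ ha⟩) (e.symm ⟨b, hQ hb⟩)
  have := congrArg (fun z : T => ((e z : Q) : G)) hcomm
  simpa using this

theorem TwoComm.map_equiv (e : G ≃* M) (h : TwoComm G) : TwoComm M := by
  intro P hP a ha b hb
  apply e.symm.injective
  rw [map_mul, map_mul]
  exact h (P.map e.symm.toMonoidHom) (hP.map _) _ (mem_map_of_mem _ ha) _ (mem_map_of_mem _ hb)

/-- With one class of involutions each involution is central in a Sylow 2-subgroup. -/
theorem centGood_of_invol [Finite G] (h1 : ∀ y z : G, orderOf y = 2 → orderOf z = 2 → IsConj y z)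
    {x : G} (hx : orderOf x = 2) : CentGood x := by
  intro _ _
  haveI : Fact (Nat.Prime 2) := ⟨Nat.prime_two⟩
  refine ⟨hx, ?_⟩
  obtain ⟨P⟩ : Nonempty (Sylow 2 G) := inferInstance
  have hd : 2 ∣ Nat.card P := P.dvd_card_of_dvd_card (hx ▸ orderOf_dvd_natCard x)
  haveI : Nontrivial P := Finite.one_lt_card_iff_nontrivial.1
    (lt_of_lt_of_le one_lt_two (Nat.le_of_dvd Nat.card_pos hd))
  haveI := IsPGroup.center_nontrivial P.isPGroup'
  obtain ⟨z, hz⟩ := exists_prime_orderOf_dvd_card' (G := Subgroup.center P) 2 (by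
    obtain ⟨n, hn⟩ := IsPGroup.iff_card.1 (P.isPGroup'.to_subgroup (Subgroup.center P))
    rw [hn]
    refine dvd_pow_self 2 fun e => ?_
    rw [e, pow_zero] at hn
    exact absurd hn (Finite.one_lt_card (α := Subgroup.center P)).ne')
  have hzo : orderOf ((z : P) : G) = 2 := by rw [Subgroup.orderOf_coe, Subgroup.orderOf_coe, hz]
  have hle : (P : Subgroup G) ≤ centralizer ({((z : P) : G)} : Set G) := fun u hu =>
    mem_centralizer_singleton_iff.2 (congrArg Subtype.val (mem_center_iff.1 z.2 ⟨u, hu⟩))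
  obtain ⟨c, hc⟩ := isConj_iff.1 (h1 _ _ hzo hx)
  refine ⟨P.comapOfInjective (MulAut.conj c⁻¹).toMonoidHom (MulAut.conj c⁻¹).injective ?_, ?_⟩
  · intro y _
    exact ⟨(MulAut.conj c⁻¹).symm y, (MulAut.conj c⁻¹).apply_symm_apply y⟩
  · intro y hy
    have h' := mem_centralizer_singleton_iff.1 (hle (show MulAut.conj c⁻¹ y ∈ (P : Subgroup G) from hy))
    rw [MulAut.conj_apply, inv_inv] at h'
    rw [mem_centralizer_singleton_iff, ← hc]
    calc y * (c * ((z : P) : G) * c⁻¹) = c * (c⁻¹ * y * c * ((z : P) : G)) * c⁻¹ := by group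
      _ = c * (((z : P) : G) * (c⁻¹ * y * c)) * c⁻¹ := by rw [h']
      _ = c * ((z : P) : G) * c⁻¹ * y := by group

theorem centComm_of_cyclic {x : G} (h : IsCyclic (centralizer ({x} : Set G))) : CentComm x := by
  haveI := h
  letI : CommGroup (centralizer ({x} : Set G)) := IsCyclic.commGroup
  intro a b ha hb
  exact congrArg Subtype.val (mul_comm (⟨a, mem_centralizer_singleton_iff.2 ha⟩ :
    centralizer ({x} : Set G)) ⟨b, mem_centralizer_singleton_iff.2 hb⟩)

theorem centComm_of_prime {x : G} {p : ℕ} (hp : p.Prime)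
    (h : Nat.card (centralizer ({x} : Set G)) = p) : CentComm x := by
  haveI := Fact.mk hp
  exact centComm_of_cyclic (isCyclic_of_prime_card h)

theorem centComm_of_prime_sq {x : G} {p : ℕ} (hp : p.Prime)
    (h : Nat.card (centralizer ({x} : Set G)) = p ^ 2) : CentComm x := by
  haveI := Fact.mk hp
  exact centComm_of_isMulCommutative (IsPGroup.isMulCommutative_of_card_eq_prime_sq h)

/-- It is enough to look at the elements of prime order. -/
theorem centComm_of_prime_elements [Finite G] (h : ∀ y : G, (orderOf y).Prime → CentComm y) {x : G}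
    (hx : x ≠ 1) : CentComm x := by
  obtain ⟨p, hp, hpd⟩ := Nat.exists_prime_and_dvd (fun e => hx (orderOf_eq_one_iff.1 e) : orderOf x ≠ 1)
  intro a b ha hb
  refine h (x ^ (orderOf x / p)) (by rw [orderOf_pow_orderOf_div (orderOf_pos x).ne' hpd]; exact hp) a b
    ((show Commute a x from ha).pow_right _).eq ((show Commute b x from hb).pow_right _).eq

theorem closure_pair_isPGroup {a b : G} (ha : a * a = 1) (hb : b * b = 1) {k : ℕ}
    (hab : (a * b) ^ 2 ^ k = 1) : IsPGroup 2 (closure ({a, b} : Set G)) := by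
  haveI : Fact (Nat.Prime 2) := ⟨Nat.prime_two⟩
  have hR : IsPGroup 2 (zpowers (a * b)) := by
    rintro ⟨g, hg⟩
    obtain ⟨n, rfl⟩ := mem_zpowers_iff.1 hg
    refine ⟨k, Subtype.ext ?_⟩
    show ((a * b) ^ n) ^ 2 ^ k = 1
    rw [← zpow_natCast, ← zpow_mul, mul_comm, zpow_mul, zpow_natCast, hab, one_zpow]
  have hA : IsPGroup 2 (zpowers a) := by
    rintro ⟨g, hg⟩
    obtain ⟨n, rfl⟩ := mem_zpowers_iff.1 hg
    refine ⟨1, Subtype.ext ?_⟩
    show (a ^ n) ^ 2 ^ 1 = 1
    rw [pow_one, ← zpow_natCast, ← zpow_mul, mul_comm, zpow_mul, zpow_natCast, pow_two, ha, one_zpow]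
  have hai : a⁻¹ = a := inv_eq_of_mul_eq_one_right ha
  have hbi : b⁻¹ = b := inv_eq_of_mul_eq_one_right hb
  have hnorm : zpowers a ≤ normalizer ((zpowers (a * b) : Subgroup G) : Set G) := by
    rw [zpowers_le, mem_set_normalizer_iff]
    intro g
    have key : ∀ y ∈ zpowers (a * b), a * y * a⁻¹ ∈ zpowers (a * b) := by
      intro y hy
      obtain ⟨n, rfl⟩ := mem_zpowers_iff.1 hy
      rw [← conj_zpow]
      refine Subgroup.zpow_mem _ ?_ n
      rw [show a * (a * b) * a⁻¹ = (a * b)⁻¹ by rw [mul_inv_rev, hai, hbi, ← mul_assoc, ha, one_mul]]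
      exact inv_mem (mem_zpowers _)
    refine ⟨key g, fun h => ?_⟩
    have h' := key _ h
    rw [show a * (a * g * a⁻¹) * a⁻¹ = (a * a) * g * (a * a)⁻¹ by group, ha] at h'
    simpa using h'
  have hsup : IsPGroup 2 (zpowers a ⊔ zpowers (a * b) : Subgroup G) :=
    hA.to_sup_of_normal_right' hR hnorm
  refine hsup.to_le ((closure_le _).2 ?_)
  rintro g (hg | hg)
  · rw [hg]
    exact le_sup_left (b := zpowers (a * b)) (mem_zpowers a)
  · rw [Set.mem_singleton_iff.1 hg]
    have h1 : a * b ∈ (zpowers a ⊔ zpowers (a * b) : Subgroup G) :=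
      le_sup_right (a := zpowers a) (mem_zpowers _)
    have h2 : a ∈ (zpowers a ⊔ zpowers (a * b) : Subgroup G) :=
      le_sup_left (b := zpowers (a * b)) (mem_zpowers a)
    have h3 := mul_mem (inv_mem h2) h1
    rwa [inv_mul_cancel_left] at h3

theorem not_twoComm {a b : G} (ha : a * a = 1) (hb : b * b = 1) {k : ℕ} (hab : (a * b) ^ 2 ^ k = 1)
    (hne : a * b ≠ b * a) : ¬ TwoComm G := fun h =>
  hne (h _ (closure_pair_isPGroup ha hb hab) a (subset_closure (by simp)) b (subset_closure (by simp)))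

end Cfsg.Agent.MinNonCA
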