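import Cfsg.Agent.Lib.MinNonCA.PerfectQuot
import Cfsg.Agent.Lib.Classical.Linear

/-!
# A perfect minimal non-CA group is quasisimple

In a CA group a perfect subgroup and a solvable normal subgroup commute, so a Frattini argument makes every
proper normal subgroup solvable; the solvable radical is then central, as the involutions outside it would
all invert it modulo the centre.
-/

set_option autoImplicit false
set_option linter.style.haveILetI false
set_option linter.unusedSectionVars false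

namespace Cfsg.Agent.MinNonCA

open Subgroup
open scoped commutatorElement
open Cfsg.Agent.FrobeniusSystem (isSolvable_of_le isSolvable_sup_normal isSolvable_of_sylow_two_central
  isSolvable_normalizer_sylow_two)

universe u

namespace Radical

variable {G : Type u} [Group G] [Finite G]

/-- A nonsolvable normal subgroup contains a nontrivial perfect one, normal in the group. -/
theorem exists_perfect_le {N : Subgroup G} (hN : N.Normal) (hns : ¬ Group.IsSolvable N) :
    ∃ P : Subgroup G, P ≤ N ∧ P.Normal ∧ Nontrivial P ∧ commutator P = ⊤ := by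
  classical
  obtain ⟨P, ⟨hPn, hPN, hPs⟩, hmin⟩ := wellFounded_lt.has_min
    {P : Subgroup G | P.Normal ∧ P ≤ N ∧ ¬ Group.IsSolvable P} ⟨N, hN, le_rfl, hns⟩
  haveI := hPn
  have hne : Nontrivial P := by
    by_contra h
    rw [not_nontrivial_iff_subsingleton] at h
    exact hPs inferInstance
  refine ⟨P, hPN, hPn, hne, by_contra fun hne' => hPs ?_⟩
  set M := (commutator P).map P.subtype
  have hlt : M < P := lt_of_le_of_ne (map_subtype_le _) fun e => hne'
    (map_injective P.subtype_injective (e.trans (by rw [← MonoidHom.range_eq_map, range_subtype])))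
  haveI : Group.IsSolvable M :=
    by_contra fun h => hmin M ⟨inferInstance, hlt.le.trans hPN, h⟩ hlt
  haveI : Group.IsSolvable (commutator P) :=
    Group.isSolvable_of_surjective (f := ((commutator P).equivMapOfInjective P.subtype
      P.subtype_injective).symm.toMonoidHom) (MulEquiv.surjective _)
  exact Group.isSolvable_of_ker_le_range (commutator P).subtype (Abelianization.of (G := P))
    (by rw [Abelianization.ker_of, range_subtype])

/-- In a perfect CA group the proper normal subgroups are central. -/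
theorem le_center_of_ne_top {P : Type u} [Group P] [Finite P] [Nontrivial P] (h : CA P)
    (hperf : commutator P = ⊤) {N : Subgroup P} [hN : N.Normal] (hne : N ≠ ⊤) : N ≤ center P := by
  obtain ⟨F, _, _, hF, ⟨e⟩⟩ := PerfectQuot.main h hperf
  haveI : IsSimpleGroup (Matrix.ProjectiveSpecialLinearGroup (Fin 2) F) :=
    Cfsg.Agent.Classical.Linear.isSimpleGroup_PSL_fin le_rfl fun _ => hF
  haveI : IsSimpleGroup (P ⧸ center P) := e.isSimpleGroup
  have hM : (N.map (QuotientGroup.mk' (center P))).Normal := hN.map _ (QuotientGroup.mk'_surjective _)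
  rcases hM.eq_bot_or_eq_top with hb | ht
  · rwa [Subgroup.map_eq_bot_iff, QuotientGroup.ker_mk'] at hb
  · refine absurd (eq_top_iff.2 ?_) hne
    rw [← hperf, _root_.commutator_def]
    refine commutator_le.2 fun a _ b _ => ?_
    have hdec : ∀ a : P, ∃ n ∈ N, n⁻¹ * a ∈ center P := fun a => by
      obtain ⟨n, hn, e⟩ := ht.ge (mem_top (QuotientGroup.mk' (center P) a))
      exact ⟨n, hn, QuotientGroup.eq.1 e⟩
    obtain ⟨n, hn, hza⟩ := hdec a
    obtain ⟨za, rfl⟩ : ∃ za, a = n * za := ⟨_, (mul_inv_cancel_left n a).symm⟩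
    rw [inv_mul_cancel_left] at hza
    have ca := mem_center_iff.1 hza
    rw [commutatorElement_def]
    have e : n * za * b * (n * za)⁻¹ * b⁻¹ = n * (b * n⁻¹ * b⁻¹) := by
      calc _ = n * (za * b) * za⁻¹ * n⁻¹ * b⁻¹ := by group
        _ = n * (b * za) * za⁻¹ * n⁻¹ * b⁻¹ := by rw [ca b]
        _ = _ := by group
    rw [e]
    exact mul_mem hn (hN.conj_mem _ (inv_mem hn) b)

/-- A nonsolvable CA group has abelian solvable normal subgroups. -/
theorem comm_of_normal_solvable (h : CA G) (hns : ¬ Group.IsSolvable G) {U : Subgroup G}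
    (hUn : U.Normal) (hU : Group.IsSolvable U) {a b : G} (ha : a ∈ U) (hb : b ∈ U) : a * b = b * a := by
  haveI := hUn
  obtain ⟨Q, -, hQn, hQne, hQ⟩ := exists_perfect_le (N := (⊤ : Subgroup G)) inferInstance fun hs => hns
    (haveI := hs; Group.isSolvable_of_surjective (f := (topEquiv (G := G)).toMonoidHom) (topEquiv (G := G)).surjective)
  haveI := hQn
  haveI := hQne
  have hQs := PerfectQuot.not_solvable_of_perfect hQ
  have hUQ : U.subgroupOf Q ≤ center Q := by
    haveI : (U.subgroupOf Q).Normal := hUn.comap _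
    refine le_center_of_ne_top (h.subgroup Q) hQ fun e => hQs ?_
    exact isSolvable_of_le hU (subgroupOf_eq_top.1 e)
  have hQc : ∀ u ∈ U, ∀ q ∈ Q, q * u = u * q := by
    intro u hu q hq
    let ψ : Q →* center Q := MonoidHom.mk'
      (fun q => ⟨⟨u * q * u⁻¹ * (q : G)⁻¹, mul_mem (hQn.conj_mem _ q.2 u) (inv_mem q.2)⟩,
        hUQ (mem_subgroupOf.2 (by
          show u * q * u⁻¹ * (q : G)⁻¹ ∈ U
          rw [show u * (q : G) * u⁻¹ * (q : G)⁻¹ = u * ((q : G) * u⁻¹ * (q : G)⁻¹) by group]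
          exact mul_mem hu (hUn.conj_mem _ (inv_mem hu) _)))⟩)
      fun p q => Subtype.ext (Subtype.ext (by
        show u * ((p : G) * q) * u⁻¹ * ((p : G) * q)⁻¹ =
          (u * p * u⁻¹ * (p : G)⁻¹) * (u * q * u⁻¹ * (q : G)⁻¹)
        have hc := congrArg Subtype.val (mem_center_iff.1 (hUQ (x :=
          ⟨u * q * u⁻¹ * (q : G)⁻¹, mul_mem (hQn.conj_mem _ q.2 u) (inv_mem q.2)⟩)
          (mem_subgroupOf.2 (by
            show u * q * u⁻¹ * (q : G)⁻¹ ∈ U
            rw [show u * (q : G) * u⁻¹ * (q : G)⁻¹ = u * ((q : G) * u⁻¹ * (q : G)⁻¹) by group]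
            exact mul_mem hu (hUn.conj_mem _ (inv_mem hu) _)))) p)
        simp only [Subgroup.coe_mul] at hc
        calc _ = (u * p * u⁻¹) * (u * q * u⁻¹ * (q : G)⁻¹) * (p : G)⁻¹ := by group
          _ = (u * p * u⁻¹ * (p : G)⁻¹) * ((p : G) * (u * q * u⁻¹ * (q : G)⁻¹)) * (p : G)⁻¹ := by group
          _ = (u * p * u⁻¹ * (p : G)⁻¹) * ((u * q * u⁻¹ * (q : G)⁻¹) * (p : G)) * (p : G)⁻¹ := by rw [hc]
          _ = _ := by group))
    have h1 : ψ ⟨q, hq⟩ = 1 := by
      have hle : commutator Q ≤ ψ.ker := by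
        rw [_root_.commutator_def]
        exact commutator_le.2 fun p _ r _ => by
          rw [MonoidHom.mem_ker, map_commutatorElement, commutatorElement_eq_one_iff_mul_comm]
          exact Subtype.ext (mem_center_iff.1 (ψ r).2 _)
      exact hle (hQ ▸ mem_top _)
    have h2 : u * q * u⁻¹ * q⁻¹ = 1 := congrArg (fun z : center Q => ((z : Q) : G)) h1
    exact (mul_inv_eq_iff_eq_mul.1 (mul_inv_eq_one.1 h2)).symm
  refine Classical.byContradiction fun hab => hQs (Group.isSolvable_of_comm fun p q => Subtype.ext ?_)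
  exact h.comm (x := a) (y := b) hab (hQc a ha p p.2) (hQc a ha q q.2)

variable (hS : Setup G) (hperf : commutator G = ⊤)
include hS hperf

theorem nonsolvable_quot {N : Subgroup G} [N.Normal] (hne : N ≠ ⊤) : ¬ Group.IsSolvable (G ⧸ N) := by
  obtain ⟨g, -, hg⟩ := SetLike.exists_of_lt (lt_top_iff_ne_top.2 hne)
  haveI : Nontrivial (G ⧸ N) := ⟨⟨g, 1, fun e => hg ((QuotientGroup.eq_one_iff g).1 e)⟩⟩
  refine PerfectQuot.not_solvable_of_perfect ?_
  rw [_root_.commutator_def, ← Subgroup.map_top_of_surjective _ (QuotientGroup.mk'_surjective N),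
    ← Subgroup.map_commutator, ← _root_.commutator_def, hperf]

/-- All proper normal subgroups are solvable. -/
theorem solvable_of_normal {N : Subgroup G} [hN : N.Normal] (hne : N ≠ ⊤) : Group.IsSolvable N := by
  by_contra hns
  haveI : Fact (Nat.Prime 2) := ⟨Nat.prime_two⟩
  obtain ⟨P, hPN, hPn, hPne, hP⟩ := exists_perfect_le hN hns
  haveI := hPn
  haveI := hPne
  have hPs := PerfectQuot.not_solvable_of_perfect hP
  obtain ⟨T⟩ : Nonempty (Sylow 2 P) := inferInstance
  set T' := (T : Subgroup P).map P.subtype with hT'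
  set K := normalizer (T' : Set G) with hK
  have htop : K ⊔ P = ⊤ := Sylow.normalizer_sup_eq_top T
  have hmem : ∀ p : P, (p : G) ∈ K ↔ p ∈ normalizer ((T : Subgroup P) : Set P) := by
    intro p
    have hi : ∀ y : P, (y : G) ∈ T' ↔ y ∈ (T : Subgroup P) := fun y =>
      ⟨fun ⟨z, hz, e⟩ => Subtype.ext e ▸ hz, fun hy => ⟨y, hy, rfl⟩⟩
    rw [hK, mem_normalizer_iff, mem_normalizer_iff]
    refine ⟨fun h y => ?_, fun h g => ?_⟩
    · exact ((hi y).symm.trans (h y)).trans (hi (p * y * p⁻¹))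
    · by_cases hg : g ∈ P
      · exact ((hi ⟨g, hg⟩).trans (h ⟨g, hg⟩)).trans (hi (p * ⟨g, hg⟩ * p⁻¹)).symm
      · refine iff_of_false (fun h' => hg (map_subtype_le _ h')) fun h' => hg ?_
        have := (hPn.conj_mem _ (map_subtype_le _ h') (p : G)⁻¹)
        simpa [mul_assoc] using this
  have hKne : K ≠ ⊤ := fun e => by
    haveI := isSolvable_normalizer_sylow_two T
    exact hPs (Group.isSolvable_of_surjective
      (f := (normalizer ((T : Subgroup P) : Set P)).subtype)
      fun p => ⟨⟨p, (hmem p).1 (e ▸ mem_top (p : G))⟩, rfl⟩)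
  have hKs : ¬ Group.IsSolvable K := fun hs => nonsolvable_quot hS hperf hne (by
    haveI := hs
    refine Group.isSolvable_of_surjective (f := (QuotientGroup.mk' N).comp K.subtype) fun q => ?_
    obtain ⟨g, rfl⟩ := QuotientGroup.mk'_surjective N q
    obtain ⟨k, hk, p, hp, rfl⟩ := mem_sup_of_normal_right.1 ((htop ▸ mem_top g) : g ∈ K ⊔ P)
    exact ⟨⟨k, hk⟩, (QuotientGroup.eq.2 (by rw [inv_mul_cancel_left]; exact hPN hp) : (k : G ⧸ N) = _)⟩)
  have hUn : (P.subgroupOf K).Normal := hPn.comap _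
  have hUs : Group.IsSolvable (P.subgroupOf K) := by
    haveI := isSolvable_normalizer_sylow_two T
    refine Group.isSolvable_of_isSolvable_injective
      (f := MonoidHom.mk' (fun w : P.subgroupOf K =>
        (⟨⟨((w : K) : G), mem_subgroupOf.1 w.2⟩, (hmem _).1 (w : K).2⟩ : normalizer ((T : Subgroup P) : Set P)))
        fun a b => rfl) fun a b e => ?_
    exact Subtype.ext (Subtype.ext (congrArg (fun z : normalizer ((T : Subgroup P) : Set P) => ((z : P) : G)) e))
  refine hPs (isSolvable_of_sylow_two_central T fun g hg => mem_centralizer_iff.2 fun t ht => Subtype.ext (Subgroup.coe_mul P t g ▸ Subgroup.coe_mul P g t ▸ ?_))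
  exact congrArg Subtype.val (comm_of_normal_solvable (hS.proper K hKne) hKs hUn hUs
    (a := ⟨t, (hmem t).2 (le_normalizer ht)⟩) (b := ⟨g, (hmem g).2 hg⟩)
    (mem_subgroupOf.2 t.2) (mem_subgroupOf.2 g.2))

omit hperf in
/-- A solvable normal subgroup with an element of its centraliser: a proper subgroup. -/
theorem sup_zpowers_ne_top {M : Subgroup G} [M.Normal] (hM : Group.IsSolvable M) (g : G) :
    zpowers g ⊔ M ≠ ⊤ :=
  hS.ne_top_of_isSolvable (isSolvable_sup_normal (Group.isSolvable_of_comm fun a b => mul_comm' a b) hM)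

end Radical

/-- The piece `Radical` of S4369. -/
theorem quasisimple_fact : QuasiSimpleFact.{u} := by
  classical
  intro G _ _ hS hperf N hNn hNne
  by_contra hNc
  haveI := hNn
  -- the radical
  obtain ⟨M, ⟨hMn, hMne⟩, hNM, hmax⟩ : ∃ M : Subgroup G, (M.Normal ∧ M ≠ ⊤) ∧ N ≤ M ∧
      ∀ L : Subgroup G, L.Normal → L ≠ ⊤ → L ≤ M := by
    obtain ⟨M, ⟨hMn, hMne, hNM⟩, hmax⟩ := wellFounded_gt.has_min
      {M : Subgroup G | M.Normal ∧ M ≠ ⊤ ∧ N ≤ M} ⟨N, hNn, hNne, le_rfl⟩
    haveI := hMn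
    refine ⟨M, ⟨hMn, hMne⟩, hNM, fun L hL hLne => ?_⟩
    haveI := hL
    by_contra hLM
    exact hmax (L ⊔ M) ⟨inferInstance, hS.ne_top_of_isSolvable (isSolvable_sup_normal
      (Radical.solvable_of_normal hS hperf hLne) (Radical.solvable_of_normal hS hperf hMne)),
      hNM.trans le_sup_right⟩ (lt_of_le_of_ne le_sup_right fun e => hLM (e ▸ le_sup_left))
  haveI := hMn
  have hMs := Radical.solvable_of_normal hS hperf hMne
  obtain ⟨x, hx⟩ := hS.exists_bad
  have hMx := hS.le_centralizer_of_normal hx hMs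
  have hCne : centralizer (M : Set G) ≠ ⊤ := fun e => hNc (hNM.trans (centralizer_eq_top_iff_subset.1 e))
  have hCM : centralizer (M : Set G) ≤ M := hmax _ inferInstance hCne
  have hxM : x ∈ centralizer (M : Set G) := mem_centralizer_iff.2 fun m hm => mem_cent.1 (hMx hm)
  -- `M` is abelian
  have hMab : ∀ a ∈ M, ∀ b ∈ M, a * b = b * a := by
    intro a ha b hb
    by_contra hab
    refine hx.1 (mem_center_iff.2 fun g => ?_)
    exact hS.central_of_noncomm (Radical.sup_zpowers_ne_top hS hMs g) (mem_sup_right (hCM hxM))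
      (mem_sup_right ha) (mem_cent.1 (hMx ha)) (mem_sup_right hb) (mem_cent.1 (hMx hb)) hab
      (mem_sup_left (mem_zpowers g))
  have hMC : M ≤ centralizer (M : Set G) := fun a ha => mem_centralizer_iff.2 fun b hb => hMab b hb a ha
  -- the involutions over `M`
  let S : Set G := {s | s ∉ M ∧ s * s ∈ M}
  have hSne : ∃ s, s ∈ S := by
    have hns := Radical.nonsolvable_quot hS hperf hMne
    have hev : 2 ∣ Nat.card (G ⧸ M) :=
      even_iff_two_dvd.1 (Nat.not_odd_iff_even.1 fun ho => hns (Cfsg.Agent.S0205.result ho))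
    haveI : Fact (Nat.Prime 2) := ⟨Nat.prime_two⟩
    obtain ⟨q, hq⟩ := exists_prime_orderOf_dvd_card' (G := G ⧸ M) 2 hev
    obtain ⟨s, rfl⟩ := QuotientGroup.mk'_surjective M q
    refine ⟨s, fun hs => ?_, ?_⟩
    · rw [show QuotientGroup.mk' M s = 1 from (QuotientGroup.eq_one_iff s).2 hs, orderOf_one] at hq
      exact absurd hq (by decide)
    · refine (QuotientGroup.eq_one_iff (s * s)).1 ?_
      have := pow_orderOf_eq_one (QuotientGroup.mk' M s)
      rwa [hq, pow_two] at this
  have hSconj : ∀ s ∈ S, ∀ g : G, g * s * g⁻¹ ∈ S := by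
    refine fun s hs g => ⟨fun h => hs.1 ?_, ?_⟩
    · have := hMn.conj_mem _ h g⁻¹
      simpa [mul_assoc] using this
    · rw [conj_mul]; exact hMn.conj_mem _ hs.2 g
  -- the fixed points of an involution are central
  have hfix : ∀ s ∈ S, ∀ v ∈ M, v * s = s * v → v ∈ center G := by
    intro s hs v hv hvs
    have key : ∀ s' ∈ S, s' * v = v * s' := by
      intro s' hs'
      by_contra hne
      set A := zpowers (s * s') ⊔ M with hAdef
      have hAs : Group.IsSolvable A :=
        isSolvable_sup_normal (Group.isSolvable_of_comm fun a b => mul_comm' a b) hMs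
      have hfwd : ∀ k ∈ A, s * k * s⁻¹ ∈ A := by
        intro k hk
        refine (?_ : A.map (MulAut.conj s).toMonoidHom ≤ A) ⟨k, hk, rfl⟩
        rw [hAdef, Subgroup.map_sup, sup_le_iff, MonoidHom.map_zpowers, zpowers_le]
        refine ⟨?_, fun _ ⟨m, hm, e⟩ => mem_sup_right (e ▸ hMn.conj_mem m hm s)⟩
        show s * (s * s') * s⁻¹ ∈ A
        rw [show s * (s * s') * s⁻¹ = (s * s) * (s' * s') * (s * s')⁻¹ by group]
        exact mul_mem (mem_sup_right (mul_mem hs.2 hs'.2)) (inv_mem (mem_sup_left (mem_zpowers _)))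
      have hnor : zpowers s ≤ normalizer (A : Set G) := by
        rw [zpowers_le]
        refine mem_normalizer_iff.2 fun k => ⟨hfwd k, fun hk => ?_⟩
        have h2 : (s * s) ∈ A := mem_sup_right hs.2
        have h3 : (s * s)⁻¹ * (s * (s * k * s⁻¹) * s⁻¹) * (s * s) ∈ A :=
          mul_mem (mul_mem (inv_mem h2) (hfwd _ hk)) h2
        simpa [mul_assoc] using h3
      have hK : Group.IsSolvable ↥(A ⊔ zpowers s) :=
        Cfsg.Agent.Components.Signalizer.isSolvable_sup hnor hAs
          (Group.isSolvable_of_comm fun a b => mul_comm' a b)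
      have hs'K : s' ∈ A ⊔ zpowers s := by
        rw [← inv_mul_cancel_left s s']
        exact mul_mem (inv_mem (mem_sup_right (mem_zpowers s))) (mem_sup_left (mem_sup_left (mem_zpowers _)))
      refine hs.1 (hCM (mem_centralizer_iff.2 fun m hm => ?_))
      exact hS.comm_of_noncentral (hS.ne_top_of_isSolvable hK) (x := v) (y := s')
        (mem_sup_left (mem_sup_right hv)) hs'K (Ne.symm hne)
        (mem_sup_left (mem_sup_right hm)) (hMab m hm v hv) (mem_sup_right (mem_zpowers s)) hvs.symm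
    have htop : normalClosure S = ⊤ := by
      by_contra hne
      obtain ⟨s, hs⟩ := hSne
      exact hs.1 (hmax _ inferInstance hne (subset_normalClosure hs))
    refine mem_center_iff.2 fun g => mem_cent.1 ((htop ▸ ?_ : ⊤ ≤ centralizer ({v} : Set G)) (mem_top g))
    rw [normalClosure, closure_le]
    intro k hk
    obtain ⟨s', hs', hc⟩ := Group.mem_conjugatesOfSet_iff.1 hk
    obtain ⟨c, rfl⟩ := isConj_iff.1 hc
    exact mem_cent.2 (key _ (hSconj s' hs' c))
  -- the action modulo the centre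
  let W : Subgroup G :=
    { carrier := {g | ∀ v ∈ M, g * v * g⁻¹ * v⁻¹ ∈ center G}
      one_mem' := fun v _ => by simp
      mul_mem' := fun {g k} hg hk v hv => by
        have hc := mem_center_iff.1 (hk v hv)
        have e : g * k * v * (g * k)⁻¹ * v⁻¹ = (k * v * k⁻¹ * v⁻¹) * (g * v * g⁻¹ * v⁻¹) := by
          calc _ = g * (k * v * k⁻¹ * v⁻¹) * (v * g⁻¹ * v⁻¹) := by group
            _ = (k * v * k⁻¹ * v⁻¹) * g * (v * g⁻¹ * v⁻¹) := by rw [hc g]
            _ = _ := by group
        rw [e]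
        exact mul_mem (hk v hv) (hg v hv)
      inv_mem' := fun {g} hg v hv => by
        have hc := mem_center_iff.1 (inv_mem (hg v hv))
        have e : g⁻¹ * v * g⁻¹⁻¹ * v⁻¹ = (g * v * g⁻¹ * v⁻¹)⁻¹ := by
          calc _ = g⁻¹ * (g * v * g⁻¹ * v⁻¹)⁻¹ * g := by group
            _ = (g * v * g⁻¹ * v⁻¹)⁻¹ * g⁻¹ * g := by rw [hc g⁻¹]
            _ = _ := inv_mul_cancel_right _ _
        rw [e]
        exact inv_mem (hg v hv) }
  have hWn : W.Normal := ⟨fun g hg k v hv => by
    have hv' : k⁻¹ * v * k ∈ M := by simpa using hMn.conj_mem v hv k⁻¹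
    have hc := hg _ hv'
    have e : k * g * k⁻¹ * v * (k * g * k⁻¹)⁻¹ * v⁻¹ =
        k * (g * (k⁻¹ * v * k) * g⁻¹ * (k⁻¹ * v * k)⁻¹) * k⁻¹ := by group
    show k * g * k⁻¹ * v * (k * g * k⁻¹)⁻¹ * v⁻¹ ∈ center G
    rw [e]
    exact (inferInstance : (center G).Normal).conj_mem _ hc k⟩
  have hWne : W ≠ ⊤ := by
    intro hW
    refine hx.1 (mem_center_iff.2 fun g => ?_)
    let ψ : G →* center G := MonoidHom.mk'
      (fun g => ⟨g * x * g⁻¹ * x⁻¹, (hW ▸ mem_top g : g ∈ W) x (hCM hxM)⟩) fun a b => Subtype.ext (by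
        show a * b * x * (a * b)⁻¹ * x⁻¹ = (a * x * a⁻¹ * x⁻¹) * (b * x * b⁻¹ * x⁻¹)
        have hc := mem_center_iff.1 ((hW ▸ mem_top b : b ∈ W) x (hCM hxM))
        calc _ = a * (b * x * b⁻¹ * x⁻¹) * (x * a⁻¹ * x⁻¹) := by group
          _ = (b * x * b⁻¹ * x⁻¹) * a * (x * a⁻¹ * x⁻¹) := by rw [hc a]
          _ = (b * x * b⁻¹ * x⁻¹) * (a * x * a⁻¹ * x⁻¹) := by group
          _ = _ := (hc _).symm)
    have hle : commutator G ≤ ψ.ker := by
      rw [_root_.commutator_def]
      exact commutator_le.2 fun p _ r _ => by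
        rw [MonoidHom.mem_ker, map_commutatorElement, commutatorElement_eq_one_iff_mul_comm]
        exact Subtype.ext (mem_center_iff.1 (ψ r).2 _)
    have h1 : g * x * g⁻¹ * x⁻¹ = 1 := congrArg Subtype.val (hle (hperf ▸ mem_top g))
    exact mul_inv_eq_iff_eq_mul.1 (mul_inv_eq_one.1 h1)
  have hinv : ∀ s ∈ S, ∀ v ∈ M, s * v * s⁻¹ * v ∈ center G := by
    intro s hs v hv
    have hw : s * v * s⁻¹ ∈ M := hMn.conj_mem v hv s
    refine hfix s hs _ (mul_mem hw hv) ?_
    have h2 : s * s * v = v * (s * s) := hMab _ hs.2 v hv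
    have hcm := hMab _ hw v hv
    symm
    calc s * (s * v * s⁻¹ * v) = (s * s * v) * s⁻¹ * v := by group
      _ = (v * (s * s)) * s⁻¹ * v := by rw [h2]
      _ = v * (s * v * s⁻¹) * s := by group
      _ = s * v * s⁻¹ * v * s := by rw [← hcm]
  have hprod : ∀ s ∈ S, ∀ s' ∈ S, s⁻¹ * s' ∈ M := by
    intro s hs s' hs'
    refine hmax W hWn hWne fun v hv => ?_
    have hw : s' * v * s'⁻¹ ∈ M := hMn.conj_mem v hv s'
    have h1 := hinv s' hs' v hv
    have h2 := hinv s hs (s⁻¹ * (s' * v * s'⁻¹) * s) (by simpa using hMn.conj_mem _ hw s⁻¹)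
    rw [show s * (s⁻¹ * (s' * v * s'⁻¹) * s) * s⁻¹ = s' * v * s'⁻¹ by group] at h2
    have e : s⁻¹ * s' * v * (s⁻¹ * s')⁻¹ * v⁻¹ =
        (s' * v * s'⁻¹ * (s⁻¹ * (s' * v * s'⁻¹) * s)) * (s' * v * s'⁻¹ * v)⁻¹ := by
      have hu : s⁻¹ * (s' * v * s'⁻¹) * s ∈ M := by simpa using hMn.conj_mem _ hw s⁻¹
      calc _ = (s⁻¹ * (s' * v * s'⁻¹) * s * v⁻¹) * (s' * v * s'⁻¹) * (s' * v * s'⁻¹)⁻¹ := by group
        _ = (s' * v * s'⁻¹) * (s⁻¹ * (s' * v * s'⁻¹) * s * v⁻¹) * (s' * v * s'⁻¹)⁻¹ := by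
          rw [hMab _ (mul_mem hu (inv_mem hv)) _ hw]
        _ = _ := by group
    show s⁻¹ * s' * v * (s⁻¹ * s')⁻¹ * v⁻¹ ∈ center G
    rw [e]
    exact mul_mem h2 (inv_mem h1)
  -- one involution would span a proper normal subgroup
  obtain ⟨s, hs⟩ := hSne
  have hn : (zpowers s ⊔ M).Normal := by
    rw [← normalizer_eq_top_iff, eq_top_iff]
    intro g _
    have hgen : ∀ g : G, ∀ k ∈ zpowers s ⊔ M, g * k * g⁻¹ ∈ zpowers s ⊔ M := by
      intro g k hk
      refine (?_ : (zpowers s ⊔ M).map (MulAut.conj g).toMonoidHom ≤ _) ⟨k, hk, rfl⟩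
      rw [Subgroup.map_sup, sup_le_iff, MonoidHom.map_zpowers, zpowers_le]
      refine ⟨?_, fun _ ⟨m, hm, e⟩ => mem_sup_right (e ▸ hMn.conj_mem m hm g)⟩
      show g * s * g⁻¹ ∈ _
      rw [← mul_inv_cancel_left s (g * s * g⁻¹)]
      exact mul_mem (mem_sup_left (mem_zpowers s)) (mem_sup_right (hprod s hs _ (hSconj s hs g)))
    refine mem_normalizer_iff.2 fun k => ⟨hgen g k, fun hk => ?_⟩
    simpa [mul_assoc] using hgen g⁻¹ _ hk
  exact hs.1 (hmax _ hn (Radical.sup_zpowers_ne_top hS hMs s) (mem_sup_left (mem_zpowers s)))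

end Cfsg.Agent.MinNonCA
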