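import Cfsg.Agent.Lib.MinNonCA.Basic
import Cfsg.Agent.Lib.MinNonCA.Converse
import Cfsg.Agent.Lib.MinNonCA.Cover
import Cfsg.Agent.Lib.MinNonCA.NotPerfect
import Cfsg.Agent.Lib.MinNonCA.Radical

/-!
# Minimal non-CA groups (S4369): assembly
-/

set_option autoImplicit false

namespace Cfsg.Agent.MinNonCA

universe u

/-- The classification from the piece `Quasi`. -/
theorem main_of (hQ : QuasiFact.{u}) {G : Type u} [Group G] [Finite G] :
    Setup G ↔ ∃ (F : Type) (_ : Field F) (_ : Fintype F),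
      Nonempty (G ≃* Matrix.ProjectiveSpecialLinearGroup (Fin 2) F) ∧ Good F := by
  constructor
  · intro hS
    have hperf := NotPerfect.perfect_fact model_fact Outer.slTwoAutFact G hS
    obtain ⟨F, iF, iT, h5, h8, ⟨e⟩⟩ := hQ G hS hperf (quasisimple_fact G hS hperf)
    exact ⟨F, iF, iT, ⟨e⟩, Converse.field_fact F h5 h8 (hS.of_mulEquiv e)⟩
  · rintro ⟨F, iF, iT, ⟨e⟩, hF⟩
    exact (Converse.converse_fact F hF).of_mulEquiv e.symm

end Cfsg.Agent.MinNonCA
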