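import Cfsg.Agent.Lib.MinNonCA.Basic
import Cfsg.Agent.Lib.Suzuki.Sylow
import Cfsg.Agent.Lib.Suzuki.LieEquiv
import Cfsg.Agent.Lib.Suzuki.Field
import Cfsg.Agent.Lib.Characters.Frobenius
import Cfsg.Agent.S0068
import Cfsg.Agent.S4248
import Cfsg.Agent.S4249

/-!
# Perfect CA groups: the central quotient is `PSL(2,F)`

The images of the centralisers of the non-central elements form a partition of the central quotient, so
Suzuki's theorem applies.
-/

set_option autoImplicit false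
set_option linter.unusedSectionVars false
set_option linter.style.haveILetI false
set_option linter.style.setOption false
set_option maxHeartbeats 400000

namespace Cfsg.Agent.MinNonCA.PerfectQuot

open Subgroup

universe u

variable {P : Type u} [Group P]

/-- The component of the class of `x`. -/
def part (x : P) : Subgroup (P ⧸ center P) :=
  (centralizer ({x} : Set P)).map (QuotientGroup.mk' (center P))

theorem mk_mem_part {x y : P} : ((y : P ⧸ center P) ∈ part x) ↔ y * x = x * y := by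
  refine ⟨fun h => ?_, fun h => mem_map.2 ⟨y, mem_cent.2 h, rfl⟩⟩
  obtain ⟨w, hw, hwy⟩ := mem_map.1 h
  obtain ⟨z, hz, rfl⟩ : ∃ z ∈ center P, w * z = y :=
    ⟨w⁻¹ * y, QuotientGroup.eq.1 hwy, mul_inv_cancel_left w y⟩
  rw [mul_assoc, ← mem_center_iff.1 hz x, ← mul_assoc, mem_cent.1 hw, mul_assoc]

theorem part_comm (h : CA P) {x : P} (hx : x ∉ center P) {a b : P ⧸ center P} (ha : a ∈ part x)
    (hb : b ∈ part x) : a * b = b * a := by
  obtain ⟨a, rfl⟩ := QuotientGroup.mk'_surjective (center P) a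
  obtain ⟨b, rfl⟩ := QuotientGroup.mk'_surjective (center P) b
  rw [← map_mul, ← map_mul,
    isMulCommutative_iff'.1 (h x hx) a (mem_cent.2 (mk_mem_part.1 ha)) b (mem_cent.2 (mk_mem_part.1 hb))]

theorem part_eq (h : CA P) {x y : P} (hx : x ∉ center P) (hy : y ∉ center P)
    (hyx : (y : P ⧸ center P) ∈ part x) : part y = part x := by
  have hc := mk_mem_part.1 hyx
  refine le_antisymm (map_mono fun a ha => mem_cent.2 ?_) (map_mono fun a ha => mem_cent.2 ?_)
  · exact isMulCommutative_iff'.1 (h y hy) a ha x (mem_cent.2 hc.symm)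
  · exact isMulCommutative_iff'.1 (h x hx) a ha y (mem_cent.2 hc)

theorem mk_ne_one {x : P} (hx : x ∉ center P) : (x : P ⧸ center P) ≠ 1 := fun e =>
  hx ((QuotientGroup.eq_one_iff x).1 e)

theorem exists_rep {a : P ⧸ center P} (ha : a ≠ 1) : ∃ x : P, x ∉ center P ∧ (x : P ⧸ center P) = a := by
  obtain ⟨x, rfl⟩ := QuotientGroup.mk'_surjective (center P) a
  exact ⟨x, fun h => ha ((QuotientGroup.eq_one_iff x).2 h), rfl⟩

theorem eq_part (h : CA P) {a : P ⧸ center P} (ha : a ≠ 1) {x y : P} (hx : x ∉ center P) (hy : y ∉ center P)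
    (h1 : a ∈ part x) (h2 : a ∈ part y) : part x = part y := by
  obtain ⟨z, hz, rfl⟩ := exists_rep ha
  exact (part_eq h hx hz h1).symm.trans (part_eq h hy hz h2)

/-- A subgroup of the central quotient in which `t * t = 1` forces `t` central, with a central involution,
is abelian. -/
theorem comm_of_involutions_central (h : CA P) (U : Subgroup (P ⧸ center P))
    (hU : ∀ t ∈ U, t * t = 1 → ∀ s ∈ U, t * s = s * t) {c : P ⧸ center P} (hc : c ∈ U) (hc1 : c ≠ 1)
    (hc2 : c * c = 1) {s t : P ⧸ center P} (hs : s ∈ U) (ht : t ∈ U) : s * t = t * s := by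
  have key : ∀ u ∈ U, u * u ≠ 1 → ∀ x : P, x ∉ center P → c ∈ part x → u ∈ part x := by
    intro u hu hu2 x hx hcx
    have hu1 : u ≠ 1 := fun e => hu2 (by rw [e, one_mul])
    have hcu : c * u = u * c := hU c hc hc2 u hu
    have hsq : (u * c) * (u * c) = u * u := by
      rw [mul_assoc u c (u * c), ← mul_assoc c u c, hcu, mul_assoc u c c, hc2, mul_one]
    have huc1 : u * c ≠ 1 := fun e => hu2 (by rw [← hsq, e, one_mul])
    obtain ⟨y, hy, rfl⟩ := exists_rep hu1
    obtain ⟨w, hw, hwe⟩ := exists_rep huc1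
    have hyy : (y : P ⧸ center P) ∈ part y := mk_mem_part.2 rfl
    have hww : (w : P ⧸ center P) ∈ part w := mk_mem_part.2 rfl
    have e1 : part w = part y :=
      eq_part h hu2 hw hy (hsq ▸ hwe ▸ mul_mem hww hww) (mul_mem hyy hyy)
    have hcy : c ∈ part y := by
      have hm : (y : P ⧸ center P) * c ∈ part y := hwe ▸ e1 ▸ hww
      simpa using mul_mem (inv_mem hyy) hm
    rw [eq_part h hc1 hx hy hcx hcy]
    exact hyy
  by_cases hs2 : s * s = 1
  · exact hU s hs hs2 t ht
  by_cases ht2 : t * t = 1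
  · exact (hU t ht ht2 s hs).symm
  obtain ⟨x, hx, hxc⟩ := exists_rep hc1
  have hcx : c ∈ part x := hxc ▸ mk_mem_part.2 rfl
  exact part_comm h hx (key s hs hs2 x hx hcx) (key t ht ht2 x hx hcx)

variable [Finite P]

theorem quot_perfect (hperf : commutator P = ⊤) : commutator (P ⧸ center P) = ⊤ := by
  rw [_root_.commutator_def, ← Subgroup.map_top_of_surjective _ (QuotientGroup.mk'_surjective (center P)),
    ← Subgroup.map_commutator, ← _root_.commutator_def, hperf]

theorem not_solvable_of_perfect {H : Type*} [Group H] [Nontrivial H] (h : commutator H = ⊤) :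
    ¬ Group.IsSolvable H :=
  haveI : Group.IsPerfect H := Group.isPerfect_def.2 h
  Group.IsPerfect.not_isSolvable H

/-- No subgroup of the central quotient is a Frobenius complement. -/
theorem not_frobenius (h : CA P) (hperf : commutator P = ⊤) {H : Subgroup (P ⧸ center P)}
    (hH : Cfsg.IsFrobeniusComplement H) : False := by
  obtain ⟨K, -, hKn, hc⟩ := Cfsg.Agent.Characters.frobenius_kernel_theorem hH
  haveI := hKn
  haveI : Nontrivial H := (Subgroup.nontrivial_iff_ne_bot H).2 hH.1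
  have hKne : K ≠ ⊥ := by
    rintro rfl
    exact hH.2.1 (isComplement'_bot_left.1 hc)
  have hHperf : commutator H = ⊤ := by
    have e : H ≃* (P ⧸ center P) ⧸ K := hc.symm.QuotientMulEquiv.symm
    have hq : commutator ((P ⧸ center P) ⧸ K) = ⊤ := by
      rw [_root_.commutator_def, ← Subgroup.map_top_of_surjective _ (QuotientGroup.mk'_surjective K),
        ← Subgroup.map_commutator, ← _root_.commutator_def, quot_perfect hperf]
    rw [_root_.commutator_def, ← Subgroup.map_top_of_surjective e.symm.toMonoidHom e.symm.surjective,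
      ← Subgroup.map_commutator, ← _root_.commutator_def, hq]
  have hns := not_solvable_of_perfect hHperf
  have hev : 2 ∣ Nat.card H := even_iff_two_dvd.1 (Nat.not_odd_iff_even.1 fun ho => hns (Cfsg.Agent.S0205.result ho))
  have hfpf : ∀ a ∈ H, a ≠ 1 → K ⊓ centralizer {a} = ⊥ := by
    intro a ha ha1
    rw [eq_bot_iff]
    intro k hk
    have hkH : k ∈ H := Cfsg.Agent.Characters.mem_of_frobenius_meet hH ha
      (by rw [mul_assoc, ← mem_cent.1 hk.2, inv_mul_cancel_left]; exact ha) ha1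
    exact hc.disjoint.le_bot ⟨hk.1, hkH⟩
  obtain ⟨⟨s, hsH, hso, hsu, -⟩, -⟩ := Cfsg.Agent.S0068.result K H hc hKne hfpf hev
  have hs1 : s ≠ 1 := fun e => by rw [e, orderOf_one] at hso; exact absurd hso (by decide)
  obtain ⟨x, hx, rfl⟩ := exists_rep hs1
  set H₁ := H.comap (QuotientGroup.mk' (center P)) with hH₁
  have hz : ∀ y ∈ H₁, y * x * y⁻¹ * x⁻¹ ∈ center P := by
    intro y hy
    rw [← QuotientGroup.eq_one_iff, QuotientGroup.mk_mul, QuotientGroup.mk_mul, QuotientGroup.mk_mul,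
      QuotientGroup.mk_inv, QuotientGroup.mk_inv,
      hsu _ (mul_mem (mul_mem (show (y : P ⧸ center P) ∈ H from hy) hsH) (inv_mem (show (y : P ⧸ center P) ∈ H from hy))) ?_,
      mul_inv_cancel]
    rw [← MulAut.conj_apply, MulEquiv.orderOf_eq, hso]
  refine hns ?_
  let ψ : H₁ →* center P := MonoidHom.mk' (fun y => ⟨(y : P) * x * (y : P)⁻¹ * x⁻¹, hz y y.2⟩)
    fun a b => Subtype.ext (by
      show ((a : P) * b) * x * ((a : P) * b)⁻¹ * x⁻¹ =
        ((a : P) * x * (a : P)⁻¹ * x⁻¹) * ((b : P) * x * (b : P)⁻¹ * x⁻¹)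
      have hc := mem_center_iff.1 (hz b b.2)
      calc _ = (a : P) * ((b : P) * x * (b : P)⁻¹ * x⁻¹) * (x * (a : P)⁻¹ * x⁻¹) := by group
        _ = ((b : P) * x * (b : P)⁻¹ * x⁻¹) * (a : P) * (x * (a : P)⁻¹ * x⁻¹) := by rw [hc (a : P)]
        _ = ((b : P) * x * (b : P)⁻¹ * x⁻¹) * ((a : P) * x * (a : P)⁻¹ * x⁻¹) := by group
        _ = _ := (hc _).symm)
  have hle : ⁅H₁, H₁⁆ ≤ centralizer ({x} : Set P) := by
    rw [← map_subtype_commutator]
    rintro _ ⟨a, ha, rfl⟩
    have h1 : ψ a = 1 := by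
      have hle' : commutator H₁ ≤ ψ.ker := by
        rw [commutator_def]
        exact commutator_le.2 fun p _ q _ => by
          rw [MonoidHom.mem_ker, map_commutatorElement, commutatorElement_eq_one_iff_mul_comm]
          exact Subtype.ext (mem_center_iff.1 (ψ q).2 _)
      exact hle' ha
    exact mem_cent.2 (mul_inv_eq_iff_eq_mul.1 (mul_inv_eq_one.1 (congrArg Subtype.val h1)))
  haveI : Group.IsSolvable H₁ := by
    rw [Group.isSolvable_def]
    refine ⟨2, ?_⟩
    rw [eq_bot_iff]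
    intro g hg
    have hd1 : ∀ a ∈ derivedSeries H₁ 1, (a : P) ∈ centralizer ({x} : Set P) := by
      intro a ha
      refine hle ?_
      have : (a : P) ∈ (derivedSeries H₁ 1).map H₁.subtype := mem_map_of_mem _ ha
      rwa [derivedSeries_one, map_subtype_commutator] at this
    rw [derivedSeries_succ] at hg
    refine (commutator_le.2 fun a ha b hb => ?_ : _ ≤ (⊥ : Subgroup H₁)) hg
    rw [mem_bot, commutatorElement_eq_one_iff_mul_comm]
    exact Subtype.ext (isMulCommutative_iff'.1 (h x hx) _ (hd1 a ha) _ (hd1 b hb))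
  exact Group.isSolvable_of_surjective
    (f := (QuotientGroup.mk' (center P)).subgroupComap H)
    ((QuotientGroup.mk' (center P)).subgroupComap_surjective_of_surjective H (QuotientGroup.mk'_surjective _))

/-- The Suzuki groups are not central quotients of CA groups. -/
theorem not_suzuki (h : CA P) {F : Type} [Field F] [Fintype F] {m : ℕ} (hm : 1 ≤ m)
    (hF : Fintype.card F = 2 ^ (2 * m + 1)) (e : (P ⧸ center P) ≃* Cfsg.Lie.Sz F (2 ^ (m + 1))) : False := by
  haveI := Cfsg.Agent.Suzuki.charTwo hF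
  obtain ⟨e'⟩ := Cfsg.Agent.Suzuki.lieEquiv (m := m) hm hF
  let f : Cfsg.Sz F m ≃* (P ⧸ center P) := e'.trans e.symm
  let U := (Cfsg.Agent.Suzuki.U (m := m) hF).map f.toMonoidHom
  have hsq : ∀ a b : F, (Cfsg.Agent.Suzuki.ut (m := m) hF a b * Cfsg.Agent.Suzuki.ut hF a b = 1) → a = 0 := by
    intro a b hab
    rw [Cfsg.Agent.Suzuki.ut_mul, ← Cfsg.Agent.Suzuki.ut_zero hF] at hab
    have h2 := (Cfsg.Agent.Suzuki.ut_injective hF hab).2
    rw [CharTwo.add_self_eq_zero, zero_add] at h2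
    exact (mul_eq_zero.1 h2).elim eq_zero_of_pow_eq_zero id
  have hU : ∀ t ∈ U, t * t = 1 → ∀ s ∈ U, t * s = s * t := by
    rintro _ ⟨t, ht, rfl⟩ ht2 _ ⟨s, hs, rfl⟩
    obtain ⟨a, b, hab⟩ := Cfsg.Agent.Suzuki.ut_surjective hF (⟨t, ht⟩ : Cfsg.Agent.Suzuki.U (m := m) hF)
    have ha : a = 0 := hsq a b (by
      rw [← hab]; apply Subtype.ext; apply f.injective
      rw [coe_one, map_one, coe_mul, map_mul]; exact ht2)
    subst ha
    have hc := Subgroup.mem_center_iff.1 ((Cfsg.Agent.Suzuki.mem_center_iff' (b := b) hm hF).2 rfl) ⟨s, hs⟩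
    rw [← hab] at hc
    rw [← map_mul, ← map_mul]
    exact congrArg f (congrArg Subtype.val hc).symm
  set c := Cfsg.Agent.Suzuki.ut (m := m) hF 0 1 with hcdef
  set d := Cfsg.Agent.Suzuki.ut (m := m) hF 1 0 with hddef
  have hd : d ∉ center (Cfsg.Agent.Suzuki.U (m := m) hF) := fun hd =>
    one_ne_zero (Cfsg.Agent.Suzuki.center_eq_zero hm hF hd)
  refine hd (Subgroup.mem_center_iff.2 fun s => Subtype.ext (f.injective ?_))
  rw [coe_mul, coe_mul, map_mul, map_mul]
  refine comm_of_involutions_central h U hU (c := f c) ⟨_, c.2, rfl⟩ ?_ ?_ ⟨_, s.2, rfl⟩ ⟨_, d.2, rfl⟩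
  · intro e1
    rw [map_eq_one_iff f f.injective, OneMemClass.coe_eq_one, hcdef, ← Cfsg.Agent.Suzuki.ut_zero hF] at e1
    exact one_ne_zero (Cfsg.Agent.Suzuki.ut_injective hF e1).2
  · rw [← map_mul, ← coe_mul, hcdef, Cfsg.Agent.Suzuki.ut_mul]
    simp [CharTwo.add_self_eq_zero, Cfsg.Agent.Suzuki.ut_zero]

/-- An abelian quotient of a quotient of a perfect group is trivial. -/
theorem eq_one_of_perfect {Q L A : Type*} [Group Q] [Group L] [CommGroup A] (C : Subgroup L) [C.Normal]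
    (e : Q ≃* L ⧸ C) (hQ : commutator Q = ⊤) (f : L →* A) (hf : C ≤ f.ker) (x : L) : f x = 1 := by
  have h := Abelianization.commutator_subset_ker ((QuotientGroup.lift C f hf).comp e.toMonoidHom)
  rw [hQ] at h
  have h1 := h (mem_top (e.symm (x : L ⧸ C)))
  rw [MonoidHom.mem_ker, MonoidHom.comp_apply, MulEquiv.coe_toMonoidHom, e.apply_symm_apply,
    QuotientGroup.lift_mk] at h1
  exact h1

/-- `PGL(2,F)`, `F` of odd order, is not perfect. -/
theorem pgl_not_perfect {F : Type} [Field F] [Fintype F] (hodd : Odd (Fintype.card F)) {Q : Type u} [Group Q]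
    (e : Q ≃* (GL (Fin 2) F ⧸ Subgroup.center (GL (Fin 2) F))) (hQ : commutator Q = ⊤) : False := by
  have hchar : ringChar F ≠ 2 := fun hch => by
    haveI : CharP F 2 := ringChar.of_eq hch
    obtain ⟨k, -, hk⟩ := FiniteField.card F 2
    rw [hk] at hodd
    exact absurd hodd (by rw [Nat.not_odd_iff_even]; exact Nat.even_pow.2 ⟨even_two, k.2.ne'⟩)
  obtain ⟨v, hv⟩ : ∃ v : Fˣ, ∀ r : Fˣ, r * r ≠ v := by
    by_contra hcon
    push Not at hcon
    have hinj : Function.Injective (fun r : Fˣ => r * r) := Finite.injective_iff_surjective.2 hcon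
    have h2 : (-1 : Fˣ) = 1 := hinj (by simp)
    exact Ring.neg_one_ne_one_of_char_ne_two hchar (by simpa using congrArg Units.val h2)
  obtain ⟨a, ha⟩ := Matrix.GeneralLinearGroup.det_surjective (n := Fin 2) (R := F) v
  let f : GL (Fin 2) F →* Fˣ ⧸ (powMonoidHom 2 : Fˣ →* Fˣ).range :=
    (QuotientGroup.mk' _).comp Matrix.GeneralLinearGroup.det
  have h1 := eq_one_of_perfect (A := Fˣ ⧸ (powMonoidHom 2 : Fˣ →* Fˣ).range) _ e hQ f (fun b hb => by
    rw [Matrix.GeneralLinearGroup.center_eq_range_scalar] at hb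
    obtain ⟨r, rfl⟩ := hb
    rw [MonoidHom.mem_ker]
    refine (QuotientGroup.eq_one_iff (N := (powMonoidHom 2 : Fˣ →* Fˣ).range) _).2 (MonoidHom.mem_range.2 ⟨r, ?_⟩)
    ext
    simp) a
  obtain ⟨r, hr⟩ := MonoidHom.mem_range.1
    ((QuotientGroup.eq_one_iff (N := (powMonoidHom 2 : Fˣ →* Fˣ).range) _).1 h1)
  exact hv r (by rw [← ha, ← hr, powMonoidHom_apply, pow_two])

/-- The central quotient of a perfect CA group. -/
theorem main (h : CA P) (hperf : commutator P = ⊤) [Nontrivial P] :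
    ∃ (F : Type) (_ : Field F) (_ : Fintype F), 4 ≤ Fintype.card F ∧
      Nonempty ((P ⧸ center P) ≃* Matrix.ProjectiveSpecialLinearGroup (Fin 2) F) := by
  classical
  have hns := not_solvable_of_perfect hperf
  have hnab : center P ≠ ⊤ := fun e => hns (Group.isSolvable_of_comm fun a b =>
    (mem_center_iff.1 (e ▸ mem_top b : b ∈ center P) a))
  obtain ⟨x₀, hx₀⟩ : ∃ x, x ∉ center P := by
    by_contra hcon
    push Not at hcon
    exact hnab (eq_top_iff.2 fun g _ => hcon g)
  obtain ⟨y₀, hy₀⟩ : ∃ y, y * x₀ ≠ x₀ * y := by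
    by_contra hcon
    push Not at hcon
    exact hx₀ (mem_center_iff.2 hcon)
  have hy₀' : y₀ ∉ center P := fun hc => hy₀ (mem_center_iff.1 hc x₀).symm
  have hQ : ¬ Group.IsSolvable (P ⧸ center P) := by
    haveI : Nontrivial (P ⧸ center P) := ⟨⟨_, 1, mk_ne_one hx₀⟩⟩
    exact not_solvable_of_perfect (quot_perfect hperf)
  let S : Set (Subgroup (P ⧸ center P)) := {H | ∃ x : P, x ∉ center P ∧ H = part x}
  have hS2 : ∃ H ∈ S, ∃ K ∈ S, H ≠ K := by
    refine ⟨part x₀, ⟨x₀, hx₀, rfl⟩, part y₀, ⟨y₀, hy₀', rfl⟩, fun e => hy₀ (mk_mem_part.1 ?_)⟩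
    rw [e]
    exact mk_mem_part.2 rfl
  have hS1 : ∀ H ∈ S, H ≠ ⊥ := by
    rintro H ⟨x, hx, rfl⟩ e
    exact mk_ne_one hx (mem_bot.1 (e ▸ mk_mem_part.2 rfl))
  have hpart : ∀ g : P ⧸ center P, g ≠ 1 → ∃! H : Subgroup (P ⧸ center P), H ∈ S ∧ g ∈ H := by
    intro g hg
    obtain ⟨x, hx, rfl⟩ := exists_rep hg
    refine ⟨part x, ⟨⟨x, hx, rfl⟩, mk_mem_part.2 rfl⟩, ?_⟩
    rintro H ⟨⟨y, hy, rfl⟩, hxy⟩
    exact (part_eq h hy hx hxy).symm
  rcases Cfsg.Agent.S4248.result S hS2 hS1 hpart with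
    ⟨⟨e⟩⟩ | ⟨p, hp, hH⟩ | ⟨H, hH⟩ | hL | ⟨F, iF, iF', hF, hodd, ⟨e⟩⟩ | hSz
  · exfalso
    let f : (P ⧸ center P) →* ℤˣ := Equiv.Perm.sign.comp e.toMonoidHom
    have hf : ∀ q, f q = 1 := fun q =>
      Abelianization.commutator_subset_ker f ((quot_perfect hperf) ▸ mem_top q)
    have h1 := hf (e.symm (Equiv.swap (0 : Fin 4) 1))
    simp [f] at h1
  · exfalso
    haveI := Fact.mk hp
    have hnp : ¬ IsPGroup p (P ⧸ center P) := fun hpg => hQ (by
      haveI := hpg.isNilpotent
      infer_instance)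
    obtain ⟨-, hidx⟩ := Cfsg.Agent.S4249.result p hp hnp hH
    set W := closure {g : P ⧸ center P | g ^ p ≠ 1} with hW
    haveI : W.Normal := by
      refine ⟨fun n hn g => ?_⟩
      refine (?_ : W.map (MulAut.conj g).toMonoidHom ≤ W) ⟨n, hn, rfl⟩
      rw [hW, MonoidHom.map_closure, closure_le]
      rintro _ ⟨a, ha, rfl⟩
      refine subset_closure (show (MulAut.conj g a) ^ p ≠ 1 from fun e => ha ?_)
      rwa [← map_pow, map_eq_one_iff _ (MulAut.conj g).injective] at e
    haveI : IsCyclic ((P ⧸ center P) ⧸ W) := isCyclic_of_prime_card (p := p) (by rw [← hidx]; rfl)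
    refine hH (eq_top_iff.2 fun g _ => ?_)
    have h1 : g ∈ commutator (P ⧸ center P) := (quot_perfect hperf) ▸ mem_top g
    exact (Subgroup.Normal.quotient_commutative_iff_commutator_le.1
      (inferInstance : IsMulCommutative ((P ⧸ center P) ⧸ W))) h1
  · exact (not_frobenius h hperf hH).elim
  · obtain ⟨F, iF, iF', hF, ⟨e⟩⟩ := hL
    exact ⟨F, iF, iF', hF, ⟨e⟩⟩
  · exfalso
    exact pgl_not_perfect hodd e (quot_perfect hperf)
  · obtain ⟨F, iF, iF', m, hm, hF, ⟨e⟩⟩ := hSz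
    exact (not_suzuki h hm hF e).elim

end Cfsg.Agent.MinNonCA.PerfectQuot
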