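import Cfsg.Agent.Lib.MinNonCA.Isolated
import Cfsg.Agent.Lib.Transfer.NormalPComplement
import Cfsg.Agent.Lib.ZStar.Main
import Cfsg.Agent.S3214
import Cfsg.Agent.S0556
import Cfsg.Agent.S2086

/-!
# A quasisimple minimal non-CA group is `PSL(2,q)`

Every involution of the central quotient has a centraliser with a normal 2-complement, so the
classification of such simple groups applies; the bad element pins down the group on that list, and the
multiplier of `PSL(2,q)` removes the centre.
-/

set_option autoImplicit false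
set_option linter.style.haveILetI false
set_option linter.unusedSectionVars false

namespace Cfsg.Agent.MinNonCA.Quasi

open Subgroup
open Cfsg.Agent.Transfer.NormalPComplement
open scoped IsMulCommutative

universe u

variable {G : Type u} [Group G] [Finite G] (hS : Setup G)
  (hN : ∀ N : Subgroup G, N.Normal → N ≠ ⊤ → N ≤ center G)

local notation "π" => QuotientGroup.mk' (center G)

include hS

theorem center_ne_top : center G ≠ ⊤ := fun h =>
  hS.ne_top_of_isSolvable (Group.isSolvable_of_comm fun a b => mul_comm' a b) h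

include hN

/-- Normal two-subgroups are central. -/
theorem le_center_of_isPGroup (N : Subgroup G) (hn : N.Normal) (hp : IsPGroup 2 N) : N ≤ center G := by
  haveI : Fact (Nat.Prime 2) := ⟨Nat.prime_two⟩
  refine hN N hn (hS.ne_top_of_isSolvable ?_)
  haveI := hp.isNilpotent
  infer_instance

theorem isSimple_quot : IsSimpleGroup (G ⧸ center G) := by
  haveI : Nontrivial (G ⧸ center G) := QuotientGroup.nontrivial_iff.2 (center_ne_top hS)
  refine ⟨fun N hn => ?_⟩
  by_cases h : N.comap π = ⊤
  · exact Or.inr (by rw [← map_comap_eq_self_of_surjective (QuotientGroup.mk'_surjective _) N, h,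
      map_top_of_surjective _ (QuotientGroup.mk'_surjective _)])
  · refine Or.inl ((Subgroup.eq_bot_iff_forall _).2 fun x hx => ?_)
    obtain ⟨g, rfl⟩ := QuotientGroup.mk'_surjective (center G) x
    exact (QuotientGroup.eq_one_iff g).2 (hN _ (hn.comap _) h hx)

variable (hperf : commutator G = ⊤)
include hperf

theorem not_comm_quot : ¬ IsMulCommutative (G ⧸ center G) := by
  intro h
  refine center_ne_top hS (top_le_iff.1 (hperf ▸ ?_))
  rw [_root_.commutator_def, commutator_le]
  intro a _ b _
  rw [← QuotientGroup.eq_one_iff, ← QuotientGroup.mk'_apply, map_commutatorElement,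
    commutatorElement_eq_one_iff_mul_comm]
  exact h.is_comm.comm _ _

theorem center_quot : center (G ⧸ center G) = ⊥ := by
  haveI := isSimple_quot hS hN
  exact (IsSimpleGroup.eq_bot_or_eq_top_of_normal _ inferInstance).resolve_right fun h =>
    not_comm_quot hS hN hperf ⟨⟨fun a b => (mem_center_iff.1 (h ▸ mem_top a) b).symm⟩⟩

/-- An element of a Sylow subgroup with no other conjugate there, of order two modulo the centre, is central. -/
theorem central_of_unique {z : G} (T : Sylow 2 G) (hzT : z ∈ (T : Subgroup G)) (hz2 : z * z ∈ center G)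
    (hu : ∀ g : G, g * z * g⁻¹ ∈ (T : Subgroup G) → g * z * g⁻¹ = z) : z ∈ center G := by
  haveI : Fact (Nat.Prime 2) := ⟨Nat.prime_two⟩
  haveI := isSimple_quot hS hN
  by_contra hzc
  have hord : orderOf (π z) = 2 := orderOf_eq_prime
    (by rw [← map_pow, pow_two]; exact (QuotientGroup.eq_one_iff _).2 hz2)
    (fun h => hzc ((QuotientGroup.eq_one_iff z).1 h))
  have hpg : ∀ y ∈ (T : Subgroup G), IsPGroup 2 (zpowers y) := fun y hy => T.2.to_le (zpowers_le.2 hy)
  have hiso : Cfsg.IsIsolatedInvolution (π z) := by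
    refine ⟨hord, fun a ha => ?_⟩
    obtain ⟨g, rfl⟩ := QuotientGroup.mk'_surjective (center G) a
    rw [← map_inv, ← map_mul, ← map_mul] at ha ⊢
    set y := g * z * g⁻¹ with hy
    set c := y * z * y⁻¹ * z⁻¹ with hc
    have hcZ : c ∈ center G := (QuotientGroup.eq_one_iff _).1 (by
      change π c = 1
      rw [hc, map_mul, map_mul, map_mul, map_inv, map_inv, ← ha.eq]; group)
    have hyz : y * z * y⁻¹ = c * z := by rw [hc, inv_mul_cancel_right]
    have hcc : c * c = 1 := by
      have e1 : y * (z * z) * y⁻¹ = c * z * (c * z) := by rw [← hyz]; group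
      rw [mem_center_iff.1 hz2 y, mul_inv_cancel_right,
        (show Commute z c from mem_center_iff.1 hcZ z).mul_mul_mul_comm] at e1
      exact mul_right_cancel (e1.symm.trans (one_mul (z * z)).symm)
    have hA : IsPGroup 2 (zpowers z ⊔ zpowers c : Subgroup G) := by
      refine (hpg z hzT).to_sup_of_normal_left' ?_ (zpowers_le.2 ?_)
      · intro x
        obtain ⟨x, k, rfl⟩ := x
        refine ⟨1, Subtype.ext ?_⟩
        change (c ^ k) ^ 2 ^ 1 = 1
        rw [pow_one, ← zpow_natCast, ← zpow_mul, mul_comm, zpow_mul, zpow_natCast, pow_two, hcc, one_zpow]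
      · exact Subgroup.center_le_normalizer _ hcZ
    have hyn : y ∈ normalizer ((zpowers z ⊔ zpowers c : Subgroup G) : Set G) := by
      have hle : (zpowers z ⊔ zpowers c).map (MulAut.conj y).toMonoidHom ≤ zpowers z ⊔ zpowers c := by
        rw [Subgroup.map_sup, MonoidHom.map_zpowers, MonoidHom.map_zpowers, sup_le_iff, zpowers_le, zpowers_le]
        refine ⟨?_, ?_⟩
        · change y * z * y⁻¹ ∈ _
          rw [hyz]; exact mul_mem (mem_sup_right (mem_zpowers c)) (mem_sup_left (mem_zpowers z))
        · change y * c * y⁻¹ ∈ _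
          rw [mem_center_iff.1 hcZ y, mul_inv_cancel_right]; exact mem_sup_right (mem_zpowers c)
      have heq := eq_of_le_of_card_ge hle
        (card_map_of_injective (MulAut.conj y).injective).ge
      refine mem_normalizer_iff.2 fun w => ⟨fun hw => heq.le ⟨w, hw, rfl⟩, fun hw => ?_⟩
      obtain ⟨j, hj, hjw⟩ := heq.ge hw
      exact (mul_left_cancel (mul_right_cancel (show y * j * y⁻¹ = y * w * y⁻¹ from hjw))) ▸ hj
    have hK := hA.to_sup_of_normal_left' (K := zpowers y)
      ((hpg z hzT).map (MulAut.conj g).toMonoidHom |>.to_le (by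
        rw [MonoidHom.map_zpowers, zpowers_le]; exact mem_zpowers _)) (zpowers_le.2 hyn)
    obtain ⟨R, hR⟩ := hK.exists_le_sylow
    obtain ⟨k, hk⟩ := MulAction.exists_smul_eq G R T
    have hm : ∀ w ∈ (R : Subgroup G), k * w * k⁻¹ ∈ (T : Subgroup G) := fun w hw => by
      rw [← hk, Sylow.coe_subgroup_smul]; exact ⟨w, hw, rfl⟩
    have h1 := hu k (hm z (hR (mem_sup_left (mem_sup_left (mem_zpowers z)))))
    have h2 := hu (k * g) (by
      have h := hm y (hR (mem_sup_right (mem_zpowers y)))
      rw [hy] at h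
      convert h using 1
      group)
    have e : k * y * k⁻¹ = k * z * k⁻¹ := by
      rw [h1, hy]; convert h2 using 1; group
    rw [mul_left_cancel (mul_right_cancel e)]
  refine not_comm_quot hS hN hperf ⟨⟨fun a b => ?_⟩⟩
  have hc := center_quot hS hN hperf
  haveI : (Cfsg.oddCore (G ⧸ center G)).Normal := ZStar.Main.oddCore_normal
  rcases IsSimpleGroup.eq_bot_or_eq_top_of_normal (Cfsg.oddCore (G ⧸ center G)) inferInstance with h | h
  · have := ZStar.Main.mem_center_of_isolated h hiso
    rw [hc, mem_bot] at this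
    rw [this, orderOf_one] at hord
    omega
  · exfalso
    have h2 := InvChar.Core.odd_card_oddCore.of_dvd_nat
      (hord ▸ Subgroup.orderOf_dvd_natCard (Cfsg.oddCore (G ⧸ center G)) (h ▸ mem_top (π z)))
    exact Nat.not_even_iff_odd.2 h2 even_two

/-- The centre of a non-abelian Sylow two-subgroup is central. -/
theorem center_sylow_le (T : Sylow 2 G) (hT : ¬ IsMulCommutative (T : Subgroup G)) {z : G}
    (hzT : z ∈ (T : Subgroup G)) (hz : ∀ t ∈ (T : Subgroup G), t * z = z * t) : z ∈ center G := by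
  haveI : Fact (Nat.Prime 2) := ⟨Nat.prime_two⟩
  have h : ∃ k : ℕ, z ^ 2 ^ k ∈ center G := by
    obtain ⟨k, hk⟩ := T.2 ⟨z, hzT⟩
    exact ⟨k, by rw [show z ^ 2 ^ k = 1 from congrArg Subtype.val hk]; exact one_mem _⟩
  classical
  have hspec := Nat.find_spec h
  rcases hn : Nat.find h with _ | k
  · rw [hn, pow_zero, pow_one] at hspec; exact hspec
  exfalso
  refine Nat.find_min h (m := k) (by omega) ?_
  have hw : z ^ 2 ^ k ∈ (T : Subgroup G) := pow_mem hzT _
  have hwc : ∀ t ∈ (T : Subgroup G), t * z ^ 2 ^ k = z ^ 2 ^ k * t := fun t ht =>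
    ((show Commute t z from hz t ht).pow_right _).eq
  refine central_of_unique hS hN hperf T hw ?_ fun g hg =>
    eq_of_conj_mem_sylow hS.proper (le_center_of_isPGroup hS hN) T hT hw hwc hg
  rw [← pow_add]
  rwa [hn, pow_succ, mul_two] at hspec

/-- A 2-element of order two modulo the centre has a centraliser with a normal 2-complement. -/
theorem cent_complement {t : G} {k : ℕ} (htk : t ^ 2 ^ k = 1) (ht : t ∉ center G) (ht2 : t * t ∈ center G) :
    Cfsg.HasNormalPComplement 2 (centralizer ({t} : Set G)) := by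
  haveI : Fact (Nat.Prime 2) := ⟨Nat.prime_two⟩
  set C := centralizer ({t} : Set G) with hC
  obtain ⟨P⟩ : Nonempty (Sylow 2 C) := inferInstance
  set P' := (P : Subgroup C).map C.subtype with hP'
  have hP'p : IsPGroup 2 P' := P.2.map _
  have hP'C : P' ≤ C := map_subtype_le _
  have hmax : ∀ E : Subgroup G, IsPGroup 2 E → P' ≤ E → E ≤ C → E ≤ P' := by
    intro E hE hPE hEC e he
    have h2 : E.subgroupOf C = P := P.3 (hE.comap_of_injective C.subtype C.subtype_injective)
      fun r hr => mem_subgroupOf.2 (hPE (mem_map_of_mem _ hr))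
    exact mem_map.2 ⟨⟨e, hEC he⟩, h2 ▸ mem_subgroupOf.2 he, rfl⟩
  have htP : t ∈ P' := by
    have hz : IsPGroup 2 (zpowers t) :=
      IsPGroup.of_card_dvd_pow (n := k) (by rw [Nat.card_zpowers]; exact orderOf_dvd_of_pow_eq_one htk)
    have hle : zpowers t ≤ normalizer (P' : Set G) := by
      refine zpowers_le.2 (mem_normalizer_iff.2 fun w => ⟨fun hw => ?_, fun hw => ?_⟩)
      · rwa [← mem_cent.1 (hP'C hw), mul_inv_cancel_right]
      · have h2 := mem_cent.1 (hP'C hw)
        rw [inv_mul_cancel_right] at h2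
        rwa [← mul_left_cancel h2] at hw
    exact hmax _ (hP'p.to_sup_of_normal_left' hz hle) le_sup_left
      (sup_le hP'C (zpowers_le.2 (mem_cent.2 rfl))) (mem_sup_right (mem_zpowers t))
  obtain ⟨T, hT⟩ := hP'p.exists_le_sylow
  -- an element of the normaliser not centralising `t`
  obtain ⟨w, hwN, hwt⟩ : ∃ w ∈ normalizer (P' : Set G), w * t ≠ t * w := by
    rcases eq_or_lt_of_le hT with he | hlt
    · by_contra hcon
      push Not at hcon
      have hTc : ∀ s ∈ (T : Subgroup G), s * t = t * s := fun s hs => mem_cent.1 (hP'C (he.symm ▸ hs))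
      by_cases hTa : IsMulCommutative (T : Subgroup G)
      · refine ht (central_of_unique hS hN hperf T (hT htP) ht2 fun g hg => ?_)
        have hgc : g * t * g⁻¹ ∈ centralizer ((T : Subgroup G) : Set G) :=
          mem_centralizer_iff.2 fun s hs => isMulCommutative_iff'.1 hTa s hs _ hg
        obtain ⟨n, hn, hne⟩ := T.conj_eq_normalizer_conj_of_mem_centralizer t g⁻¹
          (mem_centralizer_iff.2 hTc) (by rwa [inv_inv])
        rw [inv_inv] at hne
        rw [hne, mul_assoc, ← hcon n (he.symm ▸ hn), inv_mul_cancel_left]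
      · exact ht (center_sylow_le hS hN hperf T hTa (hT htP) hTc)
    · obtain ⟨w, ⟨hwT, hwN⟩, hwP⟩ := SetLike.exists_of_lt (Transfer.Frobenius.lt_inf_normalizer T.2 hlt)
      refine ⟨w, hwN, fun hc => hwP ?_⟩
      exact hmax (P' ⊔ zpowers w) (T.2.to_le (sup_le hT (zpowers_le.2 hwT))) le_sup_left
        (sup_le hP'C (zpowers_le.2 (mem_cent.2 hc))) (mem_sup_right (mem_zpowers w))
  have hNne : normalizer (P' : Set G) ≠ ⊤ := fun htop =>
    ht (le_center_of_isPGroup hS hN P' (normalizer_eq_top_iff.1 htop) hP'p htP)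
  refine hasNormalPComplement_of_normalizer_le_centralizer P fun n hn => mem_centralizer_iff.2 fun p hp => ?_
  have hnN : (n : G) ∈ normalizer (P' : Set G) := le_normalizer_map _ (mem_map_of_mem _ hn)
  exact Subtype.ext (hS.comm_of_noncentral hNne (le_normalizer htP) hwN (fun e => hwt e.symm)
    (le_normalizer (mem_map_of_mem _ hp)) (mem_cent.1 p.2) hnN (mem_cent.1 n.2))

/-- The involution centralisers of the central quotient have normal 2-complements. -/
theorem quot_complement (a : G ⧸ center G) (ha : orderOf a = 2) :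
    Cfsg.HasNormalPComplement 2 (centralizer ({a} : Set (G ⧸ center G))) := by
  haveI : Fact (Nat.Prime 2) := ⟨Nat.prime_two⟩
  obtain ⟨g, rfl⟩ := QuotientGroup.mk'_surjective (center G) a
  -- the two-part of a preimage
  obtain ⟨k, m, hm, hgo⟩ := Nat.exists_eq_two_pow_mul_odd (orderOf_pos g).ne'
  set t := g ^ m with ht
  have hπ : π t = π g := by
    obtain ⟨j, rfl⟩ := hm
    rw [ht, map_pow, pow_succ, pow_mul, ← ha, pow_orderOf_eq_one, one_pow, one_mul]
  have htk : t ^ 2 ^ k = 1 := by rw [ht, ← pow_mul, mul_comm, ← hgo, pow_orderOf_eq_one]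
  have htc : t ∉ center G := fun h => by
    rw [← hπ, show π t = 1 from (QuotientGroup.eq_one_iff t).2 h, orderOf_one] at ha
    omega
  have ht2 : t * t ∈ center G := (QuotientGroup.eq_one_iff _).1 (by
    change π (t * t) = 1
    rw [map_mul, hπ, ← pow_two, ← ha, pow_orderOf_eq_one])
  rw [← hπ]
  set H := (centralizer ({π t} : Set (G ⧸ center G))).comap π with hH
  set C := centralizer ({t} : Set G) with hC
  have hCH : C ≤ H := fun x hx => mem_comap.2 (mem_cent.2 (by rw [← map_mul, ← map_mul, mem_cent.1 hx]))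
  have hmove : ∀ h ∈ H, ∃ c ∈ center G, h * t * h⁻¹ = c * t ∧ c * c = 1 := by
    intro h hh
    refine ⟨h * t * h⁻¹ * t⁻¹, (QuotientGroup.eq_one_iff _).1 ?_, (inv_mul_cancel_right _ _).symm, ?_⟩
    · change π (h * t * h⁻¹ * t⁻¹) = 1
      rw [map_mul, map_mul, map_mul, map_inv, map_inv, mem_cent.1 (mem_comap.1 hh)]
      group
    · set c := h * t * h⁻¹ * t⁻¹ with hc
      have hcZ : c ∈ center G := (QuotientGroup.eq_one_iff _).1 (by
        change π c = 1
        rw [hc, map_mul, map_mul, map_mul, map_inv, map_inv, mem_cent.1 (mem_comap.1 hh)]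
        group)
      have e1 : h * (t * t) * h⁻¹ = c * t * (c * t) := by rw [hc]; group
      rw [mem_center_iff.1 ht2 h, mul_inv_cancel_right,
        (show Commute t c from mem_center_iff.1 hcZ t).mul_mul_mul_comm] at e1
      exact mul_right_cancel (e1.symm.trans (one_mul (t * t)).symm)
  haveI hn : (C.subgroupOf H).Normal := ⟨fun x hx h => mem_subgroupOf.2 (mem_cent.2 (by
    obtain ⟨c, hc, hht, -⟩ := hmove _ (inv_mem h.2)
    have hx' := mem_cent.1 (mem_subgroupOf.1 hx)
    have e : ((h : G)⁻¹ * t * (h : G)⁻¹⁻¹) * x = x * ((h : G)⁻¹ * t * (h : G)⁻¹⁻¹) := by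
      rw [hht, mul_assoc, ← hx', ← mul_assoc, ← mul_assoc, mem_center_iff.1 hc (x : G)]
    push_cast
    calc (h : G) * x * (h : G)⁻¹ * t = h * (x * ((h : G)⁻¹ * t * (h : G)⁻¹⁻¹)) * (h : G)⁻¹ := by group
      _ = h * (((h : G)⁻¹ * t * (h : G)⁻¹⁻¹) * x) * (h : G)⁻¹ := by rw [e]
      _ = t * ((h : G) * x * (h : G)⁻¹) := by group))⟩
  have hpq : IsPGroup 2 (H ⧸ C.subgroupOf H) := by
    intro q
    obtain ⟨h, rfl⟩ := QuotientGroup.mk'_surjective _ q
    refine ⟨1, ?_⟩
    rw [← map_pow]
    refine (QuotientGroup.eq_one_iff _).2 (mem_subgroupOf.2 (mem_cent.2 ?_))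
    obtain ⟨c, hc, hht, hcc⟩ := hmove _ h.2
    push_cast
    rw [pow_two]
    have : (h : G) * h * t * ((h : G) * h)⁻¹ = t := by
      calc (h : G) * h * t * ((h : G) * h)⁻¹ = h * (h * t * (h : G)⁻¹) * (h : G)⁻¹ := by group
        _ = h * (c * t) * (h : G)⁻¹ := by rw [hht]
        _ = c * (h * t * (h : G)⁻¹) := by rw [← mul_assoc (h : G) c t, mem_center_iff.1 hc (h : G)]; group
        _ = t := by rw [hht, ← mul_assoc, hcc, one_mul]
    exact mul_inv_eq_iff_eq_mul.1 this
  obtain ⟨n, hcard⟩ := hpq.exists_card_eq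
  have hHc : Cfsg.HasNormalPComplement 2 H := hasNormalPComplement_of_normal_index
    (N := C.subgroupOf H) (hasNormalPComplement_iff_pResidual.2 (by
      have h := hasNormalPComplement_iff_pResidual.1 (cent_complement hS hN hperf htk htc ht2)
      rw [← map_pResidual_of_surjective (f := (subgroupOfEquivOfLe hCH).symm.toMonoidHom)
        (subgroupOfEquivOfLe hCH).symm.surjective, card_map_of_injective (subgroupOfEquivOfLe hCH).symm.injective]
      exact h)) (k := n) hcard
  rw [hasNormalPComplement_iff_pResidual] at hHc ⊢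
  have hsur : Function.Surjective ((QuotientGroup.mk' (center G)).subgroupComap
      (centralizer ({π t} : Set (G ⧸ center G)))) :=
    MonoidHom.subgroupComap_surjective_of_surjective _ _ (QuotientGroup.mk'_surjective _)
  rw [← map_pResidual_of_surjective hsur]
  exact hHc.coprime_dvd_left (card_map_dvd _ _)

omit hN hperf in
/-- A bad element of order two modulo the centre may be taken to be a 2-element. -/
theorem two_part_bad {x : G} (hx : Bad x) (hx2 : x * x ∈ center G) :
    ∃ y : G, ∃ k : ℕ, Bad y ∧ y * y ∈ center G ∧ y ^ 2 ^ k = 1 ∧ π y = π x := by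
  obtain ⟨k, m, hm, hgo⟩ := Nat.exists_eq_two_pow_mul_odd (orderOf_pos x).ne'
  have hπ : π (x ^ m) = π x := by
    obtain ⟨j, rfl⟩ := hm
    rw [map_pow, pow_succ, pow_mul, pow_two, ← map_mul,
      show π (x * x) = 1 from (QuotientGroup.eq_one_iff _).2 hx2, one_pow, one_mul]
  refine ⟨x ^ m, k, ⟨fun h => hx.1 ((QuotientGroup.eq_one_iff x).1 ?_), fun h => hx.2 ?_⟩, ?_, ?_, hπ⟩
  · exact hπ.symm.trans ((QuotientGroup.eq_one_iff _).2 h)
  · rw [isMulCommutative_iff'] at h ⊢
    intro a ha b hb
    exact h a (mem_cent.2 ((show Commute a x from mem_cent.1 ha).pow_right _).eq) b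
      (mem_cent.2 ((show Commute b x from mem_cent.1 hb).pow_right _).eq)
  · refine (QuotientGroup.eq_one_iff _).1 ?_
    change π (x ^ m * x ^ m) = 1
    rw [map_mul, hπ, ← map_mul]
    exact (QuotientGroup.eq_one_iff _).2 hx2
  · rw [← pow_mul, mul_comm, ← hgo, pow_orderOf_eq_one]

/-- The centraliser in the central quotient of the image of a bad element of prime order there. -/
theorem quot_cent {x : G} (hx : Bad x) :
    centralizer ({π x} : Set (G ⧸ center G)) = (centralizer ({x} : Set G)).map π ∧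
      IsCoatom (centralizer ({π x} : Set (G ⧸ center G))) ∧
      ¬ IsMulCommutative (centralizer ({π x} : Set (G ⧸ center G))) := by
  haveI := isSimple_quot hS hN
  set D := centralizer ({π x} : Set (G ⧸ center G)) with hD
  have hle : centralizer ({x} : Set G) ≤ D.comap π := fun y hy =>
    mem_comap.2 (mem_cent.2 (by rw [← map_mul, ← map_mul, mem_cent.1 hy]))
  have hDne : D ≠ ⊤ := fun h => hx.1 ((QuotientGroup.eq_one_iff x).1 (by
    have h1 : π x ∈ center (G ⧸ center G) := mem_center_iff.2 fun y => mem_cent.1 (show y ∈ D by rw [h]; exact mem_top y)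
    rwa [center_quot hS hN hperf, mem_bot] at h1))
  have hcne : D.comap π ≠ ⊤ := fun h => hDne (by
    rw [← map_comap_eq_self_of_surjective (QuotientGroup.mk'_surjective _) D, h,
      map_top_of_surjective _ (QuotientGroup.mk'_surjective _)])
  have heq := hS.eq_centralizer hx hle hcne
  have h1 : D = (centralizer ({x} : Set G)).map π := by
    rw [← heq, map_comap_eq_self_of_surjective (QuotientGroup.mk'_surjective _)]
  have hco : IsCoatom D := ⟨hDne, fun M hM => by
    have h2 : centralizer ({x} : Set G) < M.comap π :=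
      heq ▸ (comap_lt_comap_of_surjective (QuotientGroup.mk'_surjective _)).2 hM
    rw [← map_comap_eq_self_of_surjective (QuotientGroup.mk'_surjective _) M,
      (hS.isCoatom_of_bad hx).2 _ h2, map_top_of_surjective _ (QuotientGroup.mk'_surjective _)]⟩
  refine ⟨h1, hco, fun hcomm => ?_⟩
  haveI := hcomm
  haveI : Group.IsSolvable (G ⧸ center G) := ⟨⟨3, S0556.result D hco⟩⟩
  exact not_comm_quot hS hN hperf
    ⟨⟨fun a b => IsSimpleGroup.comm_iff_isSolvable.2 inferInstance a b⟩⟩

/-- The central element of order two disappears by transfer to an abelian Sylow subgroup. -/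
theorem eq_one_of_abelian_sylow (T : Sylow 2 G) (hT : IsMulCommutative (T : Subgroup G)) {z : G}
    (hz : z ∈ center G) (hz2 : z * z = 1) : z = 1 := by
  haveI : Fact (Nat.Prime 2) := ⟨Nat.prime_two⟩
  haveI := hT
  let f : G →* (T : Subgroup G) := MonoidHom.transfer (MonoidHom.id (T : Subgroup G))
  have hone : f z = 1 := by
    have : commutator G ≤ f.ker := Abelianization.commutator_subset_ker f
    exact MonoidHom.mem_ker.1 (this (hperf ▸ mem_top z))
  have key : ∀ (k : ℕ) (g₀ : G), g₀⁻¹ * z ^ k * g₀ ∈ (T : Subgroup G) → g₀⁻¹ * z ^ k * g₀ = z ^ k :=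
    fun k g₀ _ => by rw [mul_assoc, ← mem_center_iff.1 (pow_mem hz k) g₀, inv_mul_cancel_left]
  have h2 := MonoidHom.transfer_eq_pow (MonoidHom.id (T : Subgroup G)) z key
  rw [show MonoidHom.transfer (MonoidHom.id (T : Subgroup G)) z = f z from rfl, hone] at h2
  have h3 : z ^ (T : Subgroup G).index = 1 := (congrArg Subtype.val h2).symm
  have hodd := T.not_dvd_index
  obtain ⟨j, hj⟩ : Odd (T : Subgroup G).index := Nat.odd_iff.2 (by omega)
  rwa [hj, pow_succ, pow_mul, pow_two, hz2, one_pow, one_mul] at h3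

end Cfsg.Agent.MinNonCA.Quasi

namespace Cfsg.Agent.MinNonCA

open Subgroup Quasi
open Cfsg.Agent.Transfer.NormalPComplement

universe u

/-- Piece `Quasi`: a quasisimple minimal non-CA group is a `PSL(2,q)` with `q = 3, 5 mod 8`. -/
theorem quasi_fact (hM : MaxCentFact.{u}) (hA : AbelianSylowFact.{u}) : QuasiFact.{u} := by
  intro G _ _ hS hperf hN
  haveI : Fact (Nat.Prime 2) := ⟨Nat.prime_two⟩
  haveI := isSimple_quot hS hN
  have hnc := not_comm_quot hS hN hperf
  set π := QuotientGroup.mk' (center G) with hπdef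
  have hπs : Function.Surjective π := QuotientGroup.mk'_surjective _
  have hL : Listed (G ⧸ center G) := S3214.result hnc fun a ha => quot_complement hS hN hperf a ha
  obtain ⟨x₀, hx₀, r, hr, hxr⟩ := hS.exists_bad_pow
  have hord : orderOf (π x₀) = r := orderOf_eq_prime (hp := ⟨hr⟩)
    (by rw [← map_pow]; exact (QuotientGroup.eq_one_iff _).2 hxr)
    (fun h => hx₀.1 ((QuotientGroup.eq_one_iff _).1 h))
  obtain ⟨-, hco₀, hna₀⟩ := quot_cent hS hN hperf hx₀
  obtain ⟨h2, Tb, hTb⟩ := hM _ hL (π x₀) (hord.symm ▸ hr) hco₀ hna₀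
  rw [hord] at h2
  subst h2
  rw [pow_two] at hxr
  obtain ⟨x, k, hx, hx2, hxk, hxπ⟩ := two_part_bad hS hx₀ hxr
  rw [show π x₀ = π x from hxπ.symm] at hTb hna₀
  obtain ⟨hCmap, -, -⟩ := quot_cent hS hN hperf hx
  -- a Sylow subgroup of `G` in the centraliser of `x`
  set C := centralizer ({x} : Set G) with hC
  obtain ⟨T, hTC⟩ : ∃ T : Sylow 2 G, (T : Subgroup G) ≤ C := by
    obtain ⟨P⟩ : Nonempty (Sylow 2 C) := inferInstance
    have hidx : ¬ 2 ∣ C.index := by
      have hZC : center G ≤ C := center_le_centralizer _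
      have h1 : C.index = (centralizer ({π x} : Set (G ⧸ center G))).index := by
        rw [← index_comap_of_surjective _ hπs, hCmap, comap_map_eq, QuotientGroup.ker_mk', sup_of_le_left hZC]
      rw [h1]
      exact fun h => Tb.not_dvd_index (h.trans (index_dvd_of_le hTb))
    have hP : ¬ 2 ∣ ((P : Subgroup C).map C.subtype).index := by
      rw [index_map_subtype]
      exact fun h => (Nat.prime_two.dvd_mul.1 h).elim P.not_dvd_index hidx
    exact ⟨(P.2.map _).toSylow hP, map_subtype_le _⟩
  have hxT : x ∈ (T : Subgroup G) := by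
    have hz : IsPGroup 2 (zpowers x) :=
      IsPGroup.of_card_dvd_pow (n := k) (by rw [Nat.card_zpowers]; exact orderOf_dvd_of_pow_eq_one hxk)
    have hle : zpowers x ≤ normalizer ((T : Subgroup G) : Set G) := by
      refine zpowers_le.2 (mem_normalizer_iff.2 fun w => ⟨fun hw => ?_, fun hw => ?_⟩)
      · rwa [← mem_cent.1 (hTC hw), mul_inv_cancel_right]
      · have h2 := mem_cent.1 (hTC hw)
        rw [inv_mul_cancel_right] at h2
        rwa [← mul_left_cancel h2] at hw
    exact T.3 (T.2.to_sup_of_normal_left' hz hle) le_sup_left ▸ mem_sup_right (mem_zpowers x)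
  have hTab : IsMulCommutative (T : Subgroup G) := Classical.byContradiction fun h =>
    hx.1 (center_sylow_le hS hN hperf T h hxT fun t ht => mem_cent.1 (hTC ht))
  have hTbar : IsMulCommutative ((T.mapSurjective hπs : Sylow 2 (G ⧸ center G)) : Subgroup (G ⧸ center G)) := by
    rw [Sylow.coe_mapSurjective, isMulCommutative_iff']
    rintro _ ⟨a, ha, rfl⟩ _ ⟨b, hb, rfl⟩
    rw [← map_mul, ← map_mul, isMulCommutative_iff'.1 hTab a ha b hb]
  rcases hA _ hL _ hTbar with hall | ⟨F, iF, iT, h5, h8, ⟨e⟩⟩
  · exact absurd (hall (π x) fun h => hx.1 ((QuotientGroup.eq_one_iff x).1 h)) hna₀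
  refine ⟨F, iF, iT, h5, h8, ?_⟩
  obtain ⟨n, ⟨g⟩⟩ := Finite.exists_equiv_fin G
  let e0 : {x : Fin n // True} ≃ G := (Equiv.subtypeUnivEquiv fun _ => trivial).trans g.symm
  letI : Group {x : Fin n // True} := e0.group
  let eG : {x : Fin n // True} ≃* G := e0.mulEquiv
  let σ : {x : Fin n // True} →* Matrix.ProjectiveSpecialLinearGroup (Fin 2) F :=
    e.toMonoidHom.comp (π.comp eG.toMonoidHom)
  have hker : ∀ a, a ∈ σ.ker ↔ eG a ∈ center G := fun a => by
    rw [MonoidHom.mem_ker, ← QuotientGroup.eq_one_iff, ← map_eq_one_iff e e.injective]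
    rfl
  have hperf' : commutator {x : Fin n // True} = ⊤ := by
    rw [_root_.commutator_def, ← map_top_of_surjective eG.symm.toMonoidHom eG.symm.surjective,
      ← map_commutator, ← _root_.commutator_def, hperf]
  have hstem : Cfsg.IsStemExtension σ := by
    refine ⟨e.surjective.comp (hπs.comp eG.surjective), fun a ha => mem_center_iff.2 fun b => eG.injective ?_,
      hperf'.symm ▸ le_top⟩
    rw [map_mul, map_mul]
    exact mem_center_iff.1 ((hker a).1 ha) (eG b)
  have hmult := S2086.result (F := F) rfl 2 le_rfl (fun _ => by omega) (by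
    simp only [Set.mem_insert_iff, Set.mem_singleton_iff, Prod.mk.injEq, not_or, not_and]
    refine ⟨fun _ => by omega, fun _ => by omega, fun h => by omega, fun h => by omega, fun h => by omega⟩)
  obtain ⟨φ, hφ⟩ := hmult.2 {x : Fin n // True} σ hstem
  have hZ : ∀ z ∈ center G, z = 1 := by
    intro z hz
    obtain ⟨a, ha⟩ := hφ ⟨eG.symm z, (hker _).2 (by rwa [eG.apply_symm_apply])⟩
    have h2 : a * a = 1 := by
      have hg : Nat.gcd 2 (Fintype.card F - 1) = 2 := Nat.gcd_eq_left (by omega)
      exact (show ∀ d, d = 2 → ∀ u : Multiplicative (ZMod d), u * u = 1 by rintro d rfl; decide) _ hg a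
    refine eq_one_of_abelian_sylow hS hN hperf T hTab hz ?_
    have h3 := congrArg (fun u : σ.ker => eG u) (show φ a * φ a = 1 by rw [← map_mul, h2, map_one])
    rw [ha] at h3
    simpa using h3
  exact ⟨(QuotientGroup.quotientBot.symm.trans
    (QuotientGroup.quotientMulEquivOfEq ((Subgroup.eq_bot_iff_forall _).2 hZ).symm)).trans e⟩

end Cfsg.Agent.MinNonCA
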